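import Groth.Agent.CSA.ReducedCharpoly
import Mathlib.GroupTheory.Perm.Sign
import Mathlib.LinearAlgebra.Matrix.Determinant.Basic

/-!
# The period divides the degree

In a representation the reduced trace gives an element of `A ⊗ A` acting as the swap; the
antisymmetriser of the `n`-th tensor power then has rank one.
-/

namespace Groth.Agent.CSA

set_option linter.style.haveILetI false
set_option linter.unusedSectionVars false

open scoped TensorProduct
open TensorProduct

universe u v

variable {k : Type u} [Field k] {A : Type v} [Ring A] [Algebra k A] [IsCSA k A]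

theorem finrank_tpow (A : Type v) [Ring A] [Algebra k A] [IsCSA k A] (e : ℕ) :
    Module.finrank k (TPow k A e) = Module.finrank k A ^ e := by
  induction e with
  | zero => rw [(tpowZero k A).toLinearEquiv.finrank_eq, Module.finrank_self, pow_zero]
  | succ e ih =>
    rw [← (tpowAdd k A e 1).toLinearEquiv.finrank_eq, Module.finrank_tensorProduct,
      (tpowOne k A).toLinearEquiv.finrank_eq, ih, pow_succ]

section rep

variable {L : Type u} [Field L] [Algebra k L] {n d : ℕ} (f : A →ₐ[k] Matrix (Fin n) (Fin n) L)

/-- Product of entries. -/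
noncomputable def entryProd : MultilinearMap k (fun _ : Fin d => A)
    (Matrix (Fin d → Fin n) (Fin d → Fin n) L) :=
  (Matrix.ofLinearEquiv k).toLinearMap.compMultilinearMap <|
    MultilinearMap.pi fun x => MultilinearMap.pi fun y =>
      (MultilinearMap.mkPiAlgebra k (Fin d) L).compLinearMap fun i =>
        (Matrix.entryLinearMap k L (x i) (y i)).comp f.toLinearMap

theorem entryProd_apply (a : Fin d → A) (x y : Fin d → Fin n) :
    entryProd f a x y = ∏ i, f (a i) (x i) (y i) := rfl

theorem prod_ite_eq (P : Fin d → Prop) [DecidablePred P] :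
    (∏ i, if P i then (1 : L) else 0) = if ∀ i, P i then 1 else 0 := by
  rcases em (∀ i, P i) with h | h
  · rw [if_pos h]; exact Finset.prod_eq_one fun i _ => if_pos (h i)
  · rw [if_neg h]
    obtain ⟨i, hi⟩ := not_forall.1 h
    exact Finset.prod_eq_zero (Finset.mem_univ i) (if_neg hi)

theorem entryProd_one : entryProd (d := d) f 1 = 1 := by
  ext x y
  rw [entryProd_apply]
  simp only [Pi.one_apply, map_one, Matrix.one_apply]
  rw [prod_ite_eq]
  simp only [funext_iff]

theorem entryProd_mul (a b : Fin d → A) : entryProd f (a * b) = entryProd f a * entryProd f b := by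
  ext x y
  rw [entryProd_apply, Matrix.mul_apply]
  simp only [Pi.mul_apply, map_mul, Matrix.mul_apply, entryProd_apply, ← Finset.prod_mul_distrib]
  rw [Fintype.prod_sum]

/-- The representation of a tensor power. -/
noncomputable def tpowRep : TPow k A d →ₐ[k] Matrix (Fin d → Fin n) (Fin d → Fin n) L :=
  PiTensorProduct.liftAlgHom (entryProd f) (entryProd_one f) (entryProd_mul f)

theorem tpowRep_tprod (a : Fin d → A) : tpowRep f (PiTensorProduct.tprod k a) = entryProd f a :=
  PiTensorProduct.lift.tprod a

/-- The four-index coefficient. -/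
noncomputable def coeff4 (p q r s : Fin n) : A ⊗[k] A →ₗ[k] L :=
  TensorProduct.lift ((LinearMap.mul k L).compl₁₂
    ((Matrix.entryLinearMap k L p q).comp f.toLinearMap)
    ((Matrix.entryLinearMap k L r s).comp f.toLinearMap))

theorem coeff4_tmul (p q r s : Fin n) (a b : A) :
    coeff4 f p q r s (a ⊗ₜ b) = f a p q * f b r s := rfl

end rep

/-- Goldman's element: it is the swap in every representation. -/
theorem exists_swap_element (k : Type u) [Field k] (A : Type v) [Ring A] [Algebra k A] [IsCSA k A] :
    ∃ t : A ⊗[k] A, ∀ (L : Type u) [Field L] [Algebra k L] (n : ℕ)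
    (_ : n ^ 2 = Module.finrank k A) (f : A →ₐ[k] Matrix (Fin n) (Fin n) L) (p q r s : Fin n),
      coeff4 f p q r s t = if p = s ∧ q = r then 1 else 0 := by
  obtain ⟨z, hz⟩ := (mulLeftRight_bijective k A).2 ((rtraceLin k A).smulRight 1)
  refine ⟨TensorProduct.map LinearMap.id (MulOpposite.opLinearEquiv k).symm.toLinearMap z,
    fun L _ _ n hn f p q r s => ?_⟩
  haveI : Nonempty (Fin n) := ⟨p⟩
  have key : ∀ (z : A ⊗[k] Aᵐᵒᵖ) (x : A), f (AlgHom.mulLeftRight k A z x) p s = ∑ q, ∑ r,
      coeff4 f p q r s (TensorProduct.map LinearMap.id (MulOpposite.opLinearEquiv k).symm.toLinearMap z) *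
        f x q r := by
    intro z x
    induction z using TensorProduct.induction_on with
    | zero => simp
    | tmul a b =>
      rw [AlgHom.mulLeftRight_apply, map_mul, map_mul, Matrix.mul_apply]
      simp only [Matrix.mul_apply, Finset.sum_mul]
      rw [Finset.sum_comm]
      refine Finset.sum_congr rfl fun q _ => Finset.sum_congr rfl fun r _ => ?_
      simp only [TensorProduct.map_tmul, coeff4_tmul, LinearMap.id_apply, LinearEquiv.coe_coe,
        MulOpposite.coe_opLinearEquiv_symm]
      ring
    | add u v hu hv =>
      simp only [map_add, LinearMap.add_apply, Matrix.add_apply, hu, hv, add_mul, Finset.sum_add_distrib]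
  set t := TensorProduct.map LinearMap.id (MulOpposite.opLinearEquiv k).symm.toLinearMap z
  have hlin : ∀ X : Matrix (Fin n) (Fin n) L,
      ∑ q, ∑ r, coeff4 f p q r s t * X q r = if p = s then X.trace else 0 := by
    intro X
    obtain ⟨w, rfl⟩ := (repLift_bijective f (by simpa using hn)).2 X
    induction w using TensorProduct.induction_on with
    | zero => simp
    | tmul l x =>
      have h1 : f (AlgHom.mulLeftRight k A z x) p s = ∑ q, ∑ r, coeff4 f p q r s t * f x q r := key z x
      rw [hz, LinearMap.smulRight_apply, map_smul, map_one, Matrix.smul_apply] at h1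
      simp only [repLift_tmul, Matrix.trace_smul, rep_trace hn f, Matrix.smul_apply, smul_eq_mul]
      simp only [mul_left_comm _ l, ← Finset.mul_sum, ← h1]
      rw [Matrix.one_apply, Algebra.smul_def]
      change l * (algebraMap k L (rtrace k x) * _) = _
      split_ifs <;> simp
    | add a b ha hb =>
      simp only [map_add, Matrix.add_apply, mul_add, Finset.sum_add_distrib, ha, hb, Matrix.trace_add]
      split_ifs <;> simp
  have h := hlin (Matrix.single q r 1)
  rw [Finset.sum_eq_single q (fun b _ hb => Finset.sum_eq_zero fun c _ => by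
      rw [Matrix.single_apply, if_neg (fun h => hb h.1.symm), mul_zero]) (by simp),
    Finset.sum_eq_single r (fun c _ hc => by
      rw [Matrix.single_apply, if_neg (fun h => hc h.2.symm), mul_zero]) (by simp),
    Matrix.single_apply_same, mul_one] at h
  rw [h]
  by_cases hps : p = s
  · by_cases hqr : q = r
    · subst hqr; simp [hps, Matrix.trace]
    · simp [hps, hqr, Matrix.trace_single_eq_of_ne q r (1 : L) hqr]
  · simp [hps]

section perm

variable {L : Type u} [Field L] [Algebra k L] {n d : ℕ}

/-- The matrix of a permutation of the factors. -/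
def permMatrix (σ : Equiv.Perm (Fin d)) : Matrix (Fin d → Fin n) (Fin d → Fin n) L :=
  Matrix.of fun x y => if y = x ∘ σ then 1 else 0

theorem permMatrix_mul (σ τ : Equiv.Perm (Fin d)) :
    (permMatrix σ : Matrix (Fin d → Fin n) (Fin d → Fin n) L) * permMatrix τ = permMatrix (σ * τ) := by
  ext x y
  rw [Matrix.mul_apply, Finset.sum_eq_single (x ∘ σ)]
  · simp only [permMatrix, Matrix.of_apply, if_true, one_mul, Function.comp_assoc, Equiv.Perm.coe_mul]
    exact if_congr Iff.rfl rfl rfl
  · intro z _ hz
    simp [permMatrix, hz]
  · simp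

theorem permMatrix_one : (permMatrix 1 : Matrix (Fin d → Fin n) (Fin d → Fin n) L) = 1 := by
  ext x y
  simp [permMatrix, Matrix.one_apply, eq_comm]

theorem permMatrix_mem_range (hn : n ^ 2 = Module.finrank k A)
    (f : A →ₐ[k] Matrix (Fin n) (Fin n) L) (σ : Equiv.Perm (Fin d)) :
    ∃ g : TPow k A d, tpowRep f g = permMatrix σ := by
  induction σ using Equiv.Perm.swap_induction_on with
  | one => exact ⟨1, by rw [map_one, permMatrix_one]⟩
  | swap_mul σ i j hij ih =>
    obtain ⟨g, hg⟩ := ih
    obtain ⟨t, ht⟩ := exists_swap_element k A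
    let μ : A ⊗[k] A →ₐ[k] TPow k A d :=
      Algebra.TensorProduct.lift (PiTensorProduct.singleAlgHom (A := fun _ : Fin d => A) i)
        (PiTensorProduct.singleAlgHom (A := fun _ : Fin d => A) j)
        fun a b => Commute.tprod (R := k) (Pi.mulSingle_commute (f := fun _ : Fin d => A) hij a b)
    refine ⟨μ t * g, ?_⟩
    rw [map_mul, hg, ← permMatrix_mul]
    congr 1
    have key : ∀ (z : A ⊗[k] A) (x y : Fin d → Fin n), tpowRep f (μ z) x y =
        if ∀ l, l ≠ i → l ≠ j → x l = y l then coeff4 f (x i) (y i) (x j) (y j) z else 0 := by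
      intro z x y
      induction z using TensorProduct.induction_on with
      | zero => simp
      | tmul a b =>
        have hμ : μ (a ⊗ₜ b) = PiTensorProduct.tprod k (Pi.mulSingle i a * Pi.mulSingle j b) :=
          (Algebra.TensorProduct.lift_tmul _ _ _ a b).trans (PiTensorProduct.tprod_mul_tprod _ _)
        rw [hμ, tpowRep_tprod, entryProd_apply, coeff4_tmul]
        refine (Finset.prod_mul_prod_compl {i, j} _).symm.trans ?_
        rw [Finset.prod_pair hij]
        have e1 : (Pi.mulSingle i a * Pi.mulSingle j b : Fin d → A) i = a := by simp [hij]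
        have e2 : (Pi.mulSingle i a * Pi.mulSingle j b : Fin d → A) j = b := by simp [hij.symm]
        rw [e1, e2]
        have hrest : ∀ l ∈ ({i, j} : Finset (Fin d))ᶜ,
            f ((Pi.mulSingle i a * Pi.mulSingle j b : Fin d → A) l) (x l) (y l) =
              if x l = y l then 1 else 0 := by
          intro l hl
          simp only [Finset.mem_compl, Finset.mem_insert, Finset.mem_singleton, not_or] at hl
          simp [hl.1, hl.2, Matrix.one_apply]
        rw [Finset.prod_congr rfl hrest]
        rcases em (∀ l, l ≠ i → l ≠ j → x l = y l) with h | h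
        · rw [if_pos h, Finset.prod_eq_one fun l hl => ?_, mul_one]
          simp only [Finset.mem_compl, Finset.mem_insert, Finset.mem_singleton, not_or] at hl
          exact if_pos (h l hl.1 hl.2)
        · rw [if_neg h]
          push Not at h
          obtain ⟨l, hli, hlj, hl⟩ := h
          rw [Finset.prod_eq_zero (i := l) (by simp [hli, hlj]) (if_neg hl), mul_zero]
      | add u v hu hv =>
        rw [map_add, map_add, Matrix.add_apply, hu, hv, map_add]
        split_ifs <;> simp
    ext x y
    rw [key, ht L n hn f]
    simp only [permMatrix, Matrix.of_apply, funext_iff, Function.comp_apply]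
    by_cases h : ∀ l, y l = x (Equiv.swap i j l)
    · rw [if_pos h, if_pos, if_pos]
      · exact ⟨by rw [h j, Equiv.swap_apply_right], by rw [h i, Equiv.swap_apply_left]⟩
      · intro l h1 h2; rw [h l, Equiv.swap_apply_of_ne_of_ne h1 h2]
    · rw [if_neg h]
      split_ifs with h1 h2 <;> try rfl
      refine absurd (fun l => ?_) h
      rcases eq_or_ne l i with rfl | hi
      · rw [Equiv.swap_apply_left, h2.2]
      rcases eq_or_ne l j with rfl | hj
      · rw [Equiv.swap_apply_right, h2.1]
      rw [Equiv.swap_apply_of_ne_of_ne hi hj, h1 l hi hj]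

end perm

/-- The range of a base change has the same dimension. -/
theorem finrank_range_baseChange {V W : Type*} [AddCommGroup V] [Module k V] [AddCommGroup W]
    [Module k W] [FiniteDimensional k W] (g : V →ₗ[k] W) (L : Type*) [Field L] [Algebra k L] :
    Module.finrank L (LinearMap.range (g.baseChange L)) = Module.finrank k (LinearMap.range g) := by
  have hinj : Function.Injective ((LinearMap.range g).subtype.baseChange L) :=
    Module.Flat.lTensor_preserves_injective_linearMap _ Subtype.val_injective
  have heq : LinearMap.range (g.baseChange L) =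
      LinearMap.range ((LinearMap.range g).subtype.baseChange L) := by
    have hsurj : Function.Surjective (g.rangeRestrict.baseChange L) :=
      LinearMap.lTensor_surjective L g.surjective_rangeRestrict
    conv_lhs => rw [show g = (LinearMap.range g).subtype ∘ₗ g.rangeRestrict from rfl,
      LinearMap.baseChange_comp]
    exact LinearMap.range_comp_of_range_eq_top _ (LinearMap.range_eq_top.2 hsurj)
  rw [heq, LinearMap.finrank_range_of_inj hinj, Module.finrank_baseChange]

/-- An element of rank one in a representation splits the algebra. -/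
theorem brEq_one_of_rank_one {B : Type v} [Ring B] [Algebra k B] [IsCSA k B] {L : Type*} [Field L]
    [Algebra k L] {ι : Type*} [Fintype ι] [DecidableEq ι] (F : B →ₐ[k] Matrix ι ι L)
    (hι : Fintype.card ι ^ 2 = Module.finrank k B) (b : B) (w w' : ι → L) (hw : w ≠ 0) (hw' : w' ≠ 0)
    (hb : F b = Matrix.vecMulVec w w') : BrEq k B k := by
  haveI := nonempty_of_card_sq hι
  let V := LinearMap.range (LinearMap.mulRight k b)
  have hV : Module.finrank k V = Fintype.card ι := by
    rw [← finrank_range_baseChange (LinearMap.mulRight k b) L]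
    let e := (AlgEquiv.ofBijective (repLift F) (repLift_bijective F hι)).toLinearEquiv
    have hcomp : ∀ z, e ((LinearMap.mulRight k b).baseChange L z) = e z * F b := by
      intro z
      induction z using TensorProduct.induction_on with
      | zero => simp
      | tmul l a =>
        change repLift F ((LinearMap.mulRight k b).baseChange L (l ⊗ₜ a)) = repLift F (l ⊗ₜ a) * F b
        rw [LinearMap.baseChange_tmul, repLift_tmul, repLift_tmul, LinearMap.mulRight_apply, map_mul,
          smul_mul_assoc]
      | add a c ha hc => simp only [map_add, ha, hc, add_mul]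
    let Ψ : (ι → L) →ₗ[L] Matrix ι ι L :=
      { toFun := fun v => Matrix.vecMulVec v w'
        map_add' := fun v v' => Matrix.add_vecMulVec v v' w'
        map_smul' := fun c v => Matrix.smul_vecMulVec c v w' }
    have hΨ : Function.Injective Ψ := by
      intro v v' h
      obtain ⟨j, hj⟩ := Function.ne_iff.1 hw'
      funext i
      exact mul_right_cancel₀ hj (congrFun (congrFun h i) j)
    have hrange : (LinearMap.range ((LinearMap.mulRight k b).baseChange L)).map e.toLinearMap =
        LinearMap.range Ψ := by
      apply le_antisymm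
      · rintro _ ⟨_, ⟨z, rfl⟩, rfl⟩
        exact ⟨Matrix.mulVec (e z) w, by
          rw [LinearEquiv.coe_coe, hcomp, hb, Matrix.mul_vecMulVec]; rfl⟩
      · rintro _ ⟨v, rfl⟩
        obtain ⟨i, hi⟩ := Function.ne_iff.1 hw
        refine ⟨_, ⟨e.symm (Matrix.vecMulVec v (Pi.single i (w i)⁻¹)), rfl⟩, ?_⟩
        rw [LinearEquiv.coe_coe, hcomp, LinearEquiv.apply_symm_apply, hb, Matrix.mul_vecMulVec]
        change Matrix.vecMulVec _ w' = Matrix.vecMulVec v w'
        rw [Matrix.vecMulVec_mulVec, single_dotProduct, inv_mul_cancel₀ hi]
        simp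
    calc Module.finrank L _ = Module.finrank L ((LinearMap.range ((LinearMap.mulRight k b).baseChange L)).map e.toLinearMap) :=
          (e.finrank_map_eq _).symm
      _ = _ := by rw [hrange, LinearMap.finrank_range_of_inj hΨ, Module.finrank_fintype_fun_eq_card]
  haveI : Nontrivial V := Module.nontrivial_of_finrank_pos (R := k) (by rw [hV]; exact Fintype.card_pos)
  let α : B →ₐ[k] Module.End k V :=
    { toFun := fun c => (LinearMap.mulLeft k c).restrict fun x ⟨y, hy⟩ => ⟨c * y, by
        rw [← hy]; exact mul_assoc c y b⟩
      map_one' := LinearMap.ext fun x => Subtype.ext (one_mul _)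
      map_mul' := fun c c' => LinearMap.ext fun x => Subtype.ext (mul_assoc _ _ _)
      map_zero' := LinearMap.ext fun x => Subtype.ext (zero_mul _)
      map_add' := fun c c' => LinearMap.ext fun x => Subtype.ext (add_mul _ _ _)
      commutes' := fun r => LinearMap.ext fun x => Subtype.ext (Algebra.smul_def r _).symm }
  have hα : Function.Bijective α := by
    have hinj : Function.Injective α := RingHom.injective α.toRingHom
    have hfin : Module.finrank k B = Module.finrank k (Module.End k V) := by
      rw [Module.finrank_linearMap k k V V, hV, ← hι, sq]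
    have hsurj : Function.Surjective α.toLinearMap :=
      (LinearMap.injective_iff_surjective_of_finrank_eq_finrank (K := k) (V := B)
        (V₂ := Module.End k V) hfin (f := α.toLinearMap)).1 hinj
    exact ⟨hinj, hsurj⟩
  exact BrEq.of_exists_matrix (Module.finrank_pos (R := k) (M := V)).ne'
    ((AlgEquiv.ofBijective α hα).trans (algEquivMatrix (Module.finBasis k V)))

/-- The `deg A`-th tensor power is split. -/
theorem tpow_deg_brEq (A : Type v) [Ring A] [Algebra k A] [IsCSA k A] {n : ℕ}
    (hn : n ^ 2 = Module.finrank k A) : BrEq k (TPow k A n) k := by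
  classical
  obtain ⟨K, _, _, _, _, ⟨f⟩⟩ := exists_galois_rep k A hn
  choose g hg using fun σ => permMatrix_mem_range (d := n) hn f σ
  let a := ∑ σ : Equiv.Perm (Fin n), ((Equiv.Perm.sign σ : ℤ) : k) • g σ
  let E : (Fin n → Fin n) → Matrix (Fin n) (Fin n) K := fun x =>
    Matrix.of fun i c => if x i = c then 1 else 0
  let w : (Fin n → Fin n) → K := fun x => (E x).det
  have hM : ∀ x y, (E x * (E y).transpose) = Matrix.of fun i j => if y j = x i then (1 : K) else 0 := by
    intro x y
    ext i j
    rw [Matrix.mul_apply, Finset.sum_eq_single (x i)]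
    · simp [E]
    · intro c _ hc; simp [E, Ne.symm hc]
    · simp
  have ha : tpowRep f a = Matrix.vecMulVec w w := by
    ext x y
    have h := congrArg Matrix.det (hM x y)
    rw [Matrix.det_mul, Matrix.det_transpose] at h
    change _ = (E x).det * (E y).det
    rw [h, Matrix.det_apply', map_sum, Matrix.sum_apply]
    refine Finset.sum_congr rfl fun σ _ => ?_
    rw [map_smul, hg, Matrix.smul_apply, Algebra.smul_def, map_intCast]
    congr 1
    simp only [Matrix.of_apply, permMatrix]
    rw [prod_ite_eq]
    simp only [funext_iff, Function.comp_apply]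
  have hw : w ≠ 0 := Function.ne_iff.2 ⟨id, by
    have : E id = 1 := by ext i j; simp [E, Matrix.one_apply]
    simp [w, this]⟩
  exact brEq_one_of_rank_one (tpowRep f) (by
    rw [finrank_tpow, ← hn, Fintype.card_fun, Fintype.card_fin, ← pow_mul, ← pow_mul, Nat.mul_comm])
    a w w hw hw ha

theorem isPeriod_dvd_deg {e n : ℕ} (he : CSAGal.IsPeriod k A e) (hn : Module.finrank k A = n ^ 2) :
    e ∣ n :=
  (isPeriod_trivial_iff_dvd he n).1 (tpow_deg_brEq A hn.symm)

theorem isPeriod_dvd_index {e d : ℕ} (he : CSAGal.IsPeriod k A e) (hd : CSAGal.IsIndex k A d) :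
    e ∣ d := by
  obtain ⟨-, m, D, _, _, _, -, hfin, hAD, -⟩ := isIndex_data hd
  exact (isPeriod_trivial_iff_dvd he d).1 ((hAD.tpow d).trans (tpow_deg_brEq D hfin.symm))

theorem exists_isPeriod (A : Type v) [Ring A] [Algebra k A] [IsCSA k A] :
    ∃ e, CSAGal.IsPeriod k A e := by
  classical
  obtain ⟨n, hn0, hn⟩ := exists_sq_eq_finrank' (k := k) (A := A)
  have hex : ∃ e, 0 < e ∧ Curves.Splits k (TPow k A e) k :=
    ⟨n, hn0, (splits_self_iff_brEq (TPow k A n)).2 (tpow_deg_brEq A hn)⟩
  exact ⟨Nat.find hex, (Nat.find_spec hex).1, (Nat.find_spec hex).2,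
    fun e' h1 h2 h3 => Nat.find_min hex h2 ⟨h1, h3⟩⟩

end Groth.Agent.CSA
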