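import Groth.Agent.CSA.Index
import Groth.Agent.CSA.PeriodIndex
import Mathlib.Data.Finset.Sort
import Mathlib.Data.Fintype.Powerset
import Mathlib.LinearAlgebra.Matrix.ToLin

/-!
# The index divides the rank of every element

A left ideal of a matrix algebra over a division algebra consists of the matrices with rows in a
fixed subspace.  Applied to the antisymmetriser, the index of the `r`-th tensor power divides
`d.choose r`.
-/

namespace Groth.Agent.CSA

set_option linter.style.haveILetI false
set_option linter.unusedSectionVars false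

open scoped TensorProduct
open TensorProduct

universe u v w

variable {k : Type u} [Field k]

/-- A left ideal of a matrix algebra over a division algebra. -/
theorem dvd_finrank_leftIdeal {D : Type v} [DivisionRing D] [Algebra k D] [FiniteDimensional k D]
    {m : ℕ} [NeZero m] (W : Submodule k (Matrix (Fin m) (Fin m) D))
    (hW : ∀ (X : Matrix (Fin m) (Fin m) D), ∀ Y ∈ W, X * Y ∈ W) :
    m * Module.finrank k D ∣ Module.finrank k W := by
  have hmove : ∀ (X : Matrix (Fin m) (Fin m) D) (i j : Fin m) (δ : D),
      Matrix.single i j δ * X = Matrix.of (Pi.single i (δ • X j) : Fin m → Fin m → D) := by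
    intro X i j δ
    ext a b
    rcases eq_or_ne a i with rfl | ha
    · simp [Matrix.of_apply]
    · simp [Matrix.single_mul_apply_of_ne, ha, Matrix.of_apply]
  let R : Submodule D (Fin m → D) :=
    { carrier := {v | Matrix.of (Pi.single 0 v : Fin m → Fin m → D) ∈ W}
      add_mem' := fun {a b} ha hb => by
        have hadd := W.add_mem ha hb
        change Matrix.of (Pi.single 0 (a + b) : Fin m → Fin m → D) ∈ W
        rw [Pi.single_add]
        exact hadd
      zero_mem' := by
        change Matrix.of (Pi.single 0 (0 : Fin m → D) : Fin m → Fin m → D) ∈ W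
        rw [Pi.single_zero]
        exact W.zero_mem
      smul_mem' := fun c v hv => by
        have h := hW (Matrix.single 0 0 c) _ hv
        rw [hmove] at h
        have he : (Matrix.of (Pi.single 0 v : Fin m → Fin m → D)) 0 = v := by
          change (Pi.single 0 v : Fin m → Fin m → D) 0 = v
          exact Pi.single_eq_same _ _
        rw [he] at h
        exact h }
  have hiff : ∀ X : Matrix (Fin m) (Fin m) D, X ∈ W ↔ ∀ i, X i ∈ R := by
    intro X
    constructor
    · intro hX i
      have h := hW (Matrix.single 0 i 1) X hX
      rwa [hmove, one_smul] at h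
    · intro hX
      have hsum : X = ∑ i, Matrix.single i 0 1 * Matrix.of (Pi.single 0 (X i) : Fin m → Fin m → D) := by
        ext a b
        simp only [hmove, Matrix.sum_apply, Matrix.of_apply, one_smul]
        rw [Finset.sum_eq_single a (fun c _ hc => by simp [Ne.symm hc]) (by simp)]
        simp
      rw [hsum]
      exact W.sum_mem fun i _ => hW _ _ (hX i)
  let e : W ≃ₗ[k] (Fin m → R.restrictScalars k) :=
    { toFun := fun X i => ⟨X.1 i, (hiff X.1).1 X.2 i⟩
      map_add' := fun X Y => rfl
      map_smul' := fun c X => rfl
      invFun := fun r => ⟨Matrix.of fun i => (r i).1, (hiff _).2 fun i => (r i).2⟩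
      left_inv := fun X => rfl
      right_inv := fun r => rfl }
  have hR : Module.finrank k (R.restrictScalars k) = Module.finrank k D * Module.finrank D R := by
    rw [← ((Submodule.restrictScalarsEquiv k D (Fin m → D) R).restrictScalars k).symm.finrank_eq,
      ← Module.finrank_mul_finrank k D R]
  rw [e.finrank_eq, Module.finrank_pi_fintype, Finset.sum_const, Finset.card_univ, Fintype.card_fin,
    smul_eq_mul, hR, ← mul_assoc]
  exact dvd_mul_right _ _

section rank

variable {L : Type*} [Field L] [Algebra k L] {ι : Type*} [Fintype ι] [DecidableEq ι]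

theorem finrank_range_mulRight_matrix (M : Matrix ι ι L) :
    Module.finrank L (LinearMap.range (LinearMap.mulRight L M)) =
      Fintype.card ι * Module.finrank L (LinearMap.range M.vecMulLinear) := by
  let e : LinearMap.range (LinearMap.mulRight L M) ≃ₗ[L] (ι → LinearMap.range M.vecMulLinear) :=
    { toFun := fun X i => ⟨X.1 i, by
        obtain ⟨Y, hY⟩ := X.2
        exact ⟨Y i, by rw [← hY]; rfl⟩⟩
      map_add' := fun X Y => rfl
      map_smul' := fun c X => rfl
      invFun := fun r => ⟨Matrix.of fun i => (r i).1, by
        choose y hy using fun i => (r i).2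
        exact ⟨Matrix.of y, funext fun i => hy i⟩⟩
      left_inv := fun X => rfl
      right_inv := fun r => rfl }
  rw [e.finrank_eq, Module.finrank_pi_fintype, Finset.sum_const, Finset.card_univ, smul_eq_mul]

theorem isIndex_dvd_rank {B : Type v} [Ring B] [Algebra k B] [IsCSA k B] (F : B →ₐ[k] Matrix ι ι L)
    (hι : Fintype.card ι ^ 2 = Module.finrank k B) (b : B) {d : ℕ} (hd : CSAGal.IsIndex k B d) :
    d ∣ Module.finrank L (LinearMap.range (F b).vecMulLinear) := by
  haveI := nonempty_of_card_sq hι
  obtain ⟨hd0, m, D, _, _, _, hm, hfin, -, ⟨e⟩⟩ := isIndex_data hd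
  haveI : NeZero m := ⟨hm.ne'⟩
  have hN : Fintype.card ι = m * d := by
    refine Nat.pow_left_injective two_ne_zero (show Fintype.card ι ^ 2 = (m * d) ^ 2 from ?_)
    rw [hι, e.toLinearEquiv.finrank_eq, Module.finrank_matrix, hfin, Fintype.card_fin]
    ring
  have hV : Module.finrank k (LinearMap.range (LinearMap.mulRight k b)) =
      Fintype.card ι * Module.finrank L (LinearMap.range (F b).vecMulLinear) := by
    rw [← finrank_range_baseChange (LinearMap.mulRight k b) L, ← finrank_range_mulRight_matrix]
    let g := (AlgEquiv.ofBijective (repLift F) (repLift_bijective F hι)).toLinearEquiv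
    have hcomp : g.toLinearMap ∘ₗ (LinearMap.mulRight k b).baseChange L =
        LinearMap.mulRight L (F b) ∘ₗ g.toLinearMap := by
      refine TensorProduct.AlgebraTensorModule.ext fun l a => ?_
      change repLift F ((LinearMap.mulRight k b).baseChange L (l ⊗ₜ a)) = repLift F (l ⊗ₜ a) * F b
      rw [LinearMap.baseChange_tmul, repLift_tmul, repLift_tmul, LinearMap.mulRight_apply, map_mul,
        smul_mul_assoc]
    rw [← g.finrank_map_eq, ← LinearMap.range_comp, hcomp, LinearMap.range_comp_of_range_eq_top _ g.range]
  let W : Submodule k (Matrix (Fin m) (Fin m) D) :=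
    (LinearMap.range (LinearMap.mulRight k b)).map e.toLinearEquiv.toLinearMap
  have hdvd := dvd_finrank_leftIdeal W fun X Y hY => by
    obtain ⟨_, ⟨c, rfl⟩, rfl⟩ := hY
    exact ⟨_, ⟨e.symm X * c, rfl⟩, by
      change e (e.symm X * c * b) = X * e (c * b)
      rw [mul_assoc, map_mul, AlgEquiv.apply_symm_apply]⟩
  have hW : Module.finrank k W = Module.finrank k (LinearMap.range (LinearMap.mulRight k b)) :=
    e.toLinearEquiv.finrank_map_eq _
  rw [hW, hV, hN, hfin, sq, ← mul_assoc] at hdvd
  exact Nat.dvd_of_mul_dvd_mul_left (Nat.mul_pos hm hd0) hdvd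

end rank

section antisymm

variable (L : Type*) [Field L] (d r : ℕ)

/-- The matrix of the antisymmetriser. -/
def antisymmMatrix : Matrix (Fin r → Fin d) (Fin r → Fin d) L :=
  Matrix.of fun x y => (Matrix.of fun i j => if y j = x i then (1 : L) else 0).det

theorem rank_antisymmMatrix :
    Module.finrank L (LinearMap.range (antisymmMatrix L d r).vecMulLinear) = d.choose r := by
  classical
  let ν := {S : Finset (Fin d) // S.card = r}
  let σ : ν → Fin r → Fin d := fun S c => S.1.orderEmbOfFin S.2 c
  let E : ν → (Fin r → Fin d) → Matrix (Fin r) (Fin r) L := fun S x =>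
    Matrix.of fun i c => if x i = σ S c then 1 else 0
  let v : ν → (Fin r → Fin d) → L := fun S x => (E S x).det
  have hσ : ∀ S, Function.Injective (σ S) := fun S => (S.1.orderEmbOfFin S.2).injective
  have hσS : ∀ (S : ν) a, a ∈ S.1 → ∃ c, σ S c = a := fun S a ha => by
    have h : a ∈ Set.range (S.1.orderEmbOfFin S.2) := by rw [Finset.range_orderEmbOfFin]; exact ha
    exact h
  have hvσ : ∀ S T, v S (σ T) = if T = S then 1 else 0 := by
    intro S T
    by_cases h : T = S
    · subst h
      rw [if_pos rfl]
      have : E T (σ T) = 1 := by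
        ext i c
        simp [E, Matrix.one_apply, (hσ T).eq_iff]
      simp [v, this]
    · rw [if_neg h]
      obtain ⟨a, haT, haS⟩ : ∃ a, a ∈ T.1 ∧ a ∉ S.1 := by
        by_contra hne
        push Not at hne
        exact h (Subtype.ext (Finset.eq_of_subset_of_card_le hne (by rw [T.2, S.2])))
      obtain ⟨i, hi⟩ := hσS T a haT
      exact Matrix.det_eq_zero_of_row_eq_zero i fun c => if_neg fun h' : σ T i = σ S c =>
        haS (hi ▸ h' ▸ Finset.orderEmbOfFin_mem S.1 S.2 c)
  have hM : ∀ x y, antisymmMatrix L d r x y = ∑ S, v S x * v S y := by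
    intro x y
    by_cases hx : Function.Injective x
    · let S0 : ν := ⟨Finset.univ.image x, by
        rw [Finset.card_image_of_injective _ hx, Finset.card_univ, Fintype.card_fin]⟩
      rw [Finset.sum_eq_single S0 (fun S _ hS => ?_) (by simp)]
      · change _ = (E S0 x).det * (E S0 y).det
        rw [← Matrix.det_transpose (E S0 y), ← Matrix.det_mul]
        refine congrArg Matrix.det ?_
        ext i j
        obtain ⟨c0, hc0⟩ := hσS S0 (x i) (Finset.mem_image_of_mem x (Finset.mem_univ i))
        rw [Matrix.mul_apply, Finset.sum_eq_single c0]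
        · simp [E, hc0]
        · intro c _ hc
          have : x i ≠ σ S0 c := fun h => hc (hσ S0 (h.symm.trans hc0.symm))
          simp [E, this]
        · simp
      · obtain ⟨i, hi⟩ : ∃ i, x i ∉ S.1 := by
          by_contra hne
          push Not at hne
          exact hS (Subtype.ext (Finset.eq_of_subset_of_card_le
            (Finset.image_subset_iff.2 fun i _ => hne i) (by rw [S.2, S0.2])).symm)
        have : v S x = 0 := Matrix.det_eq_zero_of_row_eq_zero i fun c => if_neg fun h' : x i = σ S c =>
          hi (h' ▸ Finset.orderEmbOfFin_mem S.1 S.2 c)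
        rw [this, zero_mul]
    · obtain ⟨i, i', hii, hne⟩ := Function.not_injective_iff.1 hx
      rw [Finset.sum_eq_zero fun S _ => ?_]
      · exact Matrix.det_zero_of_row_eq hne (funext fun j => by simp [hii])
      · have : v S x = 0 := Matrix.det_zero_of_row_eq hne (funext fun j => by simp [E, hii])
        rw [this, zero_mul]
  have hv : LinearIndependent L v := by
    rw [Fintype.linearIndependent_iff]
    intro g hg S
    have h := congrFun hg (σ S)
    simp only [Finset.sum_apply, Pi.smul_apply, smul_eq_mul, Pi.zero_apply] at h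
    rw [Finset.sum_eq_single S (fun T _ hT => by rw [hvσ, if_neg (Ne.symm hT), mul_zero]) (by simp),
      hvσ, if_pos rfl, mul_one] at h
    exact h
  have hrange : LinearMap.range (antisymmMatrix L d r).vecMulLinear = Submodule.span L (Set.range v) := by
    apply le_antisymm
    · rintro _ ⟨z, rfl⟩
      have : (antisymmMatrix L d r).vecMulLinear z = ∑ S, (∑ x, z x * v S x) • v S := by
        ext y
        simp only [Matrix.vecMulLinear_apply, Matrix.vecMul, dotProduct, hM, Finset.sum_apply,
          Pi.smul_apply, smul_eq_mul, Finset.mul_sum, Finset.sum_mul, mul_assoc]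
        exact Finset.sum_comm
      rw [this]
      exact Submodule.sum_mem _ fun S _ => Submodule.smul_mem _ _ (Submodule.subset_span ⟨S, rfl⟩)
    · rw [Submodule.span_le]
      rintro _ ⟨S, rfl⟩
      refine ⟨Pi.single (σ S) 1, funext fun y => ?_⟩
      rw [Matrix.vecMulLinear_apply, Matrix.single_one_vecMul]
      change antisymmMatrix L d r (σ S) y = _
      rw [hM, Finset.sum_eq_single S (fun T _ hT => by rw [hvσ, if_neg (Ne.symm hT), zero_mul]) (by simp),
        hvσ, if_pos rfl, one_mul]
  rw [hrange, finrank_span_eq_card hv, Fintype.card_finset_len, Fintype.card_fin]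

end antisymm

theorem isIndex_tpow_dvd_choose {A : Type v} [Ring A] [Algebra k A] [IsCSA k A] {d r d' : ℕ}
    (hd : CSAGal.IsIndex k A d) (hd' : CSAGal.IsIndex k (TPow k A r) d') : d' ∣ d.choose r := by
  classical
  obtain ⟨-, m, D, _, _, _, -, hfin, hAD, -⟩ := isIndex_data hd
  have hdD : CSAGal.IsIndex k (TPow k D r) d' := isIndex_congr (hAD.tpow r) hd'
  obtain ⟨K, _, _, _, _, ⟨f⟩⟩ := exists_galois_rep k D hfin.symm
  choose g hg using fun σ => permMatrix_mem_range (d := r) hfin.symm f σ
  let a := ∑ σ : Equiv.Perm (Fin r), ((Equiv.Perm.sign σ : ℤ) : k) • g σ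
  have ha : tpowRep f a = antisymmMatrix K d r := by
    ext x y
    change _ = (Matrix.of fun i j => if y j = x i then (1 : K) else 0).det
    rw [Matrix.det_apply', map_sum, Matrix.sum_apply]
    refine Finset.sum_congr rfl fun σ _ => ?_
    rw [map_smul, hg, Matrix.smul_apply, Algebra.smul_def, map_intCast]
    congr 1
    simp only [Matrix.of_apply, permMatrix]
    rw [prod_ite_eq]
    simp only [funext_iff, Function.comp_apply]
  have h := isIndex_dvd_rank (tpowRep f) (by
    rw [finrank_tpow, hfin, Fintype.card_fun, Fintype.card_fin, Fintype.card_fin, ← pow_mul, ← pow_mul,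
      Nat.mul_comm]) a hdD
  rwa [ha, rank_antisymmMatrix] at h

end Groth.Agent.CSA
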