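import Groth.Agent.CSA.PeriodPrimes
import Groth.Agent.CSA.IndexRank
import Mathlib.Data.Nat.Choose.Lucas

/-!
# The index of tensor powers
-/

set_option linter.style.haveILetI false
set_option linter.unusedSectionVars false

namespace Groth.Agent.CSA

open scoped TensorProduct

universe u v

variable {k : Type u} [Field k] {A : Type v} [Ring A] [Algebra k A] [IsCSA k A]

theorem brEq_tpow_of_eq {x y : ℕ} (h : x = y) : BrEq k (TPow k A x) (TPow k A y) := by
  subst h; exact BrEq.refl k _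

/-- Tensor powers only depend on the exponent modulo the period. -/
theorem brEq_tpow_of_modEq {p : ℕ} (hp : CSAGal.IsPeriod k A p) {x y : ℕ} (h : x ≡ y [MOD p]) :
    BrEq k (TPow k A x) (TPow k A y) := by
  have key : ∀ z, BrEq k (TPow k A z) (TPow k A (z % p)) := fun z => by
    exact (brEq_tpow_of_eq (Nat.mod_add_div z p).symm).trans <| (tpow_add_brEq _ _).trans ((((isPeriod_trivial_iff_dvd hp _).2 (dvd_mul_right p (z / p))).tensor_left _).trans
      (BrEq.tensor_one _))
  have h' : x % p = y % p := h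
  exact (key x).trans (h' ▸ (key y).symm)

/-- If `A^x ∼ A^(y c)` then the index of `A^x` divides that of `A^y`. -/
theorem isIndex_tpow_dvd_tpow {x y c dx dy : ℕ} (h : BrEq k (TPow k A x) (TPow k A (y * c)))
    (hx : CSAGal.IsIndex k (TPow k A x) dx) (hy : CSAGal.IsIndex k (TPow k A y) dy) : dx ∣ dy :=
  isIndex_tpow_dvd hy c (isIndex_congr (h.trans (BrEq.tpow_mul A y c).symm) hx)

theorem not_dvd_choose_pred {l q : ℕ} (hl : l.Prime) (hlq : l ∣ q) (hq : 0 < q) : ¬ l ∣ (q - 1).choose (l - 1) := by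
  haveI : Fact l.Prime := ⟨hl⟩
  obtain ⟨u, rfl⟩ := hlq
  have hu : 0 < u := Nat.pos_of_mul_pos_left hq
  have hl1 := hl.one_lt
  have he : l * u - 1 = (l - 1) + l * (u - 1) := by
    obtain ⟨u, rfl⟩ := Nat.exists_eq_succ_of_ne_zero hu.ne'
    rw [Nat.mul_succ, Nat.succ_sub_one]
    omega
  have h := Choose.choose_modEq_choose_mod_mul_choose_div_nat (p := l) (n := l * u - 1) (k := l - 1)
  rw [he, Nat.add_mul_mod_self_left, Nat.mod_eq_of_lt (by omega : l - 1 < l), Nat.choose_self,
    Nat.div_eq_of_lt (by omega : l - 1 < l), Nat.choose_zero_right, mul_one, ← he] at h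
  intro hd
  have h1 := h.symm.trans (Nat.modEq_zero_iff_dvd.2 hd)
  exact hl.one_lt.ne' (Nat.eq_one_of_dvd_one (Nat.modEq_zero_iff_dvd.1 h1))

/-- The period of a tensor power divides its index. -/
theorem div_gcd_dvd_index {p : ℕ} (hp : CSAGal.IsPeriod k A p) (j : ℕ) {d : ℕ}
    (hd : CSAGal.IsIndex k (TPow k A j) d) : p / Nat.gcd p j ∣ d := by
  obtain ⟨e, he⟩ := exists_isPeriod (k := k) (TPow k A j)
  refine dvd_trans ?_ (isPeriod_dvd_index he hd)
  have h : p ∣ j * e := (isPeriod_trivial_iff_dvd hp _).1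
    ((BrEq.tpow_mul A j e).symm.trans ((isPeriod_trivial_iff_dvd he e).2 dvd_rfl))
  have hg : 0 < Nat.gcd p j := Nat.gcd_pos_of_pos_left _ hp.1
  refine (Nat.coprime_div_gcd_div_gcd hg).dvd_of_dvd_mul_left ?_
  rw [← Nat.mul_dvd_mul_iff_left hg, ← mul_assoc, Nat.mul_div_cancel' (Nat.gcd_dvd_left _ _),
    Nat.mul_div_cancel' (Nat.gcd_dvd_right _ _)]
  exact h

/-- If period and index are both `p` and `g ∣ p`, the index of `A^g` divides `p / g`. -/
theorem isIndex_tpow_dvd_div {p : ℕ} (hp : CSAGal.IsPeriod k A p) (hi : CSAGal.IsIndex k A p) :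
    ∀ g, g ∣ p → ∀ d, CSAGal.IsIndex k (TPow k A g) d → d ∣ p / g := by
  intro g
  induction g using Nat.strong_induction_on with
  | _ g ih =>
    intro hg d hd
    rcases eq_or_ne g 1 with rfl | hg1
    · rw [Nat.div_one, isIndex_unique (isIndex_congr (BrEq.of_algEquiv k (tpowOne k A)) hd) hi]
    · have hg0 : 0 < g := Nat.pos_of_dvd_of_pos hg hp.1
      have hl : g.minFac.Prime := Nat.minFac_prime hg1
      obtain ⟨g', hg'⟩ := Nat.minFac_dvd g
      set l := g.minFac
      have hg'0 : 0 < g' := Nat.pos_of_ne_zero fun h => by rw [h, mul_zero] at hg'; omega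
      have hlt : g' < g := hg' ▸ lt_mul_of_one_lt_left hg'0 hl.one_lt
      have hg'p : g' ∣ p := dvd_trans ⟨l, hg'.trans (mul_comm _ _)⟩ hg
      obtain ⟨q, hq⟩ := exists_isIndex (k := k) (TPow k A g')
      have hqe : q = p / g' := Nat.dvd_antisymm (ih g' hlt hg'p q hq) (by
        have := div_gcd_dvd_index hp g' hq
        rwa [Nat.gcd_eq_right hg'p] at this)
      obtain ⟨u, hu⟩ := hg
      have hqlu : q = l * u := by
        rw [hqe, hu, hg', show l * g' * u = g' * (l * u) by ring, Nat.mul_div_cancel_left _ hg'0]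
      have hu0 : 0 < u := Nat.pos_of_ne_zero fun h => by
        rw [h, mul_zero] at hu; exact hp.1.ne' hu
      have hd' : CSAGal.IsIndex k (TPow k (TPow k A g') l) d :=
        isIndex_congr ((BrEq.tpow_mul A g' l).trans (brEq_tpow_of_eq (by rw [hg', mul_comm]))).symm hd
      have h1 : d ∣ q := isIndex_tpow_dvd hq l hd'
      have h2 : d ∣ q.choose l := isIndex_tpow_dvd_choose hq hd'
      have h3 : q.choose l = u * (q - 1).choose (l - 1) := by
        have h := Nat.add_one_mul_choose_eq (q - 1) (l - 1)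
        have hq0 : 0 < q := hq.1
        have hl1 := hl.one_lt
        rw [Nat.sub_add_cancel hq0, Nat.sub_add_cancel hl.one_lt.le] at h
        refine Nat.eq_of_mul_eq_mul_right hl.pos ?_
        rw [← h, hqlu]; ring
      rw [hu, Nat.mul_div_cancel_left _ hg0]
      have hq0' : 0 < q := hq.1
      have hcop : Nat.Coprime l ((q - 1).choose (l - 1)) :=
        hl.coprime_iff_not_dvd.2 (not_dvd_choose_pred hl (Dvd.intro u hqlu.symm) hq0')
      rw [h3] at h2
      rw [hqlu, mul_comm] at h1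
      have h4 := Nat.dvd_gcd h1 h2
      rwa [Nat.gcd_mul_left, show Nat.gcd l ((q - 1).choose (l - 1)) = 1 from hcop, mul_one] at h4

/-- If period and index are both `p`, the index of `A^j` is `p / gcd(p, j)`. -/
theorem isIndex_tpow_eq {p : ℕ} (hp : CSAGal.IsPeriod k A p) (hi : CSAGal.IsIndex k A p) (j : ℕ) {d : ℕ}
    (hd : CSAGal.IsIndex k (TPow k A j) d) : d = p / Nat.gcd p j := by
  refine Nat.dvd_antisymm ?_ (div_gcd_dvd_index hp j hd)
  obtain ⟨c, hc⟩ := Nat.gcd_dvd_right p j
  obtain ⟨e, he⟩ := exists_isIndex (k := k) (TPow k A (Nat.gcd p j))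
  refine dvd_trans (isIndex_tpow_dvd_tpow (c := c) (brEq_tpow_of_eq hc) hd he) ?_
  exact isIndex_tpow_dvd_div hp hi _ (Nat.gcd_dvd_left p j) e he

end Groth.Agent.CSA
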