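import Groth.Agent.CSA.Brauer
import Groth.Prelude.Def_GSzCSA

/-!
# Index and period of central simple algebras; splitting fields
-/

namespace Groth.Agent.CSA

set_option linter.style.haveILetI false

open scoped TensorProduct
open TensorProduct

universe u v w

variable {k : Type u} [Field k]

section baseChangeTensor

variable (L : Type*) [Field L] [Algebra k L] (A B : Type*) [Ring A] [Algebra k A] [Ring B] [Algebra k B]

/-- `L ⊗ (A ⊗ B) ≅ (L ⊗ A) ⊗ (L ⊗ B)`. -/
noncomputable def distribBC :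
    L ⊗[k] (A ⊗[k] B) ≃ₐ[L] (L ⊗[k] A) ⊗[L] (L ⊗[k] B) :=
  Algebra.TensorProduct.algEquivOfLinearEquivTensorProduct
    (TensorProduct.AlgebraTensorModule.distribBaseChange k L A B)
    (fun a₁ a₂ b₁ b₂ => by
      induction b₁ using TensorProduct.induction_on with
      | zero => simp [zero_mul]
      | tmul a b =>
        induction b₂ using TensorProduct.induction_on with
        | zero => simp [mul_zero]
        | tmul a' b' => simp [Algebra.TensorProduct.tmul_mul_tmul]
        | add x y hx hy => simp only [mul_add, TensorProduct.tmul_add, map_add, hx, hy]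
      | add x y hx hy => simp only [add_mul, TensorProduct.tmul_add, map_add, hx, hy])
    (by simp [Algebra.TensorProduct.one_def])

/-- `L ⊗ k ≅ L`. -/
noncomputable def baseChangeSelf : L ⊗[k] k ≃ₐ[L] L := Algebra.TensorProduct.rid k L L

theorem BrEq.baseChange_tpow (A : Type v) [Ring A] [Algebra k A] [IsCSA k A] :
    ∀ e, BrEq L (L ⊗[k] TPow k A e) (TPow L (L ⊗[k] A) e)
  | 0 => ((BrEq.of_algEquiv k (tpowZero k A)).baseChange L).trans
      ((BrEq.of_algEquiv L (baseChangeSelf L)).trans (BrEq.of_algEquiv L (tpowZero L _)).symm)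
  | e + 1 => ((BrEq.tpow_succ A e).baseChange L).trans
      ((BrEq.of_algEquiv L (distribBC L _ A)).trans
        (((BrEq.baseChange_tpow A e).tensor_right _).trans (BrEq.tpow_succ _ e).symm))

end baseChangeTensor

theorem splits_iff_brEq (L : Type*) [Field L] [Algebra k L] (A : Type*) [Ring A] [Algebra k A]
    [IsCSA k A] : Curves.Splits k A L ↔ BrEq L (L ⊗[k] A) L :=
  ⟨fun ⟨_, hn, ⟨e⟩⟩ => BrEq.of_exists_matrix hn e, fun h => h.exists_matrix⟩

theorem splits_self_iff_brEq (A : Type*) [Ring A] [Algebra k A] [IsCSA k A] :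
    Curves.Splits k A k ↔ BrEq k A k :=
  (splits_iff_brEq k A).trans ⟨fun h => (BrEq.one_tensor A).symm.trans h,
    fun h => (BrEq.one_tensor A).trans h⟩

theorem splits_congr (L : Type*) [Field L] [Algebra k L] {A B : Type*} [Ring A] [Algebra k A]
    [IsCSA k A] [Ring B] [Algebra k B] [IsCSA k B] (h : BrEq k A B) :
    Curves.Splits k A L ↔ Curves.Splits k B L := by
  rw [splits_iff_brEq, splits_iff_brEq]
  exact ⟨fun hA => (h.baseChange L).symm.trans hA, fun hB => (h.baseChange L).trans hB⟩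

section index

variable {A : Type v} [Ring A] [Algebra k A] [IsCSA k A]
set_option linter.unusedSectionVars false

theorem exists_isIndex (A : Type v) [Ring A] [Algebra k A] [IsCSA k A] :
    ∃ d, CSAGal.IsIndex k A d := by
  obtain ⟨n, hn, D, _, _, _, -, ⟨e⟩⟩ := exists_division_brEq k A
  obtain ⟨d, hd, hd2⟩ := exists_sq_eq_finrank' (k := k) (A := D)
  exact ⟨d, hd, n, D, inferInstance, inferInstance, Nat.pos_of_ne_zero hn, hd2.symm, ⟨e⟩⟩

/-- The data of an index: a division algebra which is Brauer equivalent. -/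
theorem isIndex_data {d : ℕ} (h : CSAGal.IsIndex k A d) :
    0 < d ∧ ∃ (m : ℕ) (D : Type v) (_ : DivisionRing D) (_ : Algebra k D), IsCSA k D ∧ 0 < m ∧
      Module.finrank k D = d ^ 2 ∧ BrEq k A D ∧ Nonempty (A ≃ₐ[k] Matrix (Fin m) (Fin m) D) := by
  obtain ⟨hd, m, D, _, _, hm, hfin, ⟨e⟩⟩ := h
  haveI : NeZero m := ⟨hm.ne'⟩
  haveI : IsCSA k (Matrix (Fin m) (Fin m) D) := IsCSA.congr e
  haveI : IsCSA k D := IsCSA.of_matrix m
  exact ⟨hd, m, D, inferInstance, inferInstance, inferInstance, hm, hfin,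
    (BrEq.of_algEquiv k e).trans (BrEq.matrix k D hm.ne').symm, ⟨e⟩⟩

theorem isIndex_of_brEq_division {d : ℕ} (hd : 0 < d) {D : Type w} [DivisionRing D] [Algebra k D]
    [IsCSA k D] (hfin : Module.finrank k D = d ^ 2) (h : BrEq k A D) : CSAGal.IsIndex k A d := by
  obtain ⟨n, hn, D', _, _, _, hAD, ⟨e⟩⟩ := exists_division_brEq k A
  obtain ⟨f⟩ := (hAD.symm.trans h).algEquiv_of_division
  exact ⟨hd, n, D', inferInstance, inferInstance, Nat.pos_of_ne_zero hn,
    f.toLinearEquiv.finrank_eq.trans hfin, ⟨e⟩⟩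

theorem isIndex_unique {d d' : ℕ} (h : CSAGal.IsIndex k A d) (h' : CSAGal.IsIndex k A d') :
    d = d' := by
  obtain ⟨-, _, D, _, _, _, -, hfin, hAD, -⟩ := isIndex_data h
  obtain ⟨-, _, D', _, _, _, -, hfin', hAD', -⟩ := isIndex_data h'
  obtain ⟨f⟩ := (hAD.symm.trans hAD').algEquiv_of_division
  rw [f.toLinearEquiv.finrank_eq, hfin'] at hfin
  exact (Nat.pow_left_injective two_ne_zero hfin).symm

theorem isIndex_congr {B : Type w} [Ring B] [Algebra k B] [IsCSA k B] (h : BrEq k A B) {d : ℕ}
    (hd : CSAGal.IsIndex k A d) : CSAGal.IsIndex k B d := by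
  obtain ⟨hpos, _, D, _, _, _, -, hfin, hAD, -⟩ := isIndex_data hd
  exact isIndex_of_brEq_division hpos hfin (h.symm.trans hAD)

theorem isIndex_dvd_degree {d n : ℕ} (hd : CSAGal.IsIndex k A d)
    (hn : Module.finrank k A = n ^ 2) : d ∣ n := by
  obtain ⟨-, m, D, _, _, _, -, hfin, -, ⟨e⟩⟩ := isIndex_data hd
  rw [e.toLinearEquiv.finrank_eq, Module.finrank_matrix, hfin, Fintype.card_fin] at hn
  exact ⟨m, Nat.pow_left_injective two_ne_zero (show n ^ 2 = (d * m) ^ 2 by rw [← hn]; ring)⟩

theorem isIndex_dvd_of_brEq {B : Type w} [Ring B] [Algebra k B] [IsCSA k B] (h : BrEq k A B)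
    {d n : ℕ} (hd : CSAGal.IsIndex k A d) (hn : Module.finrank k B = n ^ 2) : d ∣ n :=
  isIndex_dvd_degree (isIndex_congr h hd) hn

theorem isIndex_one_iff : CSAGal.IsIndex k A 1 ↔ BrEq k A k := by
  constructor
  · intro h
    obtain ⟨-, _, D, _, _, _, -, hfin, hAD, -⟩ := isIndex_data h
    refine hAD.trans (BrEq.of_algEquiv k (AlgEquiv.ofBijective (Algebra.ofId k D) ?_).symm)
    have hinj : Function.Injective (Algebra.ofId k D).toLinearMap := (algebraMap k D).injective
    exact ⟨hinj, ((Algebra.ofId k D).toLinearMap.injective_iff_surjective_of_finrank_eq_finrank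
      (by rw [Module.finrank_self, hfin, one_pow])).1 hinj⟩
  · intro h
    exact isIndex_of_brEq_division Nat.one_pos (by simp) h

theorem isIndex_mul {n : ℕ} (D : Type w) [DivisionRing D] [Algebra k D] [IsCSA k D]
    (hd : Module.finrank k D = n ^ 2) : CSAGal.IsIndex k D n := by
  refine isIndex_of_brEq_division ?_ hd (BrEq.refl k D)
  by_contra h
  obtain rfl : n = 0 := by omega
  exact (Module.finrank_pos (R := k) (M := D)).ne' (by rw [hd]; rfl)

end index

section splitting

/-- The centraliser of a central simple subalgebra is its tensor complement. -/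
theorem centralizer_isCSA {T : Type*} [Ring T] [Algebra k T] [IsCSA k T] (S : Subalgebra k T)
    [IsCSA k S] :
    IsCSA k (Subalgebra.centralizer k (S : Set T)) ∧
      BrEq k (S ⊗[k] Subalgebra.centralizer k (S : Set T)) T := by
  obtain ⟨hsimple, hdim⟩ := centralizer_simple_and_finrank k S
  let C := Subalgebra.centralizer k (S : Set T)
  let μ : S ⊗[k] C →ₐ[k] T :=
    Algebra.TensorProduct.lift S.val C.val fun a c => c.2 a a.2
  have hμinj : Function.Injective μ := by
    by_contra hne
    obtain ⟨c, hc, hmem⟩ := exists_one_tmul_mem k (TwoSidedIdeal.ker μ)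
      fun h => hne ((TwoSidedIdeal.ker_eq_bot _).1 h)
    rw [TwoSidedIdeal.mem_ker] at hmem
    refine hc (Subtype.ext ?_)
    change ((1 : S) : T) * (c : T) = 0 at hmem
    simpa using hmem
  have hμ : Function.Bijective μ := ⟨hμinj,
    (μ.toLinearMap.injective_iff_surjective_of_finrank_eq_finrank
      (by rw [Module.finrank_tensorProduct, hdim])).1 hμinj⟩
  haveI : IsCSA k (S ⊗[k] C) := IsCSA.congr (AlgEquiv.ofBijective μ hμ).symm
  haveI : Algebra.IsCentral k C := Algebra.IsCentral.right_of_tensor_of_field k S C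
  haveI : IsSimpleRing C := hsimple
  exact ⟨{}, BrEq.of_algEquiv k (AlgEquiv.ofBijective μ hμ)⟩

theorem exists_brEq_containing_aux (A : Type v) [Ring A] [Algebra k A] [IsCSA k A] (L : Type w)
    [Field L] [Algebra k L] [FiniteDimensional k L] {T : Type w} [Ring T] [Algebra k T] [IsCSA k T]
    (hT : BrEq k T k) (j : L ⊗[k] Aᵐᵒᵖ →ₐ[k] T)
    (hfin : Module.finrank k T = Module.finrank k L ^ 2 * Module.finrank k A) :
    ∃ (C : Type w) (_ : Ring C) (_ : Algebra k C), IsCSA k C ∧ BrEq k A C ∧
      Module.finrank k C = Module.finrank k L ^ 2 ∧ Nonempty (L →ₐ[k] C) := by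
  let jA : Aᵐᵒᵖ →ₐ[k] T := j.comp Algebra.TensorProduct.includeRight
  let jL : L →ₐ[k] T := j.comp Algebra.TensorProduct.includeLeft
  haveI : Nontrivial T := IsSimpleRing.instNontrivial
  have hjA : Function.Injective jA := RingHom.injective jA.toRingHom
  haveI : IsCSA k jA.range := IsCSA.congr (AlgEquiv.ofInjective jA hjA)
  obtain ⟨hC, hbr⟩ := centralizer_isCSA jA.range
  obtain ⟨-, hdim⟩ := centralizer_simple_and_finrank k jA.range
  haveI := hC
  refine ⟨Subalgebra.centralizer k (jA.range : Set T), inferInstance, inferInstance, hC, ?_, ?_,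
    ⟨jL.codRestrict _ fun l => ?_⟩⟩
  · have h1 : BrEq k (Aᵐᵒᵖ ⊗[k] Subalgebra.centralizer k (jA.range : Set T)) k :=
      ((BrEq.of_algEquiv k (AlgEquiv.ofInjective jA hjA)).tensor_right _).trans (hbr.trans hT)
    exact (BrEq.tensor_one A).symm.trans <| (h1.symm.tensor_left A).trans <|
      (BrEq.tensor_assoc (k := k) A Aᵐᵒᵖ (Subalgebra.centralizer k (jA.range : Set T))).symm.trans <|
        ((BrEq.tensor_op (k := k) A).tensor_right _).trans (BrEq.one_tensor _)
  · have hA : Module.finrank k jA.range = Module.finrank k A := by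
      rw [← (AlgEquiv.ofInjective jA hjA).toLinearEquiv.finrank_eq,
        ← (MulOpposite.opLinearEquiv k : A ≃ₗ[k] Aᵐᵒᵖ).finrank_eq]
    rw [hA, hfin] at hdim
    refine Nat.eq_of_mul_eq_mul_left (Module.finrank_pos (R := k) (M := A)) ?_
    rw [hdim, mul_comm]
  · rintro _ ⟨a, rfl⟩
    change j (1 ⊗ₜ a) * j (l ⊗ₜ 1) = j (l ⊗ₜ 1) * j (1 ⊗ₜ a)
    rw [← map_mul, ← map_mul, Algebra.TensorProduct.tmul_mul_tmul, Algebra.TensorProduct.tmul_mul_tmul,
      one_mul, mul_one, one_mul, mul_one]

/-- A splitting field of degree `n` gives an equivalent algebra of degree `n` containing it. -/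
theorem exists_brEq_containing (A : Type v) [Ring A] [Algebra k A] [IsCSA k A] (L : Type w)
    [Field L] [Algebra k L] [FiniteDimensional k L] (hL : Curves.Splits k A L) :
    ∃ (C : Type w) (_ : Ring C) (_ : Algebra k C), IsCSA k C ∧ BrEq k A C ∧
      Module.finrank k C = Module.finrank k L ^ 2 ∧ Nonempty (L →ₐ[k] C) := by
  have hop : BrEq L (L ⊗[k] Aᵐᵒᵖ) L := by
    have h1 : BrEq L ((L ⊗[k] A) ⊗[L] (L ⊗[k] Aᵐᵒᵖ)) L :=
      (BrEq.of_algEquiv L (distribBC (k := k) L A Aᵐᵒᵖ).symm).trans
        (((BrEq.tensor_op (k := k) A).baseChange L).trans (BrEq.of_algEquiv L (baseChangeSelf L)))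
    exact (BrEq.one_tensor _).symm.trans
      ((((splits_iff_brEq L A).1 hL).symm.tensor_right _).trans h1)
  obtain ⟨r, hr, ⟨e⟩⟩ := hop.exists_matrix
  haveI : Nonempty (Fin r) := ⟨⟨0, Nat.pos_of_ne_zero hr⟩⟩
  haveI : Nontrivial (Fin r → L) := inferInstance
  haveI : IsCSA k (Module.End k (Fin r → L)) :=
    { simple := isSimpleRing_moduleEnd k (Fin r → L) }
  refine exists_brEq_containing_aux A L
    (BrEq.of_exists_matrix (Module.finrank_pos (R := k) (M := Fin r → L)).ne'
      (algEquivMatrix (Module.finBasis k (Fin r → L))))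
    { toFun := fun z => (Matrix.toLinAlgEquiv' (e z)).restrictScalars k
      map_one' := by rw [map_one, map_one]; rfl
      map_mul' := fun a b => by rw [map_mul, map_mul]; rfl
      map_zero' := by rw [map_zero, map_zero]; rfl
      map_add' := fun a b => by rw [map_add, map_add]; rfl
      commutes' := fun c => LinearMap.ext fun x => by
        rw [IsScalarTower.algebraMap_apply k L (L ⊗[k] Aᵐᵒᵖ), AlgEquiv.commutes, AlgEquiv.commutes]
        change algebraMap k L c • x = c • x
        rw [algebraMap_smul] } ?_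
  have hA : Module.finrank k A = r ^ 2 := by
    rw [(MulOpposite.opLinearEquiv k : A ≃ₗ[k] Aᵐᵒᵖ).finrank_eq,
      ← Module.finrank_baseChange (R := L) (S := k) (M' := Aᵐᵒᵖ),
      e.toLinearEquiv.finrank_eq, Module.finrank_matrix]
    simp [sq]
  rw [Module.finrank_linearMap, ← Module.finrank_mul_finrank k L (Fin r → L), Module.finrank_fin_fun, hA]
  ring

variable {A : Type v} [Ring A] [Algebra k A] [IsCSA k A]
set_option linter.unusedSectionVars false

theorem isIndex_dvd_finrank {d : ℕ} (hd : CSAGal.IsIndex k A d) (L : Type w) [Field L] [Algebra k L]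
    [FiniteDimensional k L] (hL : Curves.Splits k A L) : d ∣ Module.finrank k L := by
  obtain ⟨C, _, _, _, hAC, hfin, -⟩ := exists_brEq_containing A L hL
  exact isIndex_dvd_of_brEq hAC hd hfin

/-- Splitting passes to a larger field. -/
theorem splits_tower (L : Type*) [Field L] [Algebra k L] (E : Type*) [Field E] [Algebra k E]
    [Algebra L E] [IsScalarTower k L E] :
    Curves.Splits k A E ↔ Curves.Splits L (L ⊗[k] A) E := by
  let e : E ⊗[L] (L ⊗[k] A) ≃ₐ[E] E ⊗[k] A :=
    AlgEquiv.symm <| AlgEquiv.ofLinearEquiv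
      (TensorProduct.AlgebraTensorModule.cancelBaseChange k L E E A).symm
      (by simp [Algebra.TensorProduct.one_def]) <|
        LinearMap.map_mul_of_map_mul_tmul (fun _ _ _ _ ↦ by simp)
  exact ⟨fun ⟨n, hn, ⟨f⟩⟩ => ⟨n, hn, ⟨e.trans f⟩⟩, fun ⟨n, hn, ⟨f⟩⟩ => ⟨n, hn, ⟨e.symm.trans f⟩⟩⟩

theorem splits_of_splits (L : Type*) [Field L] [Algebra k L] (E : Type*) [Field E] [Algebra k E]
    [Algebra L E] [IsScalarTower k L E] (h : Curves.Splits k A L) : Curves.Splits k A E := by
  rw [splits_tower L E, splits_iff_brEq]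
  exact (((splits_iff_brEq L A).1 h).baseChange E).trans (BrEq.of_algEquiv E (baseChangeSelf E))

/-- An index is the degree of a separable splitting field. -/
theorem exists_splitting_degree_isIndex {d : ℕ} (hd : CSAGal.IsIndex k A d) :
    ∃ (L : Type u) (_ : Field L) (_ : Algebra k L), FiniteDimensional k L ∧
      Algebra.IsSeparable k L ∧ Module.finrank k L = d ∧ Curves.Splits k A L := by
  obtain ⟨-, m, D, _, _, _, -, hfin, hAD, -⟩ := isIndex_data hd
  obtain ⟨x, hx, hdeg⟩ := exists_separable_maximal k (D := D)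
  have hint : IsIntegral k x := Algebra.IsIntegral.isIntegral x
  haveI : Fact (Irreducible (minpoly k x)) := ⟨minpoly.irreducible hint⟩
  let L := AdjoinRoot (minpoly k x)
  haveI : FiniteDimensional k L := (AdjoinRoot.powerBasis (minpoly.ne_zero hint)).finite
  haveI : Algebra.IsSeparable k L := by
    have hroot : IsSeparable k (AdjoinRoot.root (minpoly k x)) := by
      unfold IsSeparable
      rw [AdjoinRoot.minpoly_root (minpoly.ne_zero hint), (minpoly.monic hint).leadingCoeff,
        inv_one, map_one, mul_one]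
      exact hx
    have hgen : IntermediateField.adjoin k {AdjoinRoot.root (minpoly k x)} = ⊤ := by
      apply IntermediateField.toSubalgebra_injective
      rw [IntermediateField.adjoin_simple_toSubalgebra_of_isAlgebraic (Algebra.IsAlgebraic.isAlgebraic _),
        IntermediateField.top_toSubalgebra]
      exact AdjoinRoot.adjoinRoot_eq_top
    have := (IntermediateField.isSeparable_adjoin_simple_iff_isSeparable k L).2 hroot
    rw [hgen] at this
    exact Algebra.IsSeparable.of_algHom k _ (IntermediateField.topEquiv.symm.toAlgHom)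
  let ι : L →ₐ[k] D := Ideal.Quotient.liftₐ (Ideal.span {minpoly k x}) (Polynomial.aeval x)
    fun q hq => by
      obtain ⟨c, rfl⟩ := Ideal.mem_span_singleton.1 hq
      rw [map_mul, minpoly.aeval, zero_mul]
  have hroot : ι (AdjoinRoot.root (minpoly k x)) = x := Polynomial.aeval_X x
  have hι : Algebra.adjoin k ({x} : Set D) = ι.range := by
    rw [← Algebra.map_top, ← AdjoinRoot.adjoinRoot_eq_top, AlgHom.map_adjoin, Set.image_singleton, hroot]
  have hLdeg : Module.finrank k L ^ 2 = Module.finrank k D := by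
    rw [← hdeg, hι, (AlgEquiv.ofInjective ι (ι : L →+* D).injective).toLinearEquiv.finrank_eq]
  obtain ⟨eD⟩ := nonempty_algEquiv_matrix_of_subfield k D L ι hLdeg
  exact ⟨L, inferInstance, inferInstance, inferInstance, inferInstance,
    Nat.pow_left_injective two_ne_zero (hLdeg.trans hfin),
    (splits_congr L hAD).2 ⟨_, Module.finrank_pos.ne', ⟨eD⟩⟩⟩

theorem isIndex_baseChange_dvd {d d' : ℕ} (hd : CSAGal.IsIndex k A d) (L : Type w) [Field L]
    [Algebra k L] (hd' : CSAGal.IsIndex L (L ⊗[k] A) d') : d' ∣ d := by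
  obtain ⟨-, m, D, _, _, _, -, hfin, hAD, -⟩ := isIndex_data hd
  exact isIndex_dvd_of_brEq (hAD.baseChange L) hd' ((Module.finrank_baseChange).trans hfin)

theorem isIndex_dvd_baseChange_mul {d d' : ℕ} (hd : CSAGal.IsIndex k A d) (L : Type w) [Field L]
    [Algebra k L] [FiniteDimensional k L] (hd' : CSAGal.IsIndex L (L ⊗[k] A) d') :
    d ∣ Module.finrank k L * d' := by
  obtain ⟨E, _, _, _, -, hdeg, hE⟩ := exists_splitting_degree_isIndex hd'
  letI : Algebra k E := ((algebraMap L E).comp (algebraMap k L)).toAlgebra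
  haveI : IsScalarTower k L E := IsScalarTower.of_algebraMap_eq fun _ => rfl
  haveI : FiniteDimensional k E := Module.Finite.trans L E
  have := isIndex_dvd_finrank hd E ((splits_tower L E).2 hE)
  rwa [← Module.finrank_mul_finrank k L E, hdeg] at this

theorem isIndex_tpow_dvd {d d' : ℕ} (hd : CSAGal.IsIndex k A d) (e : ℕ)
    (hd' : CSAGal.IsIndex k (TPow k A e) d') : d' ∣ d := by
  obtain ⟨L, _, _, _, -, rfl, hL⟩ := exists_splitting_degree_isIndex hd
  refine isIndex_dvd_finrank hd' L ((splits_iff_brEq L _).2 ?_)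
  have h0 : ∀ n, BrEq L (TPow L L n) L := by
    intro n
    induction n with
    | zero => exact BrEq.of_algEquiv L (tpowZero L L)
    | succ n ih => exact (BrEq.tpow_succ L n).trans ((ih.tensor_right L).trans (BrEq.one_tensor L))
  exact (BrEq.baseChange_tpow L A e).trans ((((splits_iff_brEq L A).1 hL).tpow e).trans (h0 e))

end splitting

section period

variable {A : Type v} [Ring A] [Algebra k A] [IsCSA k A]
set_option linter.unusedSectionVars false

theorem tpow_one_brEq (e : ℕ) : BrEq k (TPow k k e) k := by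
  induction e with
  | zero => exact BrEq.of_algEquiv k (tpowZero k k)
  | succ e ih => exact (BrEq.tpow_succ k e).trans ((ih.tensor_right k).trans (BrEq.one_tensor k))

theorem tpow_add_brEq (a b : ℕ) :
    BrEq k (TPow k A (a + b)) (TPow k A a ⊗[k] TPow k A b) :=
  BrEq.of_algEquiv k (tpowAdd k A a b).symm

theorem tpow_trivial_sub {a b : ℕ} (ha : BrEq k (TPow k A a) k) (hab : BrEq k (TPow k A (a + b)) k) :
    BrEq k (TPow k A b) k :=
  (BrEq.one_tensor _).symm.trans ((ha.symm.tensor_right _).trans ((tpow_add_brEq a b).symm.trans hab))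

theorem isPeriod_trivial_iff_dvd {e : ℕ} (he : CSAGal.IsPeriod k A e) (n : ℕ) :
    BrEq k (TPow k A n) k ↔ e ∣ n := by
  obtain ⟨hpos, hsplit, hmin⟩ := he
  have he' : BrEq k (TPow k A e) k := (splits_self_iff_brEq (TPow k A e)).1 hsplit
  have hmul : ∀ q, BrEq k (TPow k A (e * q)) k := fun q =>
    (BrEq.tpow_mul A e q).symm.trans ((he'.tpow q).trans (tpow_one_brEq q))
  refine ⟨fun hn => ?_, fun ⟨q, hq⟩ => hq ▸ hmul q⟩
  rw [Nat.dvd_iff_mod_eq_zero]
  by_contra hne
  refine hmin (n % e) (Nat.pos_of_ne_zero hne) (Nat.mod_lt _ hpos)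
    ((splits_self_iff_brEq _).2 (tpow_trivial_sub (a := e * (n / e)) (hmul _) ?_))
  rwa [Nat.div_add_mod]

theorem isPeriod_iff {e : ℕ} (hpos : 0 < e) :
    CSAGal.IsPeriod k A e ↔ ∀ n, BrEq k (TPow k A n) k ↔ e ∣ n := by
  refine ⟨fun h => isPeriod_trivial_iff_dvd h, fun h => ⟨hpos, ?_, fun e' he' hlt hs => ?_⟩⟩
  · exact (splits_self_iff_brEq (TPow k A e)).2 ((h e).2 dvd_rfl)
  · exact absurd (Nat.le_of_dvd he' ((h e').1 ((splits_self_iff_brEq (TPow k A e')).1 hs))) (not_le.2 hlt)

end period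

end Groth.Agent.CSA
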