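import Mathlib.Algebra.Azumaya.Basic
import Mathlib.Algebra.Central.TensorProduct
import Mathlib.Algebra.Algebra.Subalgebra.Centralizer
import Mathlib.RingTheory.SimpleModule.WedderburnArtin
import Mathlib.RingTheory.SimpleRing.Basic
import Mathlib.RingTheory.SimpleRing.Congr
import Mathlib.LinearAlgebra.TensorProduct.Basis
import Mathlib.LinearAlgebra.FreeModule.Finite.Matrix
import Mathlib.LinearAlgebra.Dimension.Constructions
import Mathlib.RingTheory.Artinian.Module
import Mathlib.LinearAlgebra.FiniteDimensional.Lemmas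

/-!
# Central simple algebras over a field
-/

namespace Groth.Agent.CSA

set_option linter.style.haveILetI false

open scoped TensorProduct
open Algebra.TensorProduct

variable (k : Type*) [Field k]

/-- A non-zero two-sided ideal of `A ⊗ B`, with `A` central simple, contains some `1 ⊗ b ≠ 0`. -/
theorem exists_one_tmul_mem {A B : Type*} [Ring A] [Algebra k A] [Algebra.IsCentral k A]
    [IsSimpleRing A] [Ring B] [Algebra k B] (I : TwoSidedIdeal (A ⊗[k] B)) (hI : I ≠ ⊥) :
    ∃ b : B, b ≠ 0 ∧ (1 : A) ⊗ₜ[k] b ∈ I := by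
  classical
  let ℬ := Module.Basis.ofVectorSpace k B
  let Φ := TensorProduct.equivFinsuppOfBasisRight (M := A) ℬ
  have hex : ∃ n : ℕ, ∃ w ∈ I, w ≠ 0 ∧ (Φ w).support.card = n := by
    obtain ⟨w, hw, hw0⟩ : ∃ w ∈ I, w ≠ 0 := by
      by_contra h
      push Not at h
      exact hI (le_antisymm (fun x hx => (TwoSidedIdeal.mem_bot _).2 (h x hx)) bot_le)
    exact ⟨_, w, hw, hw0, rfl⟩
  obtain ⟨w, hw, hw0, hcard⟩ := Nat.find_spec hex
  have hmin : ∀ z ∈ I, z ≠ 0 → Nat.find hex ≤ (Φ z).support.card :=
    fun z hz hz0 => Nat.find_min' hex ⟨z, hz, hz0, rfl⟩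
  set s := (Φ w).support with hs
  obtain ⟨i₀, hi₀⟩ : s.Nonempty := by
    rw [hs, Finsupp.support_nonempty_iff]
    exact fun h => hw0 (Φ.map_eq_zero_iff.1 h)
  have hL : ∀ (x : A) (z : A ⊗[k] B) (i : _), Φ ((x ⊗ₜ[k] (1 : B)) * z) i = x * Φ z i := by
    intro x z i
    induction z using TensorProduct.induction_on with
    | zero => simp
    | tmul a b => simp [Φ, tmul_mul_tmul]
    | add y z hy hz => simp [mul_add, hy, hz]
  have hR : ∀ (x : A) (z : A ⊗[k] B) (i : _), Φ (z * (x ⊗ₜ[k] (1 : B))) i = Φ z i * x := by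
    intro x z i
    induction z using TensorProduct.induction_on with
    | zero => simp
    | tmul a b => simp [Φ, tmul_mul_tmul]
    | add y z hy hz => simp [add_mul, hy, hz]
  let J : TwoSidedIdeal A := TwoSidedIdeal.mk'
    {a | ∃ z ∈ I, (Φ z).support ⊆ s ∧ Φ z i₀ = a}
    ⟨0, I.zero_mem, by simp, by simp⟩
    (by rintro a b ⟨y, hy, hys, rfl⟩ ⟨z, hz, hzs, rfl⟩
        exact ⟨y + z, I.add_mem hy hz, by
          rw [map_add]; exact Finsupp.support_add.trans (Finset.union_subset hys hzs), by simp⟩)
    (by rintro a ⟨y, hy, hys, rfl⟩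
        exact ⟨-y, I.neg_mem hy, by simpa using hys, by simp⟩)
    (by rintro x a ⟨y, hy, hys, rfl⟩
        refine ⟨(x ⊗ₜ[k] (1 : B)) * y, I.mul_mem_left _ _ hy, fun i hi => hys ?_, hL _ _ _⟩
        rw [Finsupp.mem_support_iff, hL] at hi
        exact Finsupp.mem_support_iff.2 (right_ne_zero_of_mul hi))
    (by rintro a x ⟨y, hy, hys, rfl⟩
        refine ⟨y * (x ⊗ₜ[k] (1 : B)), I.mul_mem_right _ _ hy, fun i hi => hys ?_, hR _ _ _⟩
        rw [Finsupp.mem_support_iff, hR] at hi
        exact Finsupp.mem_support_iff.2 (left_ne_zero_of_mul hi))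
  obtain ⟨z, hz, hzs, hz1⟩ : ∃ z ∈ I, (Φ z).support ⊆ s ∧ Φ z i₀ = 1 := by
    have h1 : (1 : A) ∈ J := IsSimpleRing.one_mem_of_ne_zero_mem J
      (x := Φ w i₀) (Finsupp.mem_support_iff.1 hi₀) (by
        rw [TwoSidedIdeal.mem_mk']; exact ⟨w, hw, subset_rfl, rfl⟩)
    rw [TwoSidedIdeal.mem_mk'] at h1
    exact h1
  have hz0 : z ≠ 0 := by
    rintro rfl
    simp at hz1
  have hcomm : ∀ (x : A) (i : _), x * Φ z i = Φ z i * x := by
    intro x i
    let d := (x ⊗ₜ[k] (1 : B)) * z - z * (x ⊗ₜ[k] (1 : B))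
    have hd : d ∈ I := I.sub_mem (I.mul_mem_left _ _ hz) (I.mul_mem_right _ _ hz)
    have hd0 : d = 0 := by
      by_contra hne
      have hlt : (Φ d).support.card < s.card := by
        refine Finset.card_lt_card ((Finset.ssubset_iff_of_subset ?_).2 ⟨i₀, hi₀, ?_⟩)
        · intro j hj
          rw [Finsupp.mem_support_iff] at hj
          by_contra hjs
          have : Φ z j = 0 := Finsupp.notMem_support_iff.1 fun h => hjs (hzs h)
          exact hj (by simp [d, hL, hR, this])
        · simp [d, hL, hR, hz1]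
      have := hmin d hd hne
      omega
    have := congrArg (fun t => Φ t i) hd0
    simpa [d, hL, hR, sub_eq_zero] using this
  have hmem : ∀ i, ∃ c : k, algebraMap k A c = Φ z i := by
    intro i
    have hc : Φ z i ∈ Subalgebra.center k A := Subalgebra.mem_center_iff.2 fun x => hcomm x i
    rw [Algebra.IsCentral.center_eq_bot] at hc
    exact Algebra.mem_bot.1 hc
  choose c hc using hmem
  refine ⟨∑ i ∈ (Φ z).support, c i • ℬ i, fun hb => hz0 ?_, ?_⟩
  all_goals
    have hzb : z = (1 : A) ⊗ₜ[k] (∑ i ∈ (Φ z).support, c i • ℬ i) := by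
      conv_lhs => rw [← Φ.symm_apply_apply z]
      rw [show Φ.symm (Φ z) = (Φ z).sum fun i a => a ⊗ₜ[k] ℬ i from
        TensorProduct.equivFinsuppOfBasisRight_symm_apply ℬ _, Finsupp.sum, TensorProduct.tmul_sum]
      refine Finset.sum_congr rfl fun i _ => ?_
      rw [← hc i, Algebra.algebraMap_eq_smul_one, TensorProduct.smul_tmul]
  · rw [hzb, hb, TensorProduct.tmul_zero]
  · exact hzb ▸ hz

/-- central simple ⊗ simple is simple. -/
instance isSimpleRing_tensorProduct (A B : Type*) [Ring A] [Algebra k A] [Algebra.IsCentral k A]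
    [IsSimpleRing A] [Ring B] [Algebra k B] [IsSimpleRing B] : IsSimpleRing (A ⊗[k] B) := by
  haveI : Nontrivial (A ⊗[k] B) :=
    (Algebra.TensorProduct.includeLeft_injective (R := k) (S := k) (A := A) (B := B)
      (algebraMap k B).injective).nontrivial
  refine IsSimpleRing.of_eq_bot_or_eq_top fun I => or_iff_not_imp_left.2 fun hI => ?_
  obtain ⟨b, hb, hbI⟩ := exists_one_tmul_mem k I hI
  let J : TwoSidedIdeal B := TwoSidedIdeal.comap (includeRight : B →ₐ[k] A ⊗[k] B) I
  have h1 : (1 : B) ∈ J := IsSimpleRing.one_mem_of_ne_zero_mem J hb (by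
    rw [TwoSidedIdeal.mem_comap]; exact hbI)
  rw [TwoSidedIdeal.mem_comap, map_one] at h1
  exact (I.one_mem_iff).1 h1

/-- simple ⊗ central simple is simple. -/
instance isSimpleRing_tensorProduct' (A B : Type*) [Ring A] [Algebra k A] [IsSimpleRing A]
    [Ring B] [Algebra k B] [Algebra.IsCentral k B] [IsSimpleRing B] : IsSimpleRing (A ⊗[k] B) :=
  IsSimpleRing.of_ringEquiv (Algebra.TensorProduct.comm k B A).toRingEquiv inferInstance

instance isSimpleRing_op (A : Type*) [Ring A] [IsSimpleRing A] : IsSimpleRing Aᵐᵒᵖ :=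
  ⟨(TwoSidedIdeal.opOrderIso (R := A)).symm.isSimpleOrder⟩

/-- A finite dimensional central simple algebra is Azumaya. -/
theorem mulLeftRight_bijective (A : Type*) [Ring A] [Algebra k A] [Algebra.IsCentral k A]
    [IsSimpleRing A] [FiniteDimensional k A] : Function.Bijective (AlgHom.mulLeftRight k A) := by
  haveI : Nontrivial (Module.End k A) := by
    refine ⟨0, 1, fun h => ?_⟩
    have := LinearMap.congr_fun h (1 : A)
    simp at this
  have hinj : Function.Injective (AlgHom.mulLeftRight k A).toLinearMap :=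
    RingHom.injective (AlgHom.mulLeftRight k A).toRingHom
  have hdim : Module.finrank k (A ⊗[k] Aᵐᵒᵖ) = Module.finrank k (Module.End k A) := by
    rw [Module.finrank_tensorProduct, Module.finrank_linearMap,
      (MulOpposite.opLinearEquiv k : A ≃ₗ[k] Aᵐᵒᵖ).finrank_eq]
  exact ⟨hinj, ((AlgHom.mulLeftRight k A).toLinearMap.injective_iff_surjective_of_finrank_eq_finrank hdim).1 hinj⟩

instance isAzumaya (A : Type*) [Ring A] [Algebra k A] [Algebra.IsCentral k A]
    [IsSimpleRing A] [FiniteDimensional k A] : IsAzumaya k A where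
  bij := mulLeftRight_bijective k A

/-- The centre of `B ⊗ A`, `A` central, is the centre of `B`. -/
theorem center_tensorProduct (B A : Type*) [Ring B] [Algebra k B] [Ring A] [Algebra k A]
    [Algebra.IsCentral k A] :
    Subalgebra.center k (B ⊗[k] A) = (Subalgebra.center k B).map includeLeft := by
  refine le_antisymm (fun z hz => ?_) (Algebra.TensorProduct.includeLeft_map_center_le k B A)
  have h1 : z ∈ Subalgebra.centralizer k (includeRight '' (Set.univ : Set A) : Set (B ⊗[k] A)) := by
    rw [Subalgebra.mem_centralizer_iff]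
    exact fun x _ => Subalgebra.mem_center_iff.1 hz x
  rw [Subalgebra.centralizer_coe_image_includeRight_eq_center_tensorProduct] at h1
  obtain ⟨t, rfl⟩ := h1
  obtain ⟨b, hb⟩ : ∃ b : B, Algebra.TensorProduct.map (AlgHom.id k B)
      (Subalgebra.centralizer k (Set.univ : Set A)).val t = b ⊗ₜ[k] 1 := by
    clear hz
    induction t using TensorProduct.induction_on with
    | zero => exact ⟨0, by simp⟩
    | tmul b c =>
      obtain ⟨r, hr⟩ : ∃ r : k, algebraMap k A r = (c : A) := by
        have hc : (c : A) ∈ Subalgebra.center k A := by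
          rw [← Subalgebra.centralizer_univ]; exact c.2
        rw [Algebra.IsCentral.center_eq_bot] at hc
        exact Algebra.mem_bot.1 hc
      exact ⟨r • b, by simp [← hr, Algebra.algebraMap_eq_smul_one, TensorProduct.smul_tmul']⟩
    | add x y hx hy =>
      obtain ⟨p, hp⟩ := hx
      obtain ⟨q, hq⟩ := hy
      exact ⟨p + q, by rw [map_add, hp, hq, TensorProduct.add_tmul]⟩
  change Algebra.TensorProduct.map (AlgHom.id k B)
    (Subalgebra.centralizer k (Set.univ : Set A)).val t ∈ _ at hz ⊢
  rw [hb] at hz ⊢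
  rcases subsingleton_or_nontrivial A with h | h
  · exact ⟨0, zero_mem _, by simp [Subsingleton.elim (1 : A) 0]⟩
  refine ⟨b, Subalgebra.mem_center_iff.2 fun x => ?_, rfl⟩
  have := Subalgebra.mem_center_iff.1 hz (x ⊗ₜ[k] 1)
  rw [tmul_mul_tmul, tmul_mul_tmul, mul_one] at this
  exact Algebra.TensorProduct.includeLeft_injective (R := k) (S := k) (algebraMap k A).injective this

/-- Base change of a central algebra along a commutative algebra is central. -/
theorem isCentral_baseChange (K A : Type*) [CommRing K] [Algebra k K] [Ring A] [Algebra k A]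
    [Algebra.IsCentral k A] : Algebra.IsCentral K (K ⊗[k] A) := by
  refine ⟨fun z hz => ?_⟩
  have hz' : z ∈ Subalgebra.center k (K ⊗[k] A) :=
    Subalgebra.mem_center_iff.2 fun x => Subalgebra.mem_center_iff.1 hz x
  rw [center_tensorProduct] at hz'
  obtain ⟨c, -, rfl⟩ := hz'
  exact Algebra.mem_bot.2 ⟨c, rfl⟩

instance isCentral_baseChange' (K A : Type*) [Field K] [Algebra k K] [Ring A] [Algebra k A]
    [Algebra.IsCentral k A] : Algebra.IsCentral K (K ⊗[k] A) :=
  isCentral_baseChange k K A

/-- Tensor product of central algebras is central. -/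
instance isCentral_tensorProduct (B A : Type*) [Ring B] [Algebra k B] [Ring A] [Algebra k A]
    [Algebra.IsCentral k A] [Algebra.IsCentral k B] : Algebra.IsCentral k (B ⊗[k] A) := by
  refine ⟨fun z hz => ?_⟩
  rw [center_tensorProduct, Algebra.IsCentral.center_eq_bot, Algebra.map_bot] at hz
  exact hz

/-- Centrality descends along a field extension. -/
theorem isCentral_of_baseChange (K A : Type*) [Field K] [Algebra k K] [Ring A] [Algebra k A]
    [Algebra.IsCentral K (K ⊗[k] A)] : Algebra.IsCentral k A := by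
  refine ⟨fun a ha => ?_⟩
  have h : (1 : K) ⊗ₜ[k] a ∈ Subalgebra.center K (K ⊗[k] A) := by
    refine Subalgebra.mem_center_iff.2 fun z => ?_
    exact Subalgebra.mem_center_iff.1
      (Algebra.TensorProduct.includeRight_map_center_le k K A ⟨a, ha, rfl⟩) z
  rw [Algebra.IsCentral.center_eq_bot] at h
  obtain ⟨c, hc⟩ := Algebra.mem_bot.1 h
  obtain ⟨φ, hφ⟩ : ∃ φ : K →ₗ[k] k, φ 1 = 1 :=
    LinearMap.exists_extend_of_notMem (p := ⊥) 0 (v := (1 : K)) (by simp) 1
      |>.imp fun φ h => h.2
  have := congrArg (fun t => TensorProduct.lid k A (φ.rTensor A t)) hc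
  simp only [Algebra.TensorProduct.algebraMap_apply, LinearMap.rTensor_tmul,
    TensorProduct.lid_tmul, hφ, one_smul, Algebra.algebraMap_self, RingHom.id_apply] at this
  rw [← this, ← Algebra.algebraMap_eq_smul_one]
  exact Algebra.mem_bot.2 ⟨_, rfl⟩

/-- Simplicity descends along a field extension. -/
theorem isSimpleRing_of_baseChange (K A : Type*) [Field K] [Algebra k K] [Ring A] [Algebra k A]
    [IsSimpleRing (K ⊗[k] A)] : IsSimpleRing A := by
  haveI : Nontrivial A := by
    by_contra h
    rw [not_nontrivial_iff_subsingleton] at h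
    haveI := h
    exact not_subsingleton (K ⊗[k] A) inferInstance
  refine IsSimpleRing.of_eq_bot_or_eq_top fun I => or_iff_not_imp_left.2 fun hI => ?_
  by_contra hI'
  let q : A →+* I.ringCon.Quotient := I.ringCon.mk'
  letI : Algebra k I.ringCon.Quotient := (q.comp (algebraMap k A)).toAlgebra' fun c x => by
    induction x using Quotient.inductionOn' with
    | h a => exact congrArg q (Algebra.commutes c a)
  let qa : A →ₐ[k] I.ringCon.Quotient := { q with commutes' := fun c => rfl }
  haveI : Nontrivial I.ringCon.Quotient := by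
    refine ⟨q 1, q 0, fun h => hI' ((I.one_mem_iff).1 ?_)⟩
    exact (TwoSidedIdeal.mem_iff _ _).2 (Quotient.eq''.1 h)
  haveI : Nontrivial (K ⊗[k] I.ringCon.Quotient) :=
    (Algebra.TensorProduct.includeRight_injective (R := k) (A := K) (B := I.ringCon.Quotient)
      (algebraMap k K).injective).nontrivial
  have hinj := RingHom.injective (Algebra.TensorProduct.map (AlgHom.id k K) qa).toRingHom
  refine hI (le_antisymm (fun a ha => (TwoSidedIdeal.mem_bot _).2 ?_) bot_le)
  refine Algebra.TensorProduct.includeRight_injective (R := k) (A := K) (B := A)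
    (algebraMap k K).injective (hinj ?_)
  have : qa a = 0 := Quotient.eq''.2 ((TwoSidedIdeal.mem_iff _ _).1 ha)
  simp [this]

end Groth.Agent.CSA
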