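import Mathlib.RingTheory.Flat.FaithfullyFlat.Algebra
import Mathlib.RingTheory.Flat.FaithfullyFlat.Descent
import Mathlib.RingTheory.Finiteness.Descent
import Mathlib.RingTheory.Finiteness.Nakayama
import Mathlib.RingTheory.Flat.EquationalCriterion
import Mathlib.LinearAlgebra.TensorProduct.Quotient
import Mathlib.Algebra.Module.Torsion.Basic
import Mathlib.LinearAlgebra.Basis.VectorSpace
import Mathlib.RingTheory.TensorProduct.Finite
import Mathlib.RingTheory.LocalRing.ResidueField.Ideal

/-!
# Fibrewise criteria for finite and projective modules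
-/

namespace Groth.Agent.CSA

set_option linter.style.haveILetI false

open scoped TensorProduct

universe v

variable {R : Type*} [CommRing R]

/-- A finite module is zero when it dies on some base change over each maximal ideal. -/
theorem subsingleton_of_fibres {C : Type*} [AddCommGroup C] [Module R C] [Module.Finite R C]
    (h : ∀ m : Ideal R, m.IsMaximal → ∃ (S : Type v) (_ : CommRing S) (_ : Algebra R S),
      m.map (algebraMap R S) ≠ ⊤ ∧ Subsingleton (S ⊗[R] C)) : Subsingleton C := by
  classical
  let ann : Ideal R :=
    { carrier := {r | ∀ c : C, r • c = 0}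
      add_mem' := fun {a b} ha hb c => by rw [add_smul, ha c, hb c, add_zero]
      zero_mem' := fun c => zero_smul R c
      smul_mem' := fun r {a} ha c => by rw [smul_eq_mul, mul_smul, ha c, smul_zero] }
  suffices hann : ann = ⊤ by
    refine ⟨fun x y => ?_⟩
    have h1 : (1 : R) ∈ ann := hann ▸ Submodule.mem_top
    rw [← one_smul R x, ← one_smul R y, h1 x, h1 y]
  by_contra hne
  obtain ⟨m, hm, hle⟩ := Ideal.exists_le_maximal ann hne
  obtain ⟨S, _, _, hS, hsub⟩ := h m hm
  letI : Field (R ⧸ m) := Ideal.Quotient.field m
  let Q := C ⧸ (m • ⊤ : Submodule R C)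
  by_cases hQ : Subsingleton Q
  · have htop : (m • ⊤ : Submodule R C) = ⊤ := Submodule.Quotient.subsingleton_iff.1 hQ
    obtain ⟨r, hr, hrC⟩ := Submodule.exists_sub_one_mem_and_smul_eq_zero_of_fg_of_le_smul m
      (⊤ : Submodule R C) Module.Finite.fg_top htop.ge
    have : r ∈ ann := fun c => hrC c Submodule.mem_top
    exact hm.ne_top ((Ideal.eq_top_iff_one m).2 (by simpa using m.sub_mem (hle this) hr))
  · rw [not_subsingleton_iff_nontrivial] at hQ
    obtain ⟨v, hv⟩ := exists_ne (0 : Q)
    let b := Module.Basis.ofVectorSpace (R ⧸ m) Q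
    obtain ⟨i, hi⟩ : ∃ i, b.coord i v ≠ 0 := by
      by_contra hall
      push Not at hall
      exact hv (b.forall_coord_eq_zero_iff.1 hall)
    let l : Q →ₗ[R ⧸ m] R ⧸ m := (b.coord i v)⁻¹ • b.coord i
    let ψ : C →ₗ[R] R ⧸ m := (l.restrictScalars R).comp (Submodule.mkQ _)
    obtain ⟨c, hc⟩ : ∃ c, ψ c = 1 := by
      obtain ⟨c, hc⟩ := Submodule.mkQ_surjective (m • ⊤ : Submodule R C) v
      exact ⟨c, by simpa [ψ, hc, l] using inv_mul_cancel₀ hi⟩
    have h0 : (1 : S) ⊗ₜ[R] (1 : R ⧸ m) = 0 := by
      have : (1 : S) ⊗ₜ[R] c = 0 := Subsingleton.elim _ _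
      simpa [hc] using congrArg (ψ.lTensor S) this
    let φ : R ⧸ m →ₐ[R] S ⧸ m.map (algebraMap R S) :=
      Ideal.quotientMapₐ _ (Algebra.ofId R S) (Ideal.le_comap_map : m ≤ _)
    let β : S →ₗ[R] R ⧸ m →ₗ[R] S ⧸ m.map (algebraMap R S) :=
      ((LinearMap.mul R _).compl₂ φ.toLinearMap).comp (Ideal.Quotient.mkₐ R _).toLinearMap
    have h1 := congrArg (TensorProduct.lift β) h0
    simp [β] at h1
    haveI := Ideal.Quotient.nontrivial_iff.2 hS
    exact one_ne_zero h1

theorem map_ne_top_of_comap_surjective {S : Type*} [CommRing S] [Algebra R S]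
    (hS : Function.Surjective (PrimeSpectrum.comap (algebraMap R S))) (m : Ideal R) [m.IsMaximal] :
    m.map (algebraMap R S) ≠ ⊤ := by
  obtain ⟨q, hq⟩ := hS ⟨m, inferInstance⟩
  have hm : q.asIdeal.comap (algebraMap R S) = m := congrArg PrimeSpectrum.asIdeal hq
  exact ne_top_of_le_ne_top q.2.ne_top (Ideal.map_le_iff_le_comap.2 hm.ge)

/-- Fibrewise criterion for bijectivity of a map onto a projective module. -/
theorem bijective_of_fibres {M N : Type*} [AddCommGroup M] [Module R M] [Module.Finite R M]
    [AddCommGroup N] [Module R N] [Module.Finite R N] [Module.Projective R N] (f : M →ₗ[R] N)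
    (h : ∀ m : Ideal R, m.IsMaximal → ∃ (S : Type v) (_ : CommRing S) (_ : Algebra R S),
      m.map (algebraMap R S) ≠ ⊤ ∧ Function.Bijective (f.lTensor S)) :
    Function.Bijective f := by
  have hsurj : Function.Surjective f := by
    have : Subsingleton (N ⧸ LinearMap.range f) := by
      refine subsingleton_of_fibres (R := R) (C := N ⧸ LinearMap.range f) fun m hm => ?_
      obtain ⟨S, _, _, hS, hb⟩ := h m hm
      refine ⟨S, inferInstance, inferInstance, hS, ⟨fun x y => ?_⟩⟩
      suffices ∀ z : S ⊗[R] (N ⧸ LinearMap.range f), z = 0 by rw [this x, this y]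
      intro z
      obtain ⟨z, rfl⟩ := LinearMap.lTensor_surjective S (Submodule.mkQ_surjective _) z
      obtain ⟨w, rfl⟩ := hb.2 z
      rw [← LinearMap.comp_apply, ← LinearMap.lTensor_comp, LinearMap.range_mkQ_comp,
        LinearMap.lTensor_zero, LinearMap.zero_apply]
    exact LinearMap.range_eq_top.1 (Submodule.Quotient.subsingleton_iff.1 this)
  obtain ⟨g, hg⟩ := Module.projective_lifting_property f LinearMap.id hsurj
  refine ⟨?_, hsurj⟩
  have hfg : ∀ x, f (g x) = x := LinearMap.congr_fun hg
  let p : M →ₗ[R] LinearMap.ker f :=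
    (LinearMap.id - g.comp f).codRestrict _ fun x => by simp [hfg]
  have hp : ∀ x, (p x : M) = x - g (f x) := fun x => rfl
  have hpsurj : Function.Surjective p := fun x => ⟨x, Subtype.ext (by simp [hp])⟩
  haveI : Module.Finite R (LinearMap.ker f) := Module.Finite.of_surjective p hpsurj
  have : Subsingleton (LinearMap.ker f) := by
    refine subsingleton_of_fibres (R := R) (C := LinearMap.ker f) fun m hm => ?_
    obtain ⟨S, _, _, hS, hb⟩ := h m hm
    refine ⟨S, inferInstance, inferInstance, hS, ⟨fun x y => ?_⟩⟩
    have hcomp : p.comp (LinearMap.ker f).subtype = LinearMap.id :=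
      LinearMap.ext fun x => Subtype.ext (by simp [hp])
    have hinj : Function.Injective ((LinearMap.ker f).subtype.lTensor S) :=
      Function.LeftInverse.injective (g := p.lTensor S) fun z => by
        rw [← LinearMap.comp_apply, ← LinearMap.lTensor_comp, hcomp, LinearMap.lTensor_id,
          LinearMap.id_apply]
    refine hinj (hb.1 ?_)
    rw [← LinearMap.comp_apply, ← LinearMap.comp_apply, ← LinearMap.lTensor_comp,
      LinearMap.comp_ker_subtype]
    simp
  exact LinearMap.ker_eq_bot.1 (Submodule.subsingleton_iff_eq_bot.1 this)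

/-- Descent of finite projectivity along faithfully flat extensions. -/
theorem finite_projective_of_faithfullyFlat (S : Type*) [CommRing S] [Algebra R S]
    [Module.FaithfullyFlat R S] (M : Type*) [AddCommGroup M] [Module R M]
    [Module.Finite S (S ⊗[R] M)] [Module.Projective S (S ⊗[R] M)] :
    Module.Finite R M ∧ Module.Projective R M := by
  haveI hfin := Module.Finite.of_finite_tensorProduct_of_faithfullyFlat S (R := R) (M := M)
  haveI hflat : Module.Flat R M := by
    rw [Module.Flat.iff_lTensor_injective']
    intro I
    refine Module.FaithfullyFlat.lTensor_injective_iff_injective R S _ |>.1 ?_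
    have e : ∀ z, (TensorProduct.AlgebraTensorModule.distribBaseChange R S M R)
        ((I.subtype.lTensor M).lTensor S z) =
          ((I.subtype.baseChange S).lTensor (S ⊗[R] M))
            (TensorProduct.AlgebraTensorModule.distribBaseChange R S M I z) := by
      intro z
      induction z using TensorProduct.induction_on with
      | zero => simp
      | tmul s t =>
        induction t using TensorProduct.induction_on with
        | zero => simp
        | tmul a b => simp
        | add a b ha hb => simp only [TensorProduct.tmul_add, map_add, ha, hb]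
      | add a b ha hb => simp only [map_add, ha, hb]
    have hI : Function.Injective (I.subtype.baseChange S) :=
      Module.Flat.lTensor_preserves_injective_linearMap _ Subtype.val_injective
    intro x y hxy
    apply (TensorProduct.AlgebraTensorModule.distribBaseChange R S M I).injective
    apply Module.Flat.lTensor_preserves_injective_linearMap (R := S) _ hI
    rw [← e, ← e, hxy]
  refine ⟨hfin, ?_⟩
  obtain ⟨n, f, hf⟩ := Module.Finite.exists_fin' R M
  haveI : Module.FinitePresentation R M := by
    refine Module.finitePresentation_of_surjective f hf ?_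
    rw [← Module.Finite.iff_fg]
    refine @Module.Finite.of_finite_tensorProduct_of_faithfullyFlat R _ S _ _ _ _ _ _ ?_
    have hfS : Function.Surjective (f.baseChange S) := LinearMap.lTensor_surjective S hf
    obtain ⟨g, hg⟩ := Module.projective_lifting_property (f.baseChange S) LinearMap.id hfS
    have hex : Function.Exact (LinearMap.ker f).subtype f := LinearMap.exact_subtype_ker_map f
    have hexS : Function.Exact ((LinearMap.ker f).subtype.baseChange S) (f.baseChange S) :=
      Module.Flat.lTensor_exact S hex
    have hinjS : Function.Injective ((LinearMap.ker f).subtype.baseChange S) :=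
      Module.Flat.lTensor_preserves_injective_linearMap _ Subtype.val_injective
    have hgf : ∀ x, f.baseChange S (g x) = x := LinearMap.congr_fun hg
    let P : S ⊗[R] (Fin n → R) →ₗ[S] LinearMap.range ((LinearMap.ker f).subtype.baseChange S) :=
      (LinearMap.id - g.comp (f.baseChange S)).codRestrict _ fun x =>
        (hexS _).1 (by simp [hgf])
    have hP : Function.Surjective P := fun ⟨x, hx⟩ => ⟨x, Subtype.ext (by
      change x - g (f.baseChange S x) = x
      rw [(hexS x).2 hx, map_zero, sub_zero])⟩
    exact Module.Finite.of_surjective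
      ((LinearEquiv.ofInjective _ hinjS).symm.toLinearMap.comp P)
      ((LinearEquiv.ofInjective _ hinjS).symm.surjective.comp hP)
  exact Module.Flat.projective_of_finitePresentation

end Groth.Agent.CSA
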