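import Groth.Agent.CSA.Index
import Mathlib.LinearAlgebra.Matrix.Charpoly.Coeff
import Mathlib.FieldTheory.Galois.Basic
import Mathlib.FieldTheory.Normal.Closure
import Mathlib.FieldTheory.IsAlgClosed.AlgebraicClosure
import Mathlib.FieldTheory.IsSepClosed
import Mathlib.RingTheory.Ideal.Quotient.Operations

/-!
# Representations, the reduced characteristic polynomial, reduced norm and trace
-/

namespace Groth.Agent.CSA

set_option linter.style.haveILetI false
set_option linter.unusedSectionVars false

open scoped TensorProduct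
open TensorProduct

universe u v

variable {k : Type u} [Field k] {A : Type v} [Ring A] [Algebra k A] [IsCSA k A]

section rep

variable {L : Type*} [Field L] [Algebra k L] {ι : Type*} [Fintype ι] [DecidableEq ι]

/-- The linear extension of a representation. -/
noncomputable def repLift (f : A →ₐ[k] Matrix ι ι L) : L ⊗[k] A →ₐ[L] Matrix ι ι L :=
  Algebra.TensorProduct.lift (Algebra.ofId L _) f fun l a => Algebra.commute_algebraMap_left l (f a)

@[simp] theorem repLift_tmul (f : A →ₐ[k] Matrix ι ι L) (l : L) (a : A) :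
    repLift f (l ⊗ₜ a) = l • f a := by
  exact (Algebra.TensorProduct.lift_tmul _ _ _ l a).trans (Algebra.smul_def l (f a)).symm

theorem repLift_bijective (f : A →ₐ[k] Matrix ι ι L) [Nonempty ι]
    (h : Fintype.card ι ^ 2 = Module.finrank k A) : Function.Bijective (repLift f) := by
  have hinj : Function.Injective (repLift f) := RingHom.injective (repLift f).toRingHom
  exact ⟨hinj, ((repLift f).toLinearMap.injective_iff_surjective_of_finrank_eq_finrank
    (by rw [Module.finrank_baseChange, Module.finrank_matrix, Module.finrank_self, ← h]; ring)).1 hinj⟩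

theorem nonempty_of_card_sq (h : Fintype.card ι ^ 2 = Module.finrank k A) : Nonempty ι := by
  by_contra hne
  rw [not_nonempty_iff] at hne
  rw [Fintype.card_eq_zero, zero_pow two_ne_zero] at h
  exact (Module.finrank_pos (R := k) (M := A)).ne h

theorem rep_conj (f g : A →ₐ[k] Matrix ι ι L) (h : Fintype.card ι ^ 2 = Module.finrank k A) :
    ∃ u : (Matrix ι ι L)ˣ, ∀ a, g a = (u : Matrix ι ι L) * f a * (u⁻¹ : (Matrix ι ι L)ˣ) := by
  haveI := nonempty_of_card_sq h
  obtain ⟨u, hu⟩ := skolem_noether L (repLift f) (repLift g)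
  exact ⟨u, fun a => by simpa using hu ((1 : L) ⊗ₜ a)⟩

theorem rep_charpoly_eq (f g : A →ₐ[k] Matrix ι ι L) (h : Fintype.card ι ^ 2 = Module.finrank k A)
    (a : A) : (f a).charpoly = (g a).charpoly := by
  obtain ⟨u, hu⟩ := rep_conj f g h
  rw [hu, Matrix.coe_units_inv]
  exact (Matrix.charpoly_units_conj u (f a)).symm

/-- Change the field of a representation. -/
noncomputable def repMap {M : Type*} [Field M] [Algebra k M] (σ : L →ₐ[k] M)
    (f : A →ₐ[k] Matrix ι ι L) : A →ₐ[k] Matrix ι ι M :=
  σ.mapMatrix.comp f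

/-- The representation attached to a splitting. -/
noncomputable def repOf (φ : L ⊗[k] A ≃ₐ[L] Matrix ι ι L) : A →ₐ[k] Matrix ι ι L :=
  (φ.toAlgHom.restrictScalars k).comp Algebra.TensorProduct.includeRight

theorem card_sq_of_splitting (φ : L ⊗[k] A ≃ₐ[L] Matrix ι ι L) :
    Fintype.card ι ^ 2 = Module.finrank k A := by
  rw [← Module.finrank_baseChange (R := L) (S := k) (M' := A), φ.toLinearEquiv.finrank_eq,
    Module.finrank_matrix, Module.finrank_self, sq, mul_one]

end rep

/-- A representation over a finite Galois extension. -/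
theorem exists_galois_rep (k : Type u) [Field k] (A : Type v) [Ring A] [Algebra k A] [IsCSA k A] {n : ℕ}
    (hn : n ^ 2 = Module.finrank k A) :
    ∃ (K : Type u) (_ : Field K) (_ : Algebra k K), FiniteDimensional k K ∧ IsGalois k K ∧
      Nonempty (A →ₐ[k] Matrix (Fin n) (Fin n) K) := by
  obtain ⟨L, _, _, _, _, r, -, hr2, ⟨φ⟩⟩ := exists_finite_separable_splitting k A
  obtain rfl : r = n := Nat.pow_left_injective two_ne_zero (hr2.trans hn.symm)
  let Ω := SeparableClosure k
  let σ : L →ₐ[k] Ω := IsSepClosed.lift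
  letI : Algebra L Ω := σ.toRingHom.toAlgebra
  haveI : IsScalarTower k L Ω := IsScalarTower.of_algebraMap_eq fun x => (σ.commutes x).symm
  let K := IntermediateField.normalClosure k L Ω
  exact ⟨K, inferInstance, inferInstance, inferInstance, isGalois_iff.2 ⟨inferInstance, inferInstance⟩,
    ⟨repMap (IsScalarTower.toAlgHom k L K) (repOf φ)⟩⟩

/-- Existence of the reduced characteristic polynomial. -/
theorem exists_reducedCharpoly (a : A) :
    ∃ P : Polynomial k, ∀ (L : Type u) [Field L] [Algebra k L] (n : ℕ)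
      (_ : n ^ 2 = Module.finrank k A) (f : A →ₐ[k] Matrix (Fin n) (Fin n) L),
      (f a).charpoly = P.map (algebraMap k L) := by
  obtain ⟨n, -, hn⟩ := exists_sq_eq_finrank' (k := k) (A := A)
  have hcard : Fintype.card (Fin n) ^ 2 = Module.finrank k A := by simpa using hn
  obtain ⟨K, _, _, _, _, ⟨f₀⟩⟩ := exists_galois_rep k A hn
  have hfix : ∀ i, (f₀ a).charpoly.coeff i ∈ Set.range (algebraMap k K) := by
    intro i
    rw [IsGalois.mem_range_algebraMap_iff_fixed]
    intro σ
    have := rep_charpoly_eq (repMap σ.toAlgHom f₀) f₀ hcard a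
    conv_rhs => rw [← this]
    simp only [repMap, AlgHom.comp_apply, AlgHom.mapMatrix_apply]
    change _ = (((f₀ a).map σ.toRingEquiv.toRingHom).charpoly).coeff i
    rw [Matrix.charpoly_map, Polynomial.coeff_map]
    rfl
  obtain ⟨P, hP⟩ : ∃ P : Polynomial k, P.map (algebraMap k K) = (f₀ a).charpoly :=
    (Polynomial.mem_lifts _).1 ((Polynomial.lifts_iff_coeff_lifts _).2 hfix)
  refine ⟨P, fun L _ _ m hm f => ?_⟩
  obtain rfl : m = n := Nat.pow_left_injective two_ne_zero (hm.trans hn.symm)
  haveI : Nontrivial (L ⊗[k] K) :=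
    (Algebra.TensorProduct.includeLeft_injective (R := k) (S := k) (A := L) (B := K)
      (algebraMap k K).injective).nontrivial
  obtain ⟨m', hm'⟩ := Ideal.exists_maximal (L ⊗[k] K)
  letI : Field ((L ⊗[k] K) ⧸ m') := Ideal.Quotient.field m'
  let σL : L →ₐ[k] (L ⊗[k] K) ⧸ m' :=
    (Ideal.Quotient.mkₐ k m').comp Algebra.TensorProduct.includeLeft
  let σK : K →ₐ[k] (L ⊗[k] K) ⧸ m' :=
    (Ideal.Quotient.mkₐ k m').comp Algebra.TensorProduct.includeRight
  have h := rep_charpoly_eq (repMap σL f) (repMap σK f₀) hcard a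
  simp only [repMap, AlgHom.comp_apply, AlgHom.mapMatrix_apply] at h
  refine Polynomial.map_injective σL.toRingHom σL.toRingHom.injective ?_
  rw [← Matrix.charpoly_map, Polynomial.map_map]
  rw [show σL.toRingHom.comp (algebraMap k L) = σK.toRingHom.comp (algebraMap k K) from
    RingHom.ext fun x => (σL.commutes x).trans (σK.commutes x).symm,
    ← Polynomial.map_map, hP, ← Matrix.charpoly_map]
  exact h

/-- The reduced characteristic polynomial. -/
noncomputable def rcharpoly (k : Type u) [Field k] [Algebra k A] [IsCSA k A] (a : A) : Polynomial k :=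
  (exists_reducedCharpoly (k := k) a).choose

theorem rep_charpoly {L : Type u} [Field L] [Algebra k L] {n : ℕ} (hn : n ^ 2 = Module.finrank k A)
    (f : A →ₐ[k] Matrix (Fin n) (Fin n) L) (a : A) :
    (f a).charpoly = (rcharpoly k a).map (algebraMap k L) :=
  (exists_reducedCharpoly (k := k) a).choose_spec L n hn f

variable (k A)

/-- The degree. -/
noncomputable def deg [IsCSA k A] : ℕ := (exists_sq_eq_finrank' (k := k) (A := A)).choose

theorem deg_sq : deg k A ^ 2 = Module.finrank k A :=
  (exists_sq_eq_finrank' (k := k) (A := A)).choose_spec.2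

theorem deg_pos : 0 < deg k A := (exists_sq_eq_finrank' (k := k) (A := A)).choose_spec.1

variable {k A}

theorem deg_unique {n : ℕ} (h : n ^ 2 = Module.finrank k A) : n = deg k A :=
  Nat.pow_left_injective two_ne_zero (h.trans (deg_sq k A).symm)

theorem deg_unique' {L : Type*} [Field L] [Algebra k L] {n : ℕ}
    (φ : L ⊗[k] A ≃ₐ[L] Matrix (Fin n) (Fin n) L) : n = deg k A :=
  deg_unique (by simpa using card_sq_of_splitting φ)

variable (k)

/-- The reduced norm. -/
noncomputable def rnorm (a : A) : k := (-1) ^ deg k A * (rcharpoly k a).coeff 0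

/-- The reduced trace. -/
noncomputable def rtrace (a : A) : k := -(rcharpoly k a).coeff (deg k A - 1)

variable {k}

theorem rep_det {L : Type u} [Field L] [Algebra k L] {n : ℕ} (hn : n ^ 2 = Module.finrank k A)
    (f : A →ₐ[k] Matrix (Fin n) (Fin n) L) (a : A) : (f a).det = algebraMap k L (rnorm k a) := by
  obtain rfl := deg_unique hn
  rw [Matrix.det_eq_sign_charpoly_coeff, rep_charpoly hn, Polynomial.coeff_map, Fintype.card_fin, rnorm]
  simp

theorem rep_trace {L : Type u} [Field L] [Algebra k L] {n : ℕ} (hn : n ^ 2 = Module.finrank k A)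
    (f : A →ₐ[k] Matrix (Fin n) (Fin n) L) (a : A) : (f a).trace = algebraMap k L (rtrace k a) := by
  obtain rfl := deg_unique hn
  haveI : Nonempty (Fin (deg k A)) := ⟨⟨0, deg_pos k A⟩⟩
  rw [Matrix.trace_eq_neg_charpoly_coeff, rep_charpoly hn, Polynomial.coeff_map, Fintype.card_fin, rtrace]
  simp

theorem rnorm_mul (a b : A) : rnorm k (a * b) = rnorm k a * rnorm k b := by
  obtain ⟨K, _, _, _, _, ⟨f⟩⟩ := exists_galois_rep k A (deg_sq k A)
  apply (algebraMap k K).injective
  rw [map_mul, ← rep_det (deg_sq k A) f, ← rep_det (deg_sq k A) f, ← rep_det (deg_sq k A) f,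
    map_mul, Matrix.det_mul]

theorem rnorm_one : rnorm k (1 : A) = 1 := by
  obtain ⟨K, _, _, _, _, ⟨f⟩⟩ := exists_galois_rep k A (deg_sq k A)
  apply (algebraMap k K).injective
  rw [map_one, ← rep_det (deg_sq k A) f, map_one, Matrix.det_one]

variable (k A)

/-- The reduced norm as a monoid homomorphism. -/
noncomputable def rnormHom : A →* k where
  toFun := rnorm k
  map_one' := rnorm_one
  map_mul' := rnorm_mul

/-- The reduced trace as a linear map. -/
noncomputable def rtraceLin : A →ₗ[k] k where
  toFun := rtrace k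
  map_add' a b := by
    obtain ⟨K, _, _, _, _, ⟨f⟩⟩ := exists_galois_rep k A (deg_sq k A)
    apply (algebraMap k K).injective
    rw [map_add, ← rep_trace (deg_sq k A) f, ← rep_trace (deg_sq k A) f, ← rep_trace (deg_sq k A) f,
      map_add, Matrix.trace_add]
  map_smul' c a := by
    obtain ⟨K, _, _, _, _, ⟨f⟩⟩ := exists_galois_rep k A (deg_sq k A)
    apply (algebraMap k K).injective
    rw [RingHom.id_apply, smul_eq_mul, map_mul, ← rep_trace (deg_sq k A) f, ← rep_trace (deg_sq k A) f,
      map_smul, Matrix.trace_smul, Algebra.smul_def]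

variable {k A}

theorem isRedNorm_eq {N : A →* k} (hN : CSAGal.IsRedNorm k A N) (a : A) : N a = rnorm k a := by
  obtain ⟨K, _, _, _, n, φ, h⟩ := hN
  apply (algebraMap k K).injective
  rw [h, ← rep_det (by simpa using card_sq_of_splitting φ) (repOf φ) a]
  rfl

theorem isRedTrace_eq {T : A →+ k} (hT : CSAGal.IsRedTrace k A T) (a : A) : T a = rtrace k a := by
  obtain ⟨K, _, _, _, n, φ, h⟩ := hT
  apply (algebraMap k K).injective
  rw [h, ← rep_trace (by simpa using card_sq_of_splitting φ) (repOf φ) a]
  rfl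

theorem rcharpoly_natDegree (a : A) : (rcharpoly k a).natDegree = deg k A := by
  obtain ⟨K, _, _, _, _, ⟨f⟩⟩ := exists_galois_rep k A (deg_sq k A)
  rw [← Polynomial.natDegree_map (algebraMap k K), ← rep_charpoly (deg_sq k A) f,
    Matrix.charpoly_natDegree_eq_dim, Fintype.card_fin]

end Groth.Agent.CSA
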