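import Mathlib.FieldTheory.Galois.Basic
import Mathlib.FieldTheory.Fixed
import Mathlib.LinearAlgebra.Dual.Lemmas
import Mathlib.LinearAlgebra.FreeModule.Finite.Basic
import Mathlib.RingTheory.TensorProduct.Free

/-!
# Galois descent of vector spaces with a semilinear action
-/

namespace Groth.Agent.CSA

set_option linter.style.haveILetI false
set_option linter.unusedSectionVars false

open scoped TensorProduct
open TensorProduct

universe u v w

variable {k : Type u} [Field k] {K : Type v} [Field K] [Algebra k K] [FiniteDimensional k K]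
  [IsGalois k K]

section

variable {V : Type w} [AddCommGroup V] [Module K V] [Module k V] [IsScalarTower k K V]
  [DistribMulAction (K ≃ₐ[k] K) V]
  (hsemi : ∀ (σ : K ≃ₐ[k] K) (c : K) (v : V), σ • (c • v) = σ c • σ • v)
include hsemi

/-- The fixed vectors span. -/
theorem span_fixed_eq_top : Submodule.span K (MulAction.fixedPoints (K ≃ₐ[k] K) V) = ⊤ := by
  classical
  by_contra hne
  obtain ⟨φ, hφ0, hφ⟩ := Submodule.exists_dual_map_eq_bot_of_lt_top (lt_top_iff_ne_top.2 hne) inferInstance
  have hli : LinearIndependent K fun τ : K ≃ₐ[k] K => (τ.toAlgHom.toLinearMap : K →ₗ[k] K) :=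
    (linearIndependent_toLinearMap k K K).comp AlgEquiv.toAlgHom fun a b h =>
      AlgEquiv.ext fun x => DFunLike.congr_fun h x
  refine hφ0 (LinearMap.ext fun v => ?_)
  have hsum : ∑ τ : K ≃ₐ[k] K, φ (τ • v) • (τ.toAlgHom.toLinearMap : K →ₗ[k] K) = 0 := by
    refine LinearMap.ext fun z => ?_
    let w := ∑ τ : K ≃ₐ[k] K, τ z • τ • v
    have hw : w ∈ MulAction.fixedPoints (K ≃ₐ[k] K) V := fun σ => by
      simp only [w, Finset.smul_sum, hsemi, ← mul_smul σ]
      exact Fintype.sum_equiv (Equiv.mulLeft σ) _ _ fun τ => rfl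
    have h0 : φ w = 0 :=
      (Submodule.mem_bot K).1 (hφ ▸ Submodule.mem_map_of_mem (Submodule.subset_span hw))
    simp only [w, map_sum, map_smul] at h0
    simpa [mul_comm] using h0
  have := Fintype.linearIndependent_iff.1 hli (fun τ => φ (τ • v)) hsum 1
  simpa using this

/-- Fixed vectors independent over `k` are independent over `K`. -/
theorem linearIndependent_of_fixed {ι : Type*} (v : ι → V)
    (hv : ∀ i, v i ∈ MulAction.fixedPoints (K ≃ₐ[k] K) V) (hli : LinearIndependent k v) :
    LinearIndependent K v := by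
  classical
  rw [linearIndependent_iff']
  intro s
  induction s using Finset.induction with
  | empty => simp
  | insert a s has ih =>
    intro g hg
    rw [Finset.sum_insert has] at hg
    by_cases hga : g a = 0
    · intro i hi
      rw [hga, zero_smul, zero_add] at hg
      rcases Finset.mem_insert.1 hi with rfl | hi
      · exact hga
      · exact ih g hg i hi
    exfalso
    have h1 : v a + ∑ i ∈ s, ((g a)⁻¹ * g i) • v i = 0 := by
      have := congrArg ((g a)⁻¹ • ·) hg
      simpa [smul_add, Finset.smul_sum, smul_smul, hga] using this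
    have hfix : ∀ i ∈ s, ∀ σ : K ≃ₐ[k] K, σ ((g a)⁻¹ * g i) = (g a)⁻¹ * g i := by
      intro i hi σ
      have h2 : v a + ∑ i ∈ s, σ ((g a)⁻¹ * g i) • v i = 0 := by
        have := congrArg (σ • ·) h1
        simpa [smul_add, Finset.smul_sum, hsemi, fun i => hv i σ] using this
      have h3 : ∑ i ∈ s, (σ ((g a)⁻¹ * g i) - (g a)⁻¹ * g i) • v i = 0 := by
        simp only [sub_smul, Finset.sum_sub_distrib]
        rw [eq_neg_of_add_eq_zero_right h2, eq_neg_of_add_eq_zero_right h1, sub_self]
      exact sub_eq_zero.1 (ih _ h3 i hi)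
    choose c hc using fun i : s => (IsGalois.mem_range_algebraMap_iff_fixed (F := k) ((g a)⁻¹ * g i)).2
      (hfix i i.2)
    rw [linearIndependent_iff'] at hli
    let c' : ι → k := fun i => if h : i ∈ s then c ⟨i, h⟩ else 1
    have h4 : ∑ i ∈ insert a s, c' i • v i = 0 := by
      rw [Finset.sum_insert has, ← h1]
      congr 1
      · simp [c', has]
      · refine Finset.sum_congr rfl fun i hi => ?_
        rw [← hc ⟨i, hi⟩, algebraMap_smul]
        simp [c', hi]
    have := hli _ c' h4 a (Finset.mem_insert_self a s)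
    simp [c', has] at this

end

/-- The fixed elements of a base change. -/
theorem exists_eq_one_tmul_of_fixed {W : Type w} [AddCommGroup W] [Module k W] (z : K ⊗[k] W)
    (hz : ∀ σ : K ≃ₐ[k] K, LinearMap.rTensor W σ.toLinearMap z = z) : ∃ a : W, z = 1 ⊗ₜ a := by
  let b := Module.Free.chooseBasis k W
  let B := Algebra.TensorProduct.basis K b
  have hcoord : ∀ (σ : K ≃ₐ[k] K) (z : K ⊗[k] W) i,
      B.repr (LinearMap.rTensor W σ.toLinearMap z) i = σ (B.repr z i) := by
    intro σ z i
    induction z using TensorProduct.induction_on with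
    | zero => simp
    | tmul l c => simp [B, map_mul]
    | add u v hu hv => simp only [map_add, Finsupp.add_apply, hu, hv]
  choose c hc using fun i => (IsGalois.mem_range_algebraMap_iff_fixed (F := k) (B.repr z i)).2
    fun σ => by rw [← hcoord σ, hz σ]
  refine ⟨∑ i ∈ (B.repr z).support, c i • b i, ?_⟩
  conv_lhs => rw [← B.linearCombination_repr z, Finsupp.linearCombination_apply, Finsupp.sum]
  rw [tmul_sum]
  refine Finset.sum_congr rfl fun i _ => ?_
  rw [← hc i, tmul_smul, algebraMap_smul]
  simp [B]

end Groth.Agent.CSA
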