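import Groth.Agent.CSA.Split
import Groth.Agent.CSA.Fibre
import Mathlib.Algebra.Azumaya.Matrix
import Mathlib.LinearAlgebra.Dual.Lemmas

/-!
# Azumaya algebras: base change, descent, fibrewise criterion
-/

namespace Groth.Agent.CSA

set_option linter.style.haveILetI false

open scoped TensorProduct
open TensorProduct

variable {R : Type*} [CommRing R]

section retraction

variable {A : Type*} [Ring A] [Algebra R A] [Module.Finite R A] [Module.Projective R A]

/-- If `1` dies on no fibre then the unit map splits. -/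
theorem exists_retraction (h : ∀ m : Ideal R, m.IsMaximal → (1 : A) ∉ (m • ⊤ : Submodule R A)) :
    ∃ τ : A →ₗ[R] R, τ 1 = 1 := by
  suffices hI : LinearMap.range (Module.Dual.eval R A 1) = ⊤ by
    obtain ⟨τ, hτ⟩ := (LinearMap.range_eq_top.1 hI) 1
    exact ⟨τ, hτ⟩
  by_contra hne
  obtain ⟨m, hm, hle⟩ := Ideal.exists_le_maximal _ hne
  obtain ⟨s, hs⟩ := Module.projective_def'.1 (inferInstance : Module.Projective R A)
  refine h m hm ?_
  have h1 := LinearMap.congr_fun hs (1 : A)
  rw [LinearMap.id_apply, LinearMap.comp_apply, Finsupp.linearCombination_apply] at h1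
  rw [← h1]
  refine Submodule.finsuppSum_mem _ _ _ _ fun x hx => Submodule.smul_mem_smul ?_ Submodule.mem_top
  exact hle ⟨(Finsupp.lapply x).comp s, rfl⟩

theorem faithfulSMul_of_retraction (h : ∃ τ : A →ₗ[R] R, τ 1 = 1) : FaithfulSMul R A := by
  obtain ⟨τ, hτ⟩ := h
  refine ⟨fun {r s} hrs => ?_⟩
  have := congrArg τ (hrs 1)
  simpa [hτ] using this

theorem one_notMem_smul_top [FaithfulSMul R A] {m : Ideal R} (hm : m.IsMaximal) :
    (1 : A) ∉ (m • ⊤ : Submodule R A) := by
  intro h
  have htop : (⊤ : Submodule R A) ≤ m • ⊤ := fun a _ => by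
    have h' := Submodule.mem_map_of_mem (f := LinearMap.mulLeft R a) h
    rw [Submodule.map_smul''] at h'
    have := Submodule.smul_mono le_rfl (le_top : Submodule.map (LinearMap.mulLeft R a) ⊤ ≤ ⊤) h'
    simpa using this
  obtain ⟨r, hr, hrA⟩ := Submodule.exists_sub_one_mem_and_smul_eq_zero_of_fg_of_le_smul m ⊤
    Module.Finite.fg_top htop
  have : r = 0 := FaithfulSMul.eq_of_smul_eq_smul (α := A) fun a => by
    rw [hrA a Submodule.mem_top, zero_smul]
  subst this
  exact hm.ne_top ((Ideal.eq_top_iff_one m).2 (by simpa using m.neg_mem hr))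

end retraction

theorem exists_retraction_of_isAzumaya (A : Type*) [Ring A] [Algebra R A] [IsAzumaya R A] :
    ∃ τ : A →ₗ[R] R, τ 1 = 1 :=
  exists_retraction fun _ hm => one_notMem_smul_top hm

section baseChange

variable (S : Type*) [CommRing S] [Algebra R S]

theorem exists_dual_basis (M : Type*) [AddCommGroup M] [Module R M] [Module.Finite R M]
    [Module.Projective R M] :
    ∃ (n : ℕ) (x : Fin n → M) (f : Fin n → M →ₗ[R] R), ∀ m, ∑ i, f i m • x i = m := by
  obtain ⟨n, s, hs⟩ := Module.Finite.exists_fin' R M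
  obtain ⟨t, hts⟩ := Module.projective_lifting_property s LinearMap.id hs
  refine ⟨n, fun i => s (Pi.single i 1), fun i => (LinearMap.proj i).comp t, fun m => ?_⟩
  conv_rhs => rw [← LinearMap.id_apply (R := R) m, ← hts, LinearMap.comp_apply,
    pi_eq_sum_univ' (t m), map_sum]
  refine Finset.sum_congr rfl fun i _ => ?_
  simp

/-- Homomorphisms out of a finite projective module. -/
theorem finite_projective_linearMap (M N : Type*) [AddCommGroup M] [Module R M] [Module.Finite R M]
    [Module.Projective R M] [AddCommGroup N] [Module R N] [Module.Finite R N]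
    [Module.Projective R N] :
    Module.Finite R (M →ₗ[R] N) ∧ Module.Projective R (M →ₗ[R] N) := by
  obtain ⟨n, x, f, hx⟩ := exists_dual_basis (R := R) M
  let up : (M →ₗ[R] N) →ₗ[R] Fin n → N := LinearMap.pi fun i => LinearMap.applyₗ (x i)
  let down : (Fin n → N) →ₗ[R] M →ₗ[R] N :=
    ∑ i, (LinearMap.smulRightₗ (f i)).comp (LinearMap.proj i)
  have h : down.comp up = LinearMap.id := LinearMap.ext fun g => LinearMap.ext fun m => by
    conv_rhs => rw [LinearMap.id_apply, ← hx m, map_sum]
    simp [up, down]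
  haveI : Module.Projective R (Fin n → N) :=
    .of_equiv (DFinsupp.linearEquivFunOnFintype (R := R) (M := fun _ : Fin n => N))
  exact ⟨Module.Finite.of_surjective down fun g => ⟨up g, LinearMap.congr_fun h g⟩,
    Module.Projective.of_split up down h⟩

/-- Base change of endomorphisms of a finite projective module. -/
theorem liftBaseChange_baseChangeHom_bijective (M N : Type*) [AddCommGroup M] [Module R M]
    [Module.Finite R M] [Module.Projective R M] [AddCommGroup N] [Module R N] :
    Function.Bijective ((LinearMap.baseChangeHom R S M N).liftBaseChange S) := by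
  obtain ⟨n, x, f, hx⟩ := exists_dual_basis (R := R) M
  let Ψ := (LinearMap.baseChangeHom R S M N).liftBaseChange S
  let G : (S ⊗[R] M →ₗ[S] S ⊗[R] N) → S ⊗[R] (M →ₗ[R] N) := fun φ =>
    ∑ i, (LinearMap.smulRightₗ (f i)).lTensor S (φ (1 ⊗ₜ x i))
  have hΨ : ∀ (a : S) (g : M →ₗ[R] N) (b : S) (m : M), Ψ (a ⊗ₜ g) (b ⊗ₜ m) = (a * b) ⊗ₜ g m := by
    intro a g b m
    simp [Ψ, smul_tmul']
  have hGlin : ∀ φ ψ, G (φ + ψ) = G φ + G ψ := fun φ ψ => by
    simp [G, Finset.sum_add_distrib]
  have hGΨ : ∀ z, G (Ψ z) = z := by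
    intro z
    induction z using TensorProduct.induction_on with
    | zero => simp [G, Ψ]
    | tmul a g =>
      simp only [G, hΨ, mul_one, LinearMap.lTensor_tmul, ← tmul_sum]
      congr 1
      refine LinearMap.ext fun m => ?_
      conv_rhs => rw [← hx m, map_sum]
      simp
    | add z w hz hw => rw [map_add, hGlin, hz, hw]
  have hΨG : ∀ φ, Ψ (G φ) = φ := by
    intro φ
    refine TensorProduct.AlgebraTensorModule.ext fun b m => ?_
    have key : ∀ (i) (y : S ⊗[R] N),
        Ψ ((LinearMap.smulRightₗ (f i)).lTensor S y) (b ⊗ₜ m) = b • (f i m • y) := by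
      intro i y
      induction y using TensorProduct.induction_on with
      | zero => simp
      | tmul a p => simp [hΨ, smul_tmul', mul_comm, tmul_smul]
      | add y z hy hz => simp only [map_add, LinearMap.add_apply, hy, hz, smul_add]
    simp only [G, map_sum, LinearMap.coe_sum, Finset.sum_apply, key]
    conv_rhs => rw [← mul_one b, ← smul_eq_mul, ← smul_tmul', map_smul, ← hx m, tmul_sum, map_sum,
      Finset.smul_sum]
    refine Finset.sum_congr rfl fun i _ => ?_
    rw [tmul_smul, LinearMap.map_smul_of_tower]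
  exact ⟨Function.LeftInverse.injective hGΨ, Function.RightInverse.surjective hΨG⟩

/-- `S ⊗ (A ⊗ Aᵒᵖ)` as `(S ⊗ A) ⊗ (S ⊗ A)ᵒᵖ`. -/
noncomputable def enveloping (A : Type*) [Ring A] [Algebra R A] :
    S ⊗[R] (A ⊗[R] Aᵐᵒᵖ) ≃ₗ[S] (S ⊗[R] A) ⊗[S] (S ⊗[R] A)ᵐᵒᵖ :=
  AlgebraTensorModule.distribBaseChange R S A Aᵐᵒᵖ ≪≫ₗ TensorProduct.congr (LinearEquiv.refl S _)
    ((LinearEquiv.baseChange R S Aᵐᵒᵖ A (MulOpposite.opLinearEquiv R).symm) ≪≫ₗ
      MulOpposite.opLinearEquiv S)

theorem mulLeftRight_enveloping (A : Type*) [Ring A] [Algebra R A] (z : S ⊗[R] (A ⊗[R] Aᵐᵒᵖ)) :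
    AlgHom.mulLeftRight S (S ⊗[R] A) (enveloping S A z) =
      (LinearMap.baseChangeHom R S A A).liftBaseChange S
        ((AlgHom.mulLeftRight R A).toLinearMap.lTensor S z) := by
  induction z using TensorProduct.induction_on with
  | zero => simp
  | tmul s t =>
    induction t using TensorProduct.induction_on with
    | zero => simp
    | tmul a b =>
      refine TensorProduct.AlgebraTensorModule.ext fun c x => ?_
      simp [enveloping, Algebra.TensorProduct.tmul_mul_tmul, smul_tmul']
    | add x y hx hy => simp only [tmul_add, map_add, hx, hy]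
  | add x y hx hy => simp only [map_add, hx, hy]

theorem bijective_mulLeftRight_baseChange_iff (A : Type*) [Ring A] [Algebra R A]
    [Module.Finite R A] [Module.Projective R A] :
    Function.Bijective (AlgHom.mulLeftRight S (S ⊗[R] A)) ↔
      Function.Bijective ((AlgHom.mulLeftRight R A).toLinearMap.lTensor S) := by
  have h : ⇑(AlgHom.mulLeftRight S (S ⊗[R] A)) ∘ ⇑(enveloping S A) =
      ⇑((LinearMap.baseChangeHom R S A A).liftBaseChange S) ∘
        ⇑((AlgHom.mulLeftRight R A).toLinearMap.lTensor S) :=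
    funext (mulLeftRight_enveloping S A)
  rw [← Function.Bijective.of_comp_iff _ (enveloping S A).bijective, h,
    Function.Bijective.of_comp_iff' (liftBaseChange_baseChangeHom_bijective S A A)]

/-- Base change of an Azumaya algebra. -/
theorem isAzumaya_baseChange (A : Type*) [Ring A] [Algebra R A] [IsAzumaya R A] :
    IsAzumaya S (S ⊗[R] A) := by
  obtain ⟨τ, hτ⟩ := exists_retraction_of_isAzumaya (R := R) A
  haveI : FaithfulSMul S (S ⊗[R] A) := faithfulSMul_of_retraction
    ⟨(AlgebraTensorModule.rid R S S).toLinearMap.comp (τ.baseChange S), by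
      simp [Algebra.TensorProduct.one_def, hτ]⟩
  exact { bij := (bijective_mulLeftRight_baseChange_iff S A).2
            ((LinearEquiv.lTensor S
              (LinearEquiv.ofBijective (AlgHom.mulLeftRight R A).toLinearMap IsAzumaya.bij)).bijective) }

end baseChange

universe v

/-- Fibrewise criterion. -/
theorem isAzumaya_of_fibres (A : Type*) [Ring A] [Algebra R A] [Module.Finite R A]
    [Module.Projective R A]
    (h : ∀ m : Ideal R, m.IsMaximal → ∃ (S : Type v) (_ : CommRing S) (_ : Algebra R S),
      m.map (algebraMap R S) ≠ ⊤ ∧ IsAzumaya S (S ⊗[R] A)) : IsAzumaya R A := by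
  haveI : FaithfulSMul R A := faithfulSMul_of_retraction <| exists_retraction fun m hm hmem => by
    obtain ⟨S, _, _, hS, _⟩ := h m hm
    obtain ⟨τ, hτ⟩ := exists_retraction_of_isAzumaya (R := S) (S ⊗[R] A)
    let ψ : A →ₗ[R] S := (τ.restrictScalars R).comp (TensorProduct.mk R S A 1)
    have h1 := Submodule.mem_map_of_mem (f := ψ) hmem
    rw [Submodule.map_smul''] at h1
    have h2 : (m • Submodule.map ψ ⊤ : Submodule R S) ≤
        (m.map (algebraMap R S)).restrictScalars R :=
      Submodule.smul_le.2 fun r hr x _ => by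
        rw [Submodule.restrictScalars_mem, Algebra.smul_def]
        exact Ideal.mul_mem_right _ _ (Ideal.mem_map_of_mem _ hr)
    have h3 := h2 h1
    have h4 : ψ 1 = 1 := by
      simpa [ψ, Algebra.TensorProduct.one_def] using hτ
    rw [Submodule.restrictScalars_mem, h4, ← Ideal.eq_top_iff_one] at h3
    exact hS h3
  obtain ⟨_, _⟩ := finite_projective_linearMap (R := R) A A
  exact { bij := bijective_of_fibres (AlgHom.mulLeftRight R A).toLinearMap fun m hm => by
            obtain ⟨S, _, _, hS, hA⟩ := h m hm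
            exact ⟨S, inferInstance, inferInstance, hS,
              (bijective_mulLeftRight_baseChange_iff S A).1 hA.bij⟩ }

/-- Descent along a map surjective on spectra. -/
theorem isAzumaya_of_baseChange (S : Type v) [CommRing S] [Algebra R S]
    (hS : Function.Surjective (PrimeSpectrum.comap (algebraMap R S))) (A : Type*) [Ring A]
    [Algebra R A] [Module.Finite R A] [Module.Projective R A] [IsAzumaya S (S ⊗[R] A)] :
    IsAzumaya R A :=
  isAzumaya_of_fibres A fun m _ => ⟨S, inferInstance, inferInstance,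
    map_ne_top_of_comap_surjective hS m, inferInstance⟩

/-- Faithfully flat descent. -/
theorem isAzumaya_of_faithfullyFlat (S : Type v) [CommRing S] [Algebra R S]
    [Module.FaithfullyFlat R S] (A : Type*) [Ring A] [Algebra R A] [IsAzumaya S (S ⊗[R] A)] :
    IsAzumaya R A := by
  obtain ⟨_, _⟩ := finite_projective_of_faithfullyFlat (R := R) S A
  exact isAzumaya_of_baseChange S PrimeSpectrum.comap_surjective_of_faithfullyFlat A

section field

variable (k : Type*) [Field k]

theorem isSimpleRing_of_isAzumaya (A : Type*) [Ring A] [Algebra k A] [IsAzumaya k A] :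
    IsSimpleRing A := by
  obtain ⟨τ, hτ⟩ := exists_retraction_of_isAzumaya (R := k) A
  haveI : Nontrivial A := ⟨⟨0, 1, fun h => zero_ne_one ((map_zero τ).symm.trans
    ((congrArg τ h).trans hτ))⟩⟩
  refine IsSimpleRing.of_eq_bot_or_eq_top fun I => or_iff_not_imp_left.2 fun hI => ?_
  obtain ⟨x, hx, hx0⟩ : ∃ x ∈ I, x ≠ 0 := by
    by_contra h
    push Not at h
    exact hI (le_antisymm (fun x hx => (TwoSidedIdeal.mem_bot _).2 (h x hx)) bot_le)
  have hstable : ∀ (z : A ⊗[k] Aᵐᵒᵖ) (y : A), y ∈ I → AlgHom.mulLeftRight k A z y ∈ I := by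
    intro z
    induction z using TensorProduct.induction_on with
    | zero => intro y _; simp
    | tmul a b =>
      intro y hy
      rw [AlgHom.mulLeftRight_apply]
      exact I.mul_mem_right _ _ (I.mul_mem_left _ _ hy)
    | add u v hu hv =>
      intro y hy
      rw [map_add, LinearMap.add_apply]
      exact I.add_mem (hu y hy) (hv y hy)
  obtain ⟨φ, hφ⟩ := LinearMap.exists_extend_of_notMem (p := (⊥ : Submodule k A)) 0
    (v := x) (by simpa using hx0) (1 : A)
  obtain ⟨z, hz⟩ := IsAzumaya.bij.2 φ
  have := hstable z x hx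
  rw [hz, hφ.2] at this
  exact I.one_mem_iff.1 this

theorem isAzumaya_iff_centralSimple (A : Type*) [Ring A] [Algebra k A] [FiniteDimensional k A] :
    IsAzumaya k A ↔ Algebra.IsCentral k A ∧ IsSimpleRing A :=
  ⟨fun _ => ⟨inferInstance, isSimpleRing_of_isAzumaya k A⟩, fun ⟨_, _⟩ => inferInstance⟩

end field

/-- An algebra is Azumaya iff it is finite projective with central simple fibres. -/
theorem isAzumaya_iff_residueField (A : Type*) [Ring A] [Algebra R A] [Module.Finite R A]
    [Module.Projective R A] :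
    IsAzumaya R A ↔ ∀ (p : Ideal R) [p.IsPrime],
      Algebra.IsCentral p.ResidueField (p.ResidueField ⊗[R] A) ∧
        IsSimpleRing (p.ResidueField ⊗[R] A) := by
  constructor
  · intro _ p _
    exact (isAzumaya_iff_centralSimple _ _).1 (isAzumaya_baseChange p.ResidueField A)
  · intro h
    refine isAzumaya_of_fibres A fun m hm => ⟨m.ResidueField, inferInstance, inferInstance, ?_,
      (isAzumaya_iff_centralSimple _ _).2 (h m)⟩
    intro htop
    have : m.map (algebraMap R m.ResidueField) = ⊥ :=
      (Ideal.map_eq_bot_iff_le_ker _).2 (by rw [Ideal.ker_algebraMap_residueField])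
    exact bot_ne_top (this.symm.trans htop)

/-- The endomorphisms of a finite projective faithful module form an Azumaya algebra. -/
theorem isAzumaya_moduleEnd (P : Type*) [AddCommGroup P] [Module R P] [Module.Finite R P]
    [Module.Projective R P] [FaithfulSMul R P] : IsAzumaya R (Module.End R P) := by
  obtain ⟨_, _⟩ := finite_projective_linearMap (R := R) P P
  refine isAzumaya_of_fibres _ fun m hm => ?_
  letI : Field (R ⧸ m) := Ideal.Quotient.field m
  refine ⟨R ⧸ m, inferInstance, inferInstance, ?_, ?_⟩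
  · rw [Ideal.Quotient.algebraMap_eq, Ideal.map_quotient_self]
    exact bot_ne_top
  let Φ : (R ⧸ m) ⊗[R] Module.End R P →ₐ[R ⧸ m] Module.End (R ⧸ m) ((R ⧸ m) ⊗[R] P) :=
    Algebra.TensorProduct.lift (Algebra.ofId _ _) (Module.End.baseChangeHom R (R ⧸ m) P)
      fun c g => Algebra.commutes c _
  have hΦ : Function.Bijective Φ := by
    have : Φ.toLinearMap = (LinearMap.baseChangeHom R (R ⧸ m) P P).liftBaseChange (R ⧸ m) :=
      TensorProduct.AlgebraTensorModule.ext fun c g => by
        simp [Φ, Algebra.ofId_apply, Algebra.algebraMap_eq_smul_one, Module.End.baseChangeHom] <;> rfl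
    rw [← AlgHom.coe_toLinearMap, this]
    exact liftBaseChange_baseChangeHom_bijective (R ⧸ m) P P
  have hne : Nontrivial ((R ⧸ m) ⊗[R] P) := by
    by_contra hsub
    rw [not_nontrivial_iff_subsingleton] at hsub
    haveI := (TensorProduct.quotTensorEquivQuotSMul P m).symm.toEquiv.subsingleton
    obtain ⟨r, hr, hrP⟩ := Submodule.exists_sub_one_mem_and_smul_eq_zero_of_fg_of_le_smul m ⊤
      (Module.Finite.fg_top (R := R) (M := P))
      (Submodule.Quotient.subsingleton_iff.1 this).ge
    have : r = 0 := FaithfulSMul.eq_of_smul_eq_smul (α := P) fun a => by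
      rw [hrP a Submodule.mem_top, zero_smul]
    subst this
    exact hm.ne_top ((Ideal.eq_top_iff_one m).2 (by simpa using m.neg_mem hr))
  let b := Module.finBasis (R ⧸ m) ((R ⧸ m) ⊗[R] P)
  haveI : Nonempty (Fin (Module.finrank (R ⧸ m) ((R ⧸ m) ⊗[R] P))) :=
    ⟨⟨0, Module.finrank_pos⟩⟩
  haveI := IsAzumaya.matrix (R ⧸ m) (Fin (Module.finrank (R ⧸ m) ((R ⧸ m) ⊗[R] P)))
  exact IsAzumaya.of_AlgEquiv (R ⧸ m) _ _
    ((AlgEquiv.ofBijective Φ hΦ).trans (algEquivMatrix b)).symm

end Groth.Agent.CSA
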