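import Groth.Agent.CSA.SkolemNoether
import Mathlib.Algebra.Central.Matrix
import Mathlib.RingTheory.MatrixAlgebra
import Mathlib.RingTheory.SimpleModule.IsAlgClosed
import Mathlib.RingTheory.SimpleRing.Matrix
import Mathlib.FieldTheory.JacobsonNoether
import Mathlib.FieldTheory.IsSepClosed
import Mathlib.FieldTheory.IsAlgClosed.AlgebraicClosure

/-!
# Splitting of central simple algebras
-/

namespace Groth.Agent.CSA

set_option linter.style.haveILetI false

open scoped TensorProduct

variable (k : Type*) [Field k]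

/-- Centrality is invariant under isomorphisms (any universes). -/
theorem isCentral_of_algEquiv {A B : Type*} [Ring A] [Algebra k A] [Ring B] [Algebra k B]
    [Algebra.IsCentral k A] (e : A ≃ₐ[k] B) : Algebra.IsCentral k B := by
  refine ⟨fun b hb => ?_⟩
  have h : e.symm b ∈ Subalgebra.center k A := Subalgebra.mem_center_iff.2 fun a => e.injective (by
    simpa using Subalgebra.mem_center_iff.1 hb (e a))
  rw [Algebra.IsCentral.center_eq_bot] at h
  obtain ⟨c, hc⟩ := Algebra.mem_bot.1 h
  exact Algebra.mem_bot.2 ⟨c, by rw [← e.commutes c, hc, AlgEquiv.apply_symm_apply]⟩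

/-- Centrality descends from a matrix algebra. -/
theorem isCentral_of_matrix {D : Type*} [Ring D] [Algebra k D] {ι : Type*} [Fintype ι]
    [DecidableEq ι] [Nonempty ι] [Algebra.IsCentral k (Matrix ι ι D)] : Algebra.IsCentral k D := by
  haveI : Algebra.IsCentral k (D ⊗[k] Matrix ι ι k) :=
    isCentral_of_algEquiv k (matrixEquivTensor ι k D)
  exact Algebra.IsCentral.left_of_tensor_of_field k D (Matrix ι ι k)

universe v in
/-- Wedderburn structure theorem for central simple algebras. -/
theorem exists_algEquiv_matrix_division {A : Type v} [Ring A] [Algebra k A] [Algebra.IsCentral k A]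
    [IsSimpleRing A] [FiniteDimensional k A] :
    ∃ (n : ℕ) (_ : NeZero n) (D : Type v) (_ : DivisionRing D) (_ : Algebra k D),
      Algebra.IsCentral k D ∧ FiniteDimensional k D ∧ Nonempty (A ≃ₐ[k] Matrix (Fin n) (Fin n) D) := by
  haveI : IsArtinianRing A := IsArtinianRing.of_finite k A
  obtain ⟨n, hn, D, _, _, hfin, ⟨e⟩⟩ := IsSimpleRing.exists_algEquiv_matrix_divisionRing_finite k A
  haveI : Algebra.IsCentral k (Matrix (Fin n) (Fin n) D) := Algebra.IsCentral.of_algEquiv k _ _ e
  exact ⟨n, hn, D, inferInstance, inferInstance, isCentral_of_matrix k (ι := Fin n), hfin, ⟨e⟩⟩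

/-- Central division algebras over a separably closed field are trivial. -/
theorem algebraMap_bijective_of_isSepClosed [IsSepClosed k] (D : Type*) [DivisionRing D]
    [Algebra k D] [Algebra.IsCentral k D] [FiniteDimensional k D] :
    Function.Bijective (algebraMap k D) := by
  refine ⟨(algebraMap k D).injective, fun x => ?_⟩
  by_cases h : (⊥ : Subalgebra k D) = ⊤
  · exact Algebra.mem_bot.1 (h ▸ Algebra.mem_top)
  obtain ⟨y, hy, hsep⟩ := JacobsonNoether.exists_separable_and_not_isCentral' (L := k) (D := D) h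
  refine absurd (Algebra.mem_bot.2 ?_) hy
  exact minpoly.mem_range_of_degree_eq_one k y
    (IsSepClosed.degree_eq_one_of_irreducible k (minpoly.irreducible (Algebra.IsIntegral.isIntegral y)) hsep)

theorem exists_algEquiv_matrix_of_isSepClosed [IsSepClosed k] (A : Type*) [Ring A] [Algebra k A]
    [Algebra.IsCentral k A] [IsSimpleRing A] [FiniteDimensional k A] :
    ∃ n : ℕ, 0 < n ∧ Nonempty (A ≃ₐ[k] Matrix (Fin n) (Fin n) k) := by
  obtain ⟨n, hn, D, _, _, _, _, ⟨e⟩⟩ := exists_algEquiv_matrix_division k (A := A)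
  exact ⟨n, Nat.pos_of_ne_zero hn.ne, ⟨e.trans <| .mapMatrix <| .symm <|
    .ofBijective (Algebra.ofId k D) (algebraMap_bijective_of_isSepClosed k D)⟩⟩

theorem exists_splitting_of_isSepClosed (L : Type*) [Field L] [IsSepClosed L] [Algebra k L]
    (A : Type*) [Ring A] [Algebra k A] [Algebra.IsCentral k A] [IsSimpleRing A] [FiniteDimensional k A] :
    ∃ n : ℕ, 0 < n ∧ n ^ 2 = Module.finrank k A ∧
      Nonempty ((L ⊗[k] A) ≃ₐ[L] Matrix (Fin n) (Fin n) L) := by
  obtain ⟨n, hn, ⟨e⟩⟩ := exists_algEquiv_matrix_of_isSepClosed L (L ⊗[k] A)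
  refine ⟨n, hn, ?_, ⟨e⟩⟩
  rw [← Module.finrank_baseChange (R := L) (S := k) (M' := A), e.toLinearEquiv.finrank_eq]
  simp [Module.finrank_matrix, sq]

/-- The dimension of a central simple algebra is a square. -/
theorem exists_sq_eq_finrank (A : Type*) [Ring A] [Algebra k A] [Algebra.IsCentral k A]
    [IsSimpleRing A] [FiniteDimensional k A] : ∃ n : ℕ, 0 < n ∧ n ^ 2 = Module.finrank k A := by
  obtain ⟨n, hn, h, -⟩ := exists_splitting_of_isSepClosed k (AlgebraicClosure k) A
  exact ⟨n, hn, h⟩

end Groth.Agent.CSA
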