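import Mathlib
import Groth.Agent.CSA.Split
import Groth.Agent.CSA.Azumaya
import Groth.Agent.CSA.PeriodIndex

/-!
# Maximal étale subalgebras: freeness and splitting
-/

universe u

open scoped TensorProduct

namespace Groth.Agent.CSA

set_option linter.style.haveILetI false

theorem finrank_range_mulRight_sum {K M : Type*} [Field K] [Ring M] [Algebra K M] [FiniteDimensional K M]
    {I : Type*} [DecidableEq I] (Q : I → M) (hQ : ∀ i j, Q i * Q j = if i = j then Q i else 0) (T : Finset I) :
    Module.finrank K (LinearMap.range (LinearMap.mulRight K (∑ i ∈ T, Q i))) =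
      ∑ i ∈ T, Module.finrank K (LinearMap.range (LinearMap.mulRight K (Q i))) := by
  have hfix : ∀ i, ∀ y ∈ LinearMap.range (LinearMap.mulRight K (Q i)), y * Q i = y := by
    rintro i _ ⟨x, rfl⟩
    simp only [LinearMap.mulRight_apply, mul_assoc, hQ, if_true]
  have horth : ∀ i j, i ≠ j → ∀ y ∈ LinearMap.range (LinearMap.mulRight K (Q i)), y * Q j = 0 := by
    rintro i j hij _ ⟨x, rfl⟩
    simp only [LinearMap.mulRight_apply, mul_assoc, hQ, if_neg hij, mul_zero]
  let F : ((i : T) → LinearMap.range (LinearMap.mulRight K (Q i))) →ₗ[K] M :=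
    ∑ i : T, (LinearMap.range (LinearMap.mulRight K (Q i))).subtype ∘ₗ LinearMap.proj i
  have hFapp : ∀ c, F c = ∑ i : T, (c i : M) := fun c => by simp [F]
  have hF : Function.Injective F := by
    rw [injective_iff_map_eq_zero]
    intro c hc
    funext j
    apply Subtype.ext
    have h := congrArg (fun z => z * Q j) hc
    simp only [hFapp, zero_mul, Finset.sum_mul] at h
    rw [Finset.sum_eq_single j] at h
    · rwa [hfix _ _ (c j).2] at h
    · exact fun i _ hij => horth _ _ (fun h' => hij (Subtype.ext h')) _ (c i).2
    · exact fun h' => absurd (Finset.mem_univ j) h'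
  have hrange : LinearMap.range F = LinearMap.range (LinearMap.mulRight K (∑ i ∈ T, Q i)) := by
    apply le_antisymm
    · rintro _ ⟨c, rfl⟩
      refine ⟨F c, ?_⟩
      rw [LinearMap.mulRight_apply, hFapp, Finset.sum_mul]
      refine Finset.sum_congr rfl fun i _ => ?_
      rw [Finset.mul_sum, Finset.sum_eq_single_of_mem _ i.2, hfix _ _ (c i).2]
      exact fun j _ hj => horth _ _ (Ne.symm hj) _ (c i).2
    · rintro _ ⟨x, rfl⟩
      refine ⟨fun i => ⟨x * Q i, x, rfl⟩, ?_⟩
      rw [hFapp, LinearMap.mulRight_apply, Finset.mul_sum]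
      exact (Finset.sum_coe_sort T (fun i => x * Q i))
  rw [← hrange, LinearMap.finrank_range_of_inj hF, Module.finrank_pi_fintype,
    Finset.sum_coe_sort T (fun i => Module.finrank K (LinearMap.range (LinearMap.mulRight K (Q i))))]

theorem finrank_range_mulLeft_pi {K : Type*} [Field K] {I : Type*} [Fintype I] [DecidableEq I] (T : Finset I) :
    Module.finrank K (LinearMap.range (LinearMap.mulLeft K (fun i => if i ∈ T then (1 : K) else 0))) = T.card := by
  let F : (T → K) →ₗ[K] (I → K) := Function.ExtendByZero.linearMap K (Subtype.val : T → I)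
  have hFT : ∀ c (i : T), F c i.1 = c i := fun c i => Subtype.val_injective.extend_apply c _ i
  have hF0 : ∀ c (i : I), i ∉ T → F c i = 0 := fun c i hi =>
    Function.extend_apply' _ _ _ (fun ⟨a, ha⟩ => hi (ha ▸ a.2))
  have hF : Function.Injective F := fun a b h => funext fun i => by rw [← hFT a i, h, hFT]
  have hrange : LinearMap.range F = LinearMap.range (LinearMap.mulLeft K (fun i => if i ∈ T then (1 : K) else 0)) := by
    apply le_antisymm
    · rintro _ ⟨c, rfl⟩
      refine ⟨F c, funext fun i => ?_⟩
      by_cases hi : i ∈ T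
      · simp [hi]
      · simp [hi, hF0 c i hi]
    · rintro _ ⟨x, rfl⟩
      refine ⟨fun i => x i, funext fun i => ?_⟩
      by_cases hi : i ∈ T
      · rw [hFT _ ⟨i, hi⟩]; simp [hi]
      · rw [hF0 _ i hi]; simp [hi]
  rw [← hrange, LinearMap.finrank_range_of_inj hF, Module.finrank_fintype_fun_eq_card, Fintype.card_coe]

theorem finrank_mulRight_split {K : Type*} [Field K] {I : Type*} [Fintype I] {n : ℕ}
    (g : (I → K) →ₐ[K] Matrix (Fin n) (Fin n) K) (hg : Function.Injective g) (hI : Fintype.card I = n)
    (ξ : I → K) (hξ : ξ * ξ = ξ) :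
    Module.finrank K (LinearMap.range (LinearMap.mulRight K (g ξ))) =
      n * Module.finrank K (LinearMap.range (LinearMap.mulLeft K ξ)) := by
  classical
  let Q : I → Matrix (Fin n) (Fin n) K := fun i => g (Pi.single i 1)
  have hQ : ∀ i j, Q i * Q j = if i = j then Q i else 0 := by
    intro i j
    simp only [Q, ← map_mul]
    split_ifs with h
    · subst h; rw [← Pi.single_mul, one_mul]
    · rw [show (Pi.single i (1 : K) : I → K) * Pi.single j 1 = 0 from funext fun l => by
        by_cases hl : l = i
        · subst hl; simp [h]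
        · simp [hl], map_zero]
  let D := fun i => Module.finrank K (LinearMap.range (LinearMap.mulRight K (Q i)))
  have hlow : ∀ i, n ≤ D i := by
    intro i
    have hne : Q i ≠ 0 := fun h => by
      have := hg (h.trans (map_zero g).symm)
      simpa using congrFun this i
    obtain ⟨a, b, hab⟩ : ∃ a b, Q i a b ≠ 0 := by
      by_contra h
      push Not at h
      exact hne (Matrix.ext h)
    let φ : (Fin n → K) →ₗ[K] LinearMap.range (LinearMap.mulRight K (Q i)) :=
      (LinearMap.mulRight K (Q i) ∘ₗ
        { toFun := fun v => Matrix.vecMulVec v (Pi.single a 1)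
          map_add' := fun v w => Matrix.add_vecMulVec v w _
          map_smul' := fun c v => Matrix.smul_vecMulVec c v _ }).codRestrict _ (fun v => ⟨_, rfl⟩)
    have hφ : Function.Injective φ := by
      rw [injective_iff_map_eq_zero]
      intro v hv
      funext c
      have h := congrFun (congrFun (congrArg Subtype.val hv) c) b
      simp only [φ, LinearMap.codRestrict_apply, LinearMap.comp_apply, LinearMap.coe_mk, AddHom.coe_mk,
        LinearMap.mulRight_apply, Matrix.vecMulVec_mul, Matrix.vecMulVec_apply, Matrix.single_one_vecMul,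
        ZeroMemClass.coe_zero, Matrix.zero_apply] at h
      exact (mul_eq_zero.mp h).resolve_right hab
    simpa using LinearMap.finrank_le_finrank_of_injective hφ
  have htot : ∑ i, D i = n * n := by
    rw [← finrank_range_mulRight_sum (K := K) Q hQ Finset.univ]
    rw [show ∑ i, Q i = 1 by
      simp only [Q, ← map_sum]
      rw [show ∑ i, (Pi.single i (1 : K) : I → K) = 1 from (Finset.univ_sum_single (1 : I → K)), map_one]]
    rw [LinearMap.mulRight_one, LinearMap.range_id, finrank_top, Module.finrank_matrix]
    simp
  have hD : ∀ i, D i = n := by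
    intro i
    have h := (Finset.sum_eq_sum_iff_of_le (s := Finset.univ) (f := fun _ : I => n) (g := D) (fun j _ => hlow j)).mp
      (by rw [htot]; simp [hI])
    exact (h i (Finset.mem_univ i)).symm
  let T := Finset.univ.filter fun i => ξ i ≠ 0
  have hξT : ξ = fun i => if i ∈ T then 1 else 0 := by
    funext i
    have h := congrFun hξ i
    simp only [Pi.mul_apply] at h
    by_cases h0 : ξ i = 0
    · simp [T, h0]
    · simp [T, h0, mul_right_cancel₀ h0 (h.trans (one_mul _).symm)]
  have hgξ : g ξ = ∑ i ∈ T, Q i := by
    simp only [Q, ← map_sum]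
    refine congrArg g (funext fun i => ?_)
    rw [hξT, Finset.sum_apply]
    simp [Pi.single_apply]
  rw [hgξ, finrank_range_mulRight_sum Q hQ T, hξT, finrank_range_mulLeft_pi,
    Finset.sum_congr rfl fun i _ => hD i, Finset.sum_const, smul_eq_mul, mul_comm]

section field

variable {k : Type u} [Field k] {B C : Type u} [Ring B] [Algebra k B] [CommRing C] [Algebra k C] {r : ℕ}

theorem finrank_range_mulRight_idem [Algebra.IsCentral k B] [IsSimpleRing B] [FiniteDimensional k B]
    [Algebra.Etale k C] [Module.Finite k C] (hB : Module.finrank k B = r ^ 2) (hC : Module.finrank k C = r)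
    (u : C →ₐ[k] B) (hu : Function.Injective u) (ε : C) (hε : ε * ε = ε) :
    Module.finrank k (LinearMap.range (LinearMap.mulRight k (u ε))) =
      r * Module.finrank k (LinearMap.range (LinearMap.mulLeft k ε)) := by
  classical
  let K := AlgebraicClosure k
  obtain ⟨n, -, hn, ⟨e⟩⟩ := exists_splitting_of_isSepClosed (k := k) K B
  have hnr : n = r := Nat.pow_left_injective two_ne_zero (hn.trans hB)
  subst hnr
  obtain ⟨I, _, Ai, _, _, eC, hAi⟩ := (Algebra.Etale.iff_exists_algEquiv_prod (K := K) (A := K ⊗[k] C)).mp inferInstance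
  haveI := Fintype.ofFinite I
  have hbij : ∀ i, Function.Bijective (Algebra.ofId K (Ai i)) := fun i => by
    haveI := (hAi i).1
    exact IsAlgClosed.algebraMap_bijective_of_isIntegral
  let eI : (K ⊗[k] C) ≃ₐ[K] (I → K) :=
    eC.trans (AlgEquiv.piCongrRight fun i => (AlgEquiv.ofBijective (Algebra.ofId K (Ai i)) (hbij i)).symm)
  let uK : (K ⊗[k] C) →ₐ[K] (K ⊗[k] B) := Algebra.TensorProduct.map (AlgHom.id K K) u
  let g : (I → K) →ₐ[K] Matrix (Fin n) (Fin n) K := (e.toAlgHom.comp uK).comp eI.symm.toAlgHom
  have hg : Function.Injective g :=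
    (e.injective.comp (Module.Flat.lTensor_preserves_injective_linearMap (M := K) u.toLinearMap hu)).comp eI.symm.injective
  have hI : Fintype.card I = n := by
    rw [← hC, ← Module.finrank_fintype_fun_eq_card K, ← eI.toLinearEquiv.finrank_eq, Module.finrank_baseChange]
  let ξ := eI ((1 : K) ⊗ₜ[k] ε)
  have hξ : ξ * ξ = ξ := by
    rw [← map_mul, Algebra.TensorProduct.tmul_mul_tmul, one_mul, hε]
  have h := finrank_mulRight_split g hg hI ξ hξ
  have h1 : Module.finrank K (LinearMap.range (LinearMap.mulLeft K ξ)) =
      Module.finrank k (LinearMap.range (LinearMap.mulLeft k ε)) := by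
    have hbc : (LinearMap.mulLeft k ε).baseChange K = LinearMap.mulLeft K ((1 : K) ⊗ₜ[k] ε) := by
      refine TensorProduct.AlgebraTensorModule.ext fun a c => ?_
      simp [Algebra.TensorProduct.tmul_mul_tmul]
    rw [← finrank_range_baseChange (LinearMap.mulLeft k ε) K, hbc]
    have : LinearMap.mulLeft K ξ =
        eI.toLinearMap ∘ₗ LinearMap.mulLeft K ((1 : K) ⊗ₜ[k] ε) ∘ₗ eI.symm.toLinearMap :=
      LinearMap.ext fun x => by simp [ξ]
    rw [this, LinearMap.range_comp, LinearMap.range_comp_of_range_eq_top _ (LinearMap.range_eq_top.mpr eI.symm.surjective)]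
    exact (Submodule.equivMapOfInjective eI.toLinearMap eI.injective _).finrank_eq.symm
  have h2 : Module.finrank K (LinearMap.range (LinearMap.mulRight K (g ξ))) =
      Module.finrank k (LinearMap.range (LinearMap.mulRight k (u ε))) := by
    have hbc : (LinearMap.mulRight k (u ε)).baseChange K = LinearMap.mulRight K ((1 : K) ⊗ₜ[k] u ε) := by
      refine TensorProduct.AlgebraTensorModule.ext fun a c => ?_
      simp [Algebra.TensorProduct.tmul_mul_tmul]
    rw [← finrank_range_baseChange (LinearMap.mulRight k (u ε)) K, hbc]
    have : LinearMap.mulRight K (g ξ) =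
        e.toLinearMap ∘ₗ LinearMap.mulRight K ((1 : K) ⊗ₜ[k] u ε) ∘ₗ e.symm.toLinearMap :=
      LinearMap.ext fun x => by simp [g, ξ, uK]
    rw [this, LinearMap.range_comp, LinearMap.range_comp_of_range_eq_top _ (LinearMap.range_eq_top.mpr e.symm.surjective)]
    exact (Submodule.equivMapOfInjective e.toLinearMap e.injective _).finrank_eq.symm
  rw [← h1, ← h2, h]

theorem exists_free_family [Algebra.IsCentral k B] [IsSimpleRing B] [FiniteDimensional k B]
    [Algebra.Etale k C] [Module.Finite k C] (hB : Module.finrank k B = r ^ 2) (hC : Module.finrank k C = r)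
    (u : C →ₐ[k] B) (hu : Function.Injective u) :
    ∃ v : Fin r → B, Function.Bijective fun c : Fin r → C => ∑ l, v l * u (c l) := by
  classical
  haveI : IsArtinianRing C := IsArtinianRing.of_finite k C
  haveI : IsReduced C := Algebra.FormallyUnramified.isReduced_of_field k C
  haveI := Fintype.ofFinite (MaximalSpectrum C)
  let π := IsArtinianRing.equivPi C
  let e : MaximalSpectrum C → C := fun P => π.symm (Pi.single P 1)
  have hπe : ∀ P, π (e P) = Pi.single P 1 := fun P => π.apply_symm_apply _
  have hee : ∀ P Q, e P * e Q = if P = Q then e P else 0 := by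
    intro P Q
    apply π.injective
    rw [map_mul, hπe, hπe]
    split_ifs with h
    · subst h; rw [hπe, ← Pi.single_mul, one_mul]
    · rw [map_zero]
      funext R
      by_cases hR : R = P
      · subst hR; simp [h]
      · simp [hR]
  have hmem : ∀ (P : MaximalSpectrum C) (x : C), x * e P = 0 ↔ x ∈ P.asIdeal := by
    intro P x
    rw [← map_eq_zero_iff π π.injective, map_mul, hπe, ← Ideal.Quotient.eq_zero_iff_mem,
      ← IsArtinianRing.equivPi_apply C x P]
    constructor
    · intro h
      have := congrFun h P
      simp only [Pi.mul_apply, Pi.single_eq_same, mul_one, Pi.zero_apply] at this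
      exact this
    · intro h
      funext R
      by_cases hR : R = P
      · subst hR; simp [π, h]
      · simp [hR]
  have huee : ∀ P, u (e P) * u (e P) = u (e P) := fun P => by rw [← map_mul, hee, if_pos rfl]
  have hw : ∀ (P : MaximalSpectrum C) (m : ℕ), m ≤ r → ∃ w : Fin m → B,
      (∀ l, w l * u (e P) = w l) ∧ ∀ c : Fin m → C, ∑ l, w l * u (c l) = 0 → ∀ l, c l * e P = 0 := by
    intro P m
    induction m with
    | zero => exact fun _ => ⟨Fin.elim0, fun l => l.elim0, fun _ _ l => l.elim0⟩
    | succ m ih =>
      intro hm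
      obtain ⟨w, hw1, hw2⟩ := ih (by omega)
      set f := Module.finrank k (LinearMap.range (LinearMap.mulLeft k (e P)))
      let S : (Fin m → LinearMap.range (LinearMap.mulLeft k (e P))) →ₗ[k] B :=
        ∑ l, LinearMap.mulLeft k (w l) ∘ₗ u.toLinearMap ∘ₗ (Submodule.subtype _) ∘ₗ LinearMap.proj l
      have hSapp : ∀ c, S c = ∑ l, w l * u (c l : C) := fun c => by simp [S]
      have hfpos : 0 < f := by
        refine Nat.pos_of_ne_zero fun h0 => ?_
        have h1 : (1 : C) * e P = 0 := by
          have h2 := Submodule.finrank_eq_zero.mp h0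
          have h3 : e P * 1 ∈ LinearMap.range (LinearMap.mulLeft k (e P)) := ⟨1, rfl⟩
          rw [h2, Submodule.mem_bot, mul_one] at h3
          rw [one_mul, h3]
        exact P.isMaximal.ne_top ((Ideal.eq_top_iff_one _).mpr ((hmem P 1).mp h1))
      have hlt : Module.finrank k (LinearMap.range S) <
          Module.finrank k (LinearMap.range (LinearMap.mulRight k (u (e P)))) := by
        rw [finrank_range_mulRight_idem hB hC u hu (e P) (by rw [hee, if_pos rfl])]
        refine lt_of_le_of_lt (LinearMap.finrank_range_le S) ?_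
        rw [Module.finrank_pi_fintype, Finset.sum_const, Finset.card_univ, Fintype.card_fin, smul_eq_mul]
        exact Nat.mul_lt_mul_of_pos_right hm hfpos
      obtain ⟨x, hx, hxS⟩ := SetLike.not_le_iff_exists.mp (fun h => absurd (Submodule.finrank_mono h) (not_le.mpr hlt))
      have hxe : x * u (e P) = x := by
        obtain ⟨y, rfl⟩ := hx
        rw [LinearMap.mulRight_apply, mul_assoc, huee]
      refine ⟨Fin.snoc w x, fun l => ?_, fun c hc => ?_⟩
      · induction l using Fin.lastCases with
        | last => simpa using hxe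
        | cast l => simpa using hw1 l
      · rw [Fin.sum_univ_castSucc] at hc
        simp only [Fin.snoc_castSucc, Fin.snoc_last] at hc
        have hlast : c (Fin.last m) * e P = 0 := by
          by_contra hne
          obtain ⟨y, hy⟩ := P.isMaximal.exists_inv (fun h => hne ((hmem P _).mpr h))
          obtain ⟨i, hi, hyi⟩ := hy
          have hd : c (Fin.last m) * y * e P = e P := by
            have h1 : (c (Fin.last m) * y - 1) * e P = 0 := (hmem P _).mpr (by
              rw [show c (Fin.last m) * y - 1 = -i by linear_combination hyi]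
              exact neg_mem hi)
            rwa [sub_mul, one_mul, sub_eq_zero] at h1
          have h := congrArg (fun z => z * u (y * e P)) hc
          simp only [zero_mul, add_mul, Finset.sum_mul, mul_assoc, ← map_mul] at h
          rw [← mul_assoc (c (Fin.last m)), hd, hxe, add_eq_zero_iff_eq_neg'] at h
          apply hxS
          refine ⟨-(fun l => ⟨e P * (c (Fin.castSucc l) * y), _, rfl⟩), ?_⟩
          rw [h, map_neg, hSapp]
          refine congrArg Neg.neg (Finset.sum_congr rfl fun l _ => ?_)
          show w l * u (e P * (c (Fin.castSucc l) * y)) = _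
          congr 2
          ring
        have hxc : x * u (c (Fin.last m)) = 0 := by
          rw [← hxe, mul_assoc, ← map_mul, mul_comm, hlast, map_zero, mul_zero]
        rw [hxc, add_zero] at hc
        intro l
        induction l using Fin.lastCases with
        | last => exact hlast
        | cast l => exact hw2 _ hc l
  choose w hw1 hw2 using fun P => hw P r le_rfl
  refine ⟨fun l => ∑ P, w P l, ?_⟩
  let F : (Fin r → C) →ₗ[k] B := ∑ l, LinearMap.mulLeft k (∑ P, w P l) ∘ₗ u.toLinearMap ∘ₗ LinearMap.proj l
  have hF : ∀ c, F c = ∑ l, (∑ P, w P l) * u (c l) := fun c => by simp [F]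
  have hinj : Function.Injective F := by
    rw [injective_iff_map_eq_zero]
    intro c hc
    funext l
    have hall : ∀ P, c l * e P = 0 := by
      intro P
      refine hw2 P c ?_ l
      have h := congrArg (fun z => z * u (e P)) hc
      simp only [hF, zero_mul, Finset.sum_mul] at h
      rw [← h]
      refine Finset.sum_congr rfl fun j _ => ?_
      rw [Finset.sum_eq_single P]
      · rw [mul_assoc, ← map_mul, mul_comm, map_mul, ← mul_assoc, hw1]
      · intro Q _ hQ
        rw [← hw1 Q j, mul_assoc, mul_assoc, ← map_mul, ← map_mul, ← mul_assoc, mul_right_comm, hee, if_neg hQ, zero_mul,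
          map_zero, mul_zero]
      · exact fun h => absurd (Finset.mem_univ P) h
    apply π.injective
    funext P
    rw [Pi.zero_apply, map_zero, IsArtinianRing.equivPi_apply, Pi.zero_apply]
    exact Ideal.Quotient.eq_zero_iff_mem.mpr ((hmem P _).mp (hall P))
  have hdim : Module.finrank k (Fin r → C) = Module.finrank k B := by
    rw [Module.finrank_pi_fintype, Finset.sum_const, hC, hB, Finset.card_univ, Fintype.card_fin, smul_eq_mul, sq]
  have hb : Function.Bijective F := ⟨hinj, (LinearMap.injective_iff_surjective_of_finrank_eq_finrank hdim).mp hinj⟩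
  rw [show (fun c : Fin r → C => ∑ l, (∑ P, w P l) * u (c l)) = F from funext fun c => (hF c).symm]
  exact hb

end field

end Groth.Agent.CSA
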