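import Mathlib
import Groth.Agent.CSA.EtaleSubalgebra

/-!
# Azumaya algebras are split by maximal étale subalgebras (local base)
-/

universe u

open scoped TensorProduct
open IsLocalRing

namespace Groth.Agent.CSA

set_option linter.style.haveILetI false

variable {R : Type u} [CommRing R] {A : Type u} [Ring A] [Algebra R A] [IsAzumaya R A]
  {E : Type u} [CommRing E] [Algebra R E] [Module.Finite R E]

theorem exists_basis_of_etale [IsLocalRing R] [Algebra.Etale R E] [Module.Free R E] {r : ℕ} (hA : Module.finrank R A = r ^ 2)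
    (hE : Module.finrank R E = r) (u : E →ₐ[R] A)
    (hu : Function.Injective (u.toLinearMap.lTensor (ResidueField R)))
    [Module E A] (hmod : ∀ (e : E) (a : A), e • a = a * u e) : Nonempty (Module.Basis (Fin r) E A) := by
  haveI : Module.Free R A := Module.free_of_flat_of_isLocalRing
  let k := ResidueField R
  haveI : IsAzumaya k (k ⊗[R] A) := isAzumaya_baseChange k A
  obtain ⟨_, _⟩ := (isAzumaya_iff_centralSimple (k := k) (k ⊗[R] A)).mp inferInstance
  let ub : (k ⊗[R] E) →ₐ[k] (k ⊗[R] A) := Algebra.TensorProduct.map (AlgHom.id k k) u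
  have hub : Function.Injective ub := by
    rw [show ⇑ub = ⇑(u.toLinearMap.lTensor k) from funext fun z => by
      induction z using TensorProduct.induction_on with
      | zero => simp
      | add a b ha hb => simp [map_add, ha, hb]
      | tmul c x => rfl]
    exact hu
  obtain ⟨v, hv⟩ := exists_free_family (k := k) (B := k ⊗[R] A) (C := k ⊗[R] E) (r := r)
    (by rw [Module.finrank_baseChange, hA]) (by rw [Module.finrank_baseChange, hE]) ub hub
  have hsA : Function.Surjective (TensorProduct.mk R k A 1) :=
    TensorProduct.mk_surjective R A k residue_surjective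
  have hsE : Function.Surjective (TensorProduct.mk R k E 1) :=
    TensorProduct.mk_surjective R E k residue_surjective
  choose v' hv' using fun l => hsA (v l)
  let F : (Fin r → E) →ₗ[R] A := ∑ l, LinearMap.mulLeft R (v' l) ∘ₗ u.toLinearMap ∘ₗ LinearMap.proj l
  have hF : ∀ c, F c = ∑ l, v' l * u (c l) := fun c => by simp [F]
  have hFs : Function.Surjective F := by
    rw [← LinearMap.range_eq_top, ← IsLocalRing.map_tensorProduct_mk_eq_top, eq_top_iff]
    intro z _
    obtain ⟨c, hc⟩ := hv.2 z
    choose c' hc' using fun l => hsE (c l)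
    refine ⟨F c', ⟨c', rfl⟩, ?_⟩
    rw [hF, map_sum, ← hc]
    refine Finset.sum_congr rfl fun l _ => ?_
    rw [← hv' l, ← hc' l]
    simp only [TensorProduct.mk_apply, ub, Algebra.TensorProduct.map_tmul, map_one,
      Algebra.TensorProduct.tmul_mul_tmul, one_mul]
  have hdim : Module.finrank R (Fin r → E) = Module.finrank R A := by
    rw [Module.finrank_pi_fintype, Finset.sum_const, hE, hA, Finset.card_univ, Fintype.card_fin, smul_eq_mul, sq]
  let ψ := LinearEquiv.ofFinrankEq (R := R) A (Fin r → E) hdim.symm
  have hb := OrzechProperty.bijective_of_surjective_endomorphism (ψ.toLinearMap ∘ₗ F) (ψ.surjective.comp hFs)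
  have hFb : Function.Bijective F := ⟨Function.Injective.of_comp (f := ψ) hb.1, hFs⟩
  refine ⟨Module.Basis.ofEquivFun (LinearEquiv.ofBijective (Fintype.linearCombination E v') ?_).symm⟩
  rw [show ⇑(Fintype.linearCombination E v') = ⇑F from funext fun c => by
    rw [Fintype.linearCombination_apply, hF]; simp only [hmod]]
  exact hFb

theorem nonempty_split_of_basis [Nontrivial R] [Module.Free R E] {r : ℕ} (hA : Module.finrank R A = r ^ 2)
    (hE : Module.finrank R E = r) (u : E →ₐ[R] A) [Module E A] (hmod : ∀ (e : E) (a : A), e • a = a * u e)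
    (b : Module.Basis (Fin r) E A) : Nonempty ((E ⊗[R] A) ≃ₐ[E] Module.End E A) := by
  classical
  haveI : IsScalarTower R E A := ⟨fun c l a => by rw [hmod, hmod, map_smul, mul_smul_comm]⟩
  haveI : Module.Free R A := Module.Free.of_basis ((Module.Free.chooseBasis R E).smulTower b)
  haveI : SMulCommClass E R A := ⟨fun l c a => by rw [hmod, hmod, smul_mul_assoc]⟩
  let left : A →ₐ[R] Module.End E A :=
    { toFun := fun a =>
        { toFun := fun x => a * x
          map_add' := fun x y => mul_add a x y
          map_smul' := fun l x => by rw [RingHom.id_apply, hmod, hmod, mul_assoc] }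
      map_one' := LinearMap.ext one_mul
      map_mul' := fun a b => LinearMap.ext fun x => mul_assoc a b x
      map_zero' := LinearMap.ext zero_mul
      map_add' := fun a b => LinearMap.ext fun x => add_mul a b x
      commutes' := fun c => LinearMap.ext fun x => (Algebra.smul_def c x).symm }
  let Φ : E ⊗[R] A →ₐ[E] Module.End E A :=
    Algebra.TensorProduct.lift (Algebra.ofId E _) left fun l a => Algebra.commutes l _
  let mat := algEquivMatrix b
  haveI : Module.Finite E (Module.End E A) := Module.Finite.equiv mat.toLinearEquiv.symm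
  have hsurj : Function.Surjective Φ := by
    suffices h : LinearMap.range Φ.toLinearMap = ⊤ from LinearMap.range_eq_top.mp h
    by_contra hne
    have hann : Module.annihilator E (Module.End E A ⧸ LinearMap.range Φ.toLinearMap) ≠ ⊤ := by
      rw [Ne, Module.annihilator_eq_top_iff, Submodule.Quotient.subsingleton_iff]
      exact hne
    obtain ⟨P, hP, hle⟩ := Ideal.exists_le_maximal _ hann
    letI : Field (E ⧸ P) := Ideal.Quotient.field P
    let η : Module.End E A →ₐ[E] Matrix (Fin r) (Fin r) (E ⧸ P) :=
      (Ideal.Quotient.mkₐ E P).mapMatrix.comp mat.toAlgHom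
    haveI : IsAzumaya (E ⧸ P) ((E ⧸ P) ⊗[R] A) := isAzumaya_baseChange (E ⧸ P) A
    obtain ⟨_, _⟩ := (isAzumaya_iff_centralSimple (k := E ⧸ P) ((E ⧸ P) ⊗[R] A)).mp inferInstance
    have hr : r ≠ 0 := by
      intro h0
      subst h0
      haveI : Subsingleton A := b.repr.toEquiv.subsingleton
      exact not_subsingleton ((E ⧸ P) ⊗[R] A) (subsingleton_of_forall_eq 0 fun z => by
        induction z using TensorProduct.induction_on with
        | zero => rfl
        | tmul c a => rw [Subsingleton.elim a 0, TensorProduct.tmul_zero]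
        | add p q hp hq => rw [hp, hq, add_zero])
    haveI : NeZero r := ⟨hr⟩
    let Ψ : (E ⧸ P) ⊗[R] A →ₐ[E ⧸ P] Matrix (Fin r) (Fin r) (E ⧸ P) :=
      Algebra.TensorProduct.lift (Algebra.ofId _ _) ((η.restrictScalars R).comp left) fun l a => Algebra.commutes l _
    have hΨ : Function.Surjective Ψ := by
      refine ((LinearMap.injective_iff_surjective_of_finrank_eq_finrank (f := Ψ.toLinearMap) ?_).mp ?_)
      · rw [Module.finrank_baseChange, hA, Module.finrank_matrix, Module.finrank_self, Fintype.card_fin, sq, mul_one]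
      · exact RingHom.injective Ψ.toRingHom
    have hmkT : ∀ T : Module.End E A,
        T ∈ LinearMap.range Φ.toLinearMap ⊔ P • (⊤ : Submodule E (Module.End E A)) := by
      intro T
      obtain ⟨z, hz⟩ := hΨ (η T)
      obtain ⟨z', hz'⟩ : ∃ z' : E ⊗[R] A,
          Algebra.TensorProduct.map (Ideal.Quotient.mkₐ R P) (AlgHom.id R A) z' = z :=
        LinearMap.rTensor_surjective A (g := (Ideal.Quotient.mkₐ R P).toLinearMap) Ideal.Quotient.mk_surjective z
      have hcomp : ∀ w : E ⊗[R] A,
          η (Φ w) = Ψ (Algebra.TensorProduct.map (Ideal.Quotient.mkₐ R P) (AlgHom.id R A) w) := by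
        intro w
        induction w using TensorProduct.induction_on with
        | zero => simp
        | add a c ha hc => simp [map_add, ha, hc]
        | tmul l a =>
          simp only [Φ, Ψ, Algebra.TensorProduct.lift_tmul, Algebra.TensorProduct.map_tmul, AlgHom.id_apply,
            Algebra.ofId_apply, map_mul, AlgHom.commutes, AlgHom.comp_apply, AlgHom.restrictScalars_apply,
            Ideal.Quotient.mkₐ_eq_mk]
          rfl
      have hdiff : η (T - Φ z') = 0 := by rw [map_sub, hcomp, hz', hz, sub_self]
      have hTmem : T - Φ z' ∈ P • (⊤ : Submodule E (Module.End E A)) := by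
        rw [← mat.symm_apply_apply (T - Φ z'), Matrix.matrix_eq_sum_single (mat (T - Φ z')), map_sum]
        refine Submodule.sum_mem _ fun i _ => ?_
        rw [map_sum]
        refine Submodule.sum_mem _ fun j _ => ?_
        rw [show Matrix.single i j (mat (T - Φ z') i j) = (mat (T - Φ z') i j) • Matrix.single i j (1 : E) by
          rw [Matrix.smul_single, smul_eq_mul, mul_one], map_smul]
        exact Submodule.smul_mem_smul (Ideal.Quotient.eq_zero_iff_mem.mp (congrFun (congrFun hdiff i) j)) trivial
      rw [← sub_add_cancel T (Φ z')]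
      exact add_mem (Submodule.mem_sup_right hTmem) (Submodule.mem_sup_left ⟨z', rfl⟩)
    have htop : (⊤ : Submodule E (Module.End E A ⧸ LinearMap.range Φ.toLinearMap)) ≤ P • ⊤ := by
      rintro q -
      obtain ⟨T, rfl⟩ := Submodule.Quotient.mk_surjective _ q
      obtain ⟨a, ha, c, hc, rfl⟩ := Submodule.mem_sup.mp (hmkT T)
      rw [Submodule.Quotient.mk_add, (Submodule.Quotient.mk_eq_zero _).mpr ha, zero_add]
      have := Submodule.mem_map_of_mem (f := (LinearMap.range Φ.toLinearMap).mkQ) hc
      rw [Submodule.map_smul''] at this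
      exact Submodule.smul_mono le_rfl le_top this
    obtain ⟨x, hx, hxA⟩ := Submodule.exists_sub_one_mem_and_smul_eq_zero_of_fg_of_le_smul P ⊤
      Module.Finite.fg_top htop
    have hxP : x ∈ P := hle (Module.mem_annihilator.mpr fun q => hxA q trivial)
    exact hP.ne_top ((Ideal.eq_top_iff_one P).mpr (by simpa using P.sub_mem hxP hx))
  haveI : Module.Free R (Matrix (Fin r) (Fin r) E) := inferInstance
  let ψ := LinearEquiv.ofFinrankEq (R := R) (Matrix (Fin r) (Fin r) E) (E ⊗[R] A) (by
    rw [Module.finrank_tensorProduct, hE, hA, Module.finrank_matrix, hE, Fintype.card_fin, sq]; ring)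
  let G : E ⊗[R] A →ₗ[R] E ⊗[R] A := ψ.toLinearMap ∘ₗ (mat.toLinearMap.restrictScalars R) ∘ₗ (Φ.toLinearMap.restrictScalars R)
  have hG := OrzechProperty.bijective_of_surjective_endomorphism G (ψ.surjective.comp (mat.surjective.comp hsurj))
  exact ⟨AlgEquiv.ofBijective Φ ⟨fun a c h => hG.1 (congrArg (fun z => ψ (mat z)) h), hsurj⟩⟩

end Groth.Agent.CSA
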