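import Groth.Agent.CSA.SeparableElement
import Groth.Agent.CSA.Split
import Mathlib.RingTheory.LittleWedderburn
import Mathlib.FieldTheory.Finite.Extension
import Mathlib.FieldTheory.IsAlgClosed.Basic
import Mathlib.LinearAlgebra.Matrix.Charpoly.Eigs
import Mathlib.FieldTheory.IsAlgClosed.Spectrum

/-!
# Separable generators of maximal étale subalgebras
-/

universe u v

open Polynomial

namespace Groth.Agent.CSA

section

variable {k : Type u} [Field k] {A : Type v} [Ring A] [Algebra k A] [FiniteDimensional k A]

/-- A separable element generates a separable subalgebra. -/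
theorem isSeparable_adjoin_singleton {x : A} (h : IsSeparable k x) :
    Algebra.IsSeparable k (Algebra.adjoin k ({x} : Set A)) := by
  classical
  constructor
  rintro ⟨y, hy⟩
  rw [Algebra.adjoin_singleton_eq_range_aeval] at hy
  obtain ⟨P, rfl⟩ := hy
  have hint : IsIntegral k x := Algebra.IsIntegral.isIntegral x
  have hg : (minpoly k x) ≠ 0 := minpoly.ne_zero hint
  let K := AlgebraicClosure k
  let rts : Finset K := (((minpoly k x).map (algebraMap k K)).roots).toFinset
  let V : Finset K := rts.image fun α => aeval α P
  let M : Finset k[X] := V.image fun v => minpoly k v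
  have hsepv : ∀ v ∈ V, IsSeparable k v := by
    intro v hv
    obtain ⟨α, hα, rfl⟩ := Finset.mem_image.1 hv
    rw [Multiset.mem_toFinset, mem_roots (Polynomial.map_ne_zero hg), IsRoot, eval_map, ← aeval_def] at hα
    have hαs : IsSeparable k α := Polynomial.Separable.of_dvd h (minpoly.dvd k α hα)
    have hmem : aeval α P ∈ IntermediateField.adjoin k ({α} : Set K) :=
      IntermediateField.algebra_adjoin_le_adjoin _ _ (by
        rw [Algebra.adjoin_singleton_eq_range_aeval]; exact ⟨P, rfl⟩)
    haveI := (IntermediateField.isSeparable_adjoin_simple_iff_isSeparable k K).2 hαs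
    have h2 := Algebra.IsSeparable.isSeparable k (⟨_, hmem⟩ : IntermediateField.adjoin k ({α} : Set K))
    unfold IsSeparable at h2 ⊢
    rwa [← minpoly.algebraMap_eq (B' := K) (algebraMap (IntermediateField.adjoin k ({α} : Set K)) K).injective] at h2
  have hq : (∏ m ∈ M, m).Separable := by
    refine Polynomial.separable_prod' (fun a ha b hb hab => ?_) (fun a ha => ?_)
    · obtain ⟨v, hv, rfl⟩ := Finset.mem_image.1 ha
      obtain ⟨w, hw, rfl⟩ := Finset.mem_image.1 hb
      have hvi : IsIntegral k v := Algebra.IsIntegral.isIntegral v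
      have hwi : IsIntegral k w := Algebra.IsIntegral.isIntegral w
      refine (minpoly.irreducible hvi).coprime_iff_not_dvd.2 fun hd => hab ?_
      exact eq_of_monic_of_associated (minpoly.monic hvi) (minpoly.monic hwi)
        ((minpoly.irreducible hvi).associated_of_dvd (minpoly.irreducible hwi) hd)
    · obtain ⟨v, hv, rfl⟩ := Finset.mem_image.1 ha
      exact hsepv v hv
  change IsSeparable k (⟨aeval x P, _⟩ : Algebra.adjoin k ({x} : Set A))
  refine hq.of_dvd (minpoly.dvd k _ ?_)
  refine Subtype.ext ?_
  rw [← Subalgebra.coe_val, ← Polynomial.aeval_algHom_apply, Subalgebra.coe_val, ← Polynomial.aeval_comp]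
  change aeval x ((∏ m ∈ M, m).comp P) = 0
  obtain ⟨r, hr⟩ : minpoly k x ∣ (∏ m ∈ M, m).comp P := by
    rw [← map_dvd_map (algebraMap k K) (algebraMap k K).injective (minpoly.monic hint)]
    have hsplit : ((minpoly k x).map (algebraMap k K)).Splits := IsAlgClosed.splits _
    by_cases h0 : ((∏ m ∈ M, m).comp P).map (algebraMap k K) = 0
    · rw [h0]; exact dvd_zero _
    rw [hsplit.dvd_iff_roots_le_roots (Polynomial.map_ne_zero hg) h0,
      Multiset.le_iff_subset (nodup_roots (Polynomial.Separable.map h))]
    intro α hα
    rw [mem_roots h0, IsRoot, eval_map, ← aeval_def, aeval_comp, map_prod]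
    refine Finset.prod_eq_zero (Finset.mem_image.2 ⟨aeval α P,
      Finset.mem_image.2 ⟨α, Multiset.mem_toFinset.2 hα, rfl⟩, rfl⟩) (minpoly.aeval k _)
  rw [hr, map_mul, minpoly.aeval, zero_mul]

theorem finrank_adjoin_singleton (x : A) :
    Module.finrank k (Algebra.adjoin k ({x} : Set A)) = (minpoly k x).natDegree := by
  have hint : IsIntegral k x := Algebra.IsIntegral.isIntegral x
  set m := (minpoly k x).natDegree with hm
  let L : Polynomial.degreeLT k m →ₗ[k] A := (aeval (R := k) x).toLinearMap.comp (Polynomial.degreeLT k m).subtype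
  have hinj : Function.Injective L := by
    rw [injective_iff_map_eq_zero]
    rintro ⟨P, hP⟩ h
    refine Subtype.ext (?_ : P = 0)
    by_contra hne
    have h2 := minpoly.degree_le_of_ne_zero k x hne h
    rw [Polynomial.mem_degreeLT] at hP
    rw [degree_eq_natDegree (minpoly.ne_zero hint)] at h2
    exact absurd (lt_of_le_of_lt h2 hP) (lt_irrefl _)
  have hrange : LinearMap.range L = Subalgebra.toSubmodule (Algebra.adjoin k ({x} : Set A)) := by
    refine le_antisymm ?_ ?_
    · rintro _ ⟨⟨P, hP⟩, rfl⟩
      rw [Subalgebra.mem_toSubmodule, Algebra.adjoin_singleton_eq_range_aeval]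
      exact ⟨P, rfl⟩
    · intro z hz
      rw [Subalgebra.mem_toSubmodule, Algebra.adjoin_singleton_eq_range_aeval] at hz
      obtain ⟨P, rfl⟩ := hz
      refine ⟨⟨P %ₘ minpoly k x, ?_⟩, ?_⟩
      · rw [Polynomial.mem_degreeLT, hm, ← degree_eq_natDegree (minpoly.ne_zero hint)]
        exact degree_modByMonic_lt _ (minpoly.monic hint)
      · change aeval x (P %ₘ minpoly k x) = aeval x P
        conv_rhs => rw [← modByMonic_add_div P (minpoly k x)]
        rw [map_add, map_mul, minpoly.aeval, zero_mul, add_zero]
  calc Module.finrank k (Algebra.adjoin k ({x} : Set A))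
      = Module.finrank k (LinearMap.range L) := by rw [hrange]; rfl
    _ = Module.finrank k (Polynomial.degreeLT k m) := LinearMap.finrank_range_of_inj hinj
    _ = m := by rw [(Polynomial.degreeLTEquiv k m).finrank_eq, Module.finrank_fin_fun]

end

section

variable {k : Type u} [Field k] {A : Type v} [Ring A] [Algebra k A] [IsCSA k A]

theorem minpoly_eq_rcharpoly {a : A} (h : (rcharpoly k a).Separable) : minpoly k a = rcharpoly k a := by
  classical
  obtain ⟨K, _, _, _, _, ⟨f⟩⟩ := exists_galois_rep k A (deg_sq k A)
  haveI : Nonempty (Fin (deg k A)) := ⟨⟨0, deg_pos k A⟩⟩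
  let L := AlgebraicClosure K
  let F : A →ₐ[k] Matrix (Fin (deg k A)) (Fin (deg k A)) L := repMap (IsScalarTower.toAlgHom k K L) f
  have hchar : (F a).charpoly = (rcharpoly k a).map (algebraMap k L) := rep_charpoly (deg_sq k A) F a
  have hint : IsIntegral k a := Algebra.IsIntegral.isIntegral a
  have hmonic : (rcharpoly k a).Monic :=
    monic_of_injective (algebraMap k L).injective (hchar ▸ Matrix.charpoly_monic _)
  refine eq_of_monic_of_associated (minpoly.monic hint) hmonic
    (associated_of_dvd_dvd (minpoly.dvd k a (aeval_rcharpoly a)) ?_)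
  rw [← map_dvd_map (algebraMap k L) (algebraMap k L).injective hmonic]
  have hne : ((minpoly k a).map (algebraMap k L)) ≠ 0 := Polynomial.map_ne_zero (minpoly.ne_zero hint)
  rw [(IsAlgClosed.splits _).dvd_iff_roots_le_roots (Polynomial.map_ne_zero hmonic.ne_zero) hne,
    Multiset.le_iff_subset (nodup_roots (Polynomial.Separable.map h))]
  intro α hα
  rw [mem_roots (Polynomial.map_ne_zero hmonic.ne_zero), ← hchar, ← Matrix.mem_spectrum_iff_isRoot_charpoly] at hα
  rw [mem_roots hne]
  have h1 : aeval (F a) ((minpoly k a).map (algebraMap k L)) = 0 := by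
    rw [aeval_map_algebraMap, aeval_algHom_apply, minpoly.aeval, map_zero]
  have h2 := spectrum.subset_polynomial_aeval (F a) ((minpoly k a).map (algebraMap k L)) ⟨α, hα, rfl⟩
  rw [h1, spectrum.zero_eq, Set.mem_singleton_iff] at h2
  exact h2

/-- A central simple algebra of degree `r` has a separable element generating a subalgebra of rank `r`. -/
theorem exists_adjoin_separable_finrank (r : ℕ) (hA : Module.finrank k A = r ^ 2) :
    ∃ x : A, Algebra.IsSeparable k (Algebra.adjoin k ({x} : Set A)) ∧
      Module.finrank k (Algebra.adjoin k ({x} : Set A)) = r := by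
  cases finite_or_infinite k
  · obtain ⟨n, hn, D, _, _, _, _, ⟨e⟩⟩ := exists_algEquiv_matrix_division k (A := A)
    haveI : Finite D := Module.finite_of_finite k
    have hD : Function.Bijective (algebraMap k D) := by
      refine ⟨(algebraMap k D).injective, fun x => ?_⟩
      have hx : x ∈ Subalgebra.center k D := by
        rw [Subalgebra.mem_center_iff]
        intro b
        exact @mul_comm D (littleWedderburn D).toCommRing.toCommMonoid.toCommSemigroup.toCommMagma b x
      rw [Algebra.IsCentral.center_eq_bot, Algebra.mem_bot] at hx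
      exact hx
    let e' := e.trans (AlgEquiv.mapMatrix (AlgEquiv.ofBijective (Algebra.ofId k D) hD).symm)
    have hnr : n = r := by
      have := e'.toLinearEquiv.finrank_eq
      rw [hA, Module.finrank_matrix, Module.finrank_self, Fintype.card_fin, mul_one, ← sq] at this
      exact (Nat.pow_left_injective two_ne_zero this).symm
    subst hnr
    haveI : NeZero n := hn
    obtain ⟨p, hp⟩ := CharP.exists k
    haveI : Fact p.Prime := ⟨CharP.char_is_prime k p⟩
    haveI : NeZero p := ⟨(Fact.out : p.Prime).ne_zero⟩
    let E := FiniteField.Extension k p n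
    obtain ⟨α, hα⟩ := Field.exists_primitive_element k E
    let b := Module.finBasisOfFinrankEq k E (FiniteField.finrank_extension k p n)
    let φ : E →ₐ[k] A := e'.symm.toAlgHom.comp (Algebra.leftMulMatrix b)
    have hmin : minpoly k (φ α) = minpoly k α :=
      minpoly.algHom_eq φ (e'.symm.injective.comp (Algebra.leftMulMatrix_injective b)) α
    refine ⟨φ α, isSeparable_adjoin_singleton ?_, ?_⟩
    · have := Algebra.IsSeparable.isSeparable k α
      unfold IsSeparable at this ⊢
      rwa [hmin]
    · rw [finrank_adjoin_singleton, hmin, (Field.primitive_element_iff_minpoly_natDegree_eq k α).1 hα]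
      exact FiniteField.finrank_extension k p n
  · obtain ⟨δ, c, hc, -, hsep⟩ := exists_separable_scaled (k := k) (1 : Aˣ)
    refine ⟨c • (δ : A), isSeparable_adjoin_singleton (isSeparable_of_rcharpoly hsep), ?_⟩
    rw [finrank_adjoin_singleton, minpoly_eq_rcharpoly hsep, rcharpoly_natDegree]
    exact (deg_unique (k := k) (A := A) hA.symm).symm

end

end Groth.Agent.CSA
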