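import Mathlib
import Groth.Agent.CSA.Split
import Groth.Agent.CSA.Azumaya
import Groth.Agent.CSA.SeparableAdjoin

/-!
# Regular separable elements of central simple and Azumaya algebras
-/

universe u

open scoped TensorProduct
open Polynomial

namespace Groth.Agent.CSA

/-- `a ↦ a x - x a` -/
noncomputable def adMap {R A : Type*} [CommRing R] [Ring A] [Algebra R A] (x : A) : A →ₗ[R] A :=
  LinearMap.mulRight R x - LinearMap.mulLeft R x

theorem mem_ker_adMap {R A : Type*} [CommRing R] [Ring A] [Algebra R A] {x a : A} :
    a ∈ LinearMap.ker (adMap (R := R) x) ↔ a * x = x * a := by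
  rw [LinearMap.mem_ker, adMap, LinearMap.sub_apply, LinearMap.mulRight_apply, LinearMap.mulLeft_apply, sub_eq_zero]

theorem finrank_commutant_matrix_le {K : Type*} [Field K] [IsAlgClosed K] {n : ℕ} (M : Matrix (Fin n) (Fin n) K)
    (hs : (minpoly K M).Separable) (hd : (minpoly K M).natDegree = n) (S : Submodule K (Matrix (Fin n) (Fin n) K))
    (hS : ∀ B ∈ S, B * M = M * B) : Module.finrank K S ≤ n := by
  classical
  let e := Matrix.toLinAlgEquiv' (R := K) (n := Fin n)
  set f : Module.End K (Fin n → K) := e M with hf
  have hmin : minpoly K f = minpoly K M := minpoly.algHom_eq e.toAlgHom e.injective M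
  have hint : IsIntegral K M := Algebra.IsIntegral.isIntegral M
  set roots := (minpoly K M).roots.toFinset with hroots
  have hcard : roots.card = n := by
    rw [hroots, Multiset.toFinset_card_of_nodup (nodup_roots hs), ← (IsAlgClosed.splits _).natDegree_eq_card_roots, hd]
  have hev : ∀ μ : roots, ∃ v, f.HasEigenvector (μ : K) v := fun μ => by
    refine Module.End.HasEigenvalue.exists_hasEigenvector (Module.End.hasEigenvalue_of_isRoot ?_)
    rw [hmin]
    exact (mem_roots (minpoly.ne_zero hint)).mp (Multiset.mem_toFinset.mp μ.2)
  choose v hv using hev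
  have hli : LinearIndependent K v :=
    Module.End.eigenvectors_linearIndependent' f _ Subtype.val_injective v hv
  have hspan : Submodule.span K (Set.range v) = ⊤ := hli.span_eq_top_of_card_eq_finrank' (by simp [hcard])
  let w := ∑ μ, v μ
  let Φ : S →ₗ[K] (Fin n → K) :=
    { toFun := fun B => e (B : Matrix (Fin n) (Fin n) K) w
      map_add' := fun a b => by simp
      map_smul' := fun a b => by simp }
  have hΦ : Function.Injective Φ := by
    rw [injective_iff_map_eq_zero]
    rintro ⟨B, hB⟩ h
    have hc : Commute (e B) f := by rw [hf, Commute, SemiconjBy, ← map_mul, ← map_mul, hS B hB]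
    have hcomm : ∀ p : K[X], e B * aeval f p = aeval f p * e B := fun p => by
      induction p using Polynomial.induction_on' with
      | add p q hp hq => rw [map_add, mul_add, add_mul, hp, hq]
      | monomial i c =>
        rw [aeval_monomial]
        exact ((show Commute (e B) (algebraMap K (Module.End K (Fin n → K)) c) from
          (Algebra.commutes c (e B)).symm).mul_right (hc.pow_right i)).eq
    have hz : ∀ μ : roots, e B (v μ) = 0 := by
      intro μ
      let p := Lagrange.basis Finset.univ (fun ν : roots => (ν : K)) μ
      have h1 : aeval f p w = v μ := by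
        rw [map_sum, Finset.sum_eq_single μ]
        · rw [Module.End.aeval_apply_of_hasEigenvector (hv μ),
            Lagrange.eval_basis_self (Subtype.val_injective.injOn) (Finset.mem_univ μ), one_smul]
        · intro ν _ hne
          rw [Module.End.aeval_apply_of_hasEigenvector (hv ν),
            Lagrange.eval_basis_of_ne hne.symm (Finset.mem_univ ν), zero_smul]
        · intro h'; exact absurd (Finset.mem_univ μ) h'
      rw [← h1, ← Module.End.mul_apply, hcomm, Module.End.mul_apply, show e B w = 0 from h, map_zero]
    have : e B = 0 := LinearMap.ext_on hspan (by rintro _ ⟨μ, rfl⟩; exact hz μ)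
    exact Subtype.ext (e.injective (this.trans (map_zero e).symm))
  simpa using LinearMap.finrank_le_finrank_of_injective hΦ

section field

variable {k : Type u} [Field k] {A : Type*} [Ring A] [Algebra k A]

theorem finrank_commutant_le [Algebra.IsCentral k A] [IsSimpleRing A] [FiniteDimensional k A] {r : ℕ}
    (hA : Module.finrank k A = r ^ 2) {x : A} (hs : (minpoly k x).Separable) (hd : (minpoly k x).natDegree = r) :
    Module.finrank k (LinearMap.ker (adMap (R := k) x)) ≤ r := by
  classical
  let K := AlgebraicClosure k
  obtain ⟨n, -, hn, ⟨e⟩⟩ := exists_splitting_of_isSepClosed (k := k) K A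
  have hnr : n = r := Nat.pow_left_injective two_ne_zero (hn.trans hA)
  subst hnr
  set S := LinearMap.ker (adMap (R := k) x)
  let M := e ((1 : K) ⊗ₜ[k] x)
  let f : A →ₐ[k] Matrix (Fin n) (Fin n) K := (e.toAlgHom.restrictScalars k).comp Algebra.TensorProduct.includeRight
  let G : K ⊗[k] S →ₗ[K] Matrix (Fin n) (Fin n) K := e.toLinearMap ∘ₗ (S.subtype.baseChange K)
  have hG : Function.Injective G := e.injective.comp
    (Module.Flat.lTensor_preserves_injective_linearMap (M := K) S.subtype Subtype.val_injective)
  have hcomm : ∀ B ∈ LinearMap.range G, B * M = M * B := by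
    rintro _ ⟨z, rfl⟩
    induction z using TensorProduct.induction_on with
    | zero => simp
    | add a b ha hb => rw [map_add, add_mul, mul_add, ha, hb]
    | tmul c s =>
      show e (c ⊗ₜ[k] (s : A)) * e ((1 : K) ⊗ₜ[k] x) = e ((1 : K) ⊗ₜ[k] x) * e (c ⊗ₜ[k] (s : A))
      rw [← map_mul, ← map_mul, Algebra.TensorProduct.tmul_mul_tmul, Algebra.TensorProduct.tmul_mul_tmul, mul_one,
        one_mul, mem_ker_adMap.mp s.2]
  have hint : IsIntegral k x := Algebra.IsIntegral.isIntegral x
  have hminM : minpoly K M = (minpoly k x).map (algebraMap k K) := by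
    symm
    refine eq_of_monic_of_dvd_of_natDegree_le (minpoly.monic (Algebra.IsIntegral.isIntegral M))
      ((minpoly.monic hint).map _) (minpoly.dvd K M ?_) ?_
    · rw [aeval_map_algebraMap, show M = f x from rfl, aeval_algHom_apply, minpoly.aeval, map_zero]
    · rw [natDegree_map, hd]
      by_contra hlt
      push Not at hlt
      let b := Module.Basis.ofVectorSpace k A
      -- the powers of `x` stay independent over `K`
      have hli : LinearIndependent k fun i : Fin n => x ^ (i : ℕ) := hd ▸ linearIndependent_pow x
      have hli2 : LinearIndependent K fun i : Fin n => M ^ (i : ℕ) := by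
        have h1 : Function.Injective ((Fintype.linearCombination k fun i : Fin n => x ^ (i : ℕ)).baseChange K) :=
          Module.Flat.lTensor_preserves_injective_linearMap (M := K) _
            (linearIndependent_iff_injective_fintypeLinearCombination.mp hli)
        rw [Fintype.linearIndependent_iff]
        intro c hc i
        have h2 : ((Fintype.linearCombination k fun i : Fin n => x ^ (i : ℕ)).baseChange K)
            (∑ j, c j ⊗ₜ[k] Pi.single j (1 : k)) = 0 := by
          apply e.injective
          rw [map_sum, map_sum, map_zero, ← hc]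
          refine Finset.sum_congr rfl fun j _ => ?_
          rw [LinearMap.baseChange_tmul, Fintype.linearCombination_apply_single, one_smul,
            show M ^ (j : ℕ) = e (((1 : K) ⊗ₜ[k] x) ^ (j : ℕ)) from (map_pow e _ _).symm, ← map_smul,
            Algebra.TensorProduct.tmul_pow, one_pow, TensorProduct.smul_tmul', smul_eq_mul, mul_one]
        have h3 := h1 (h2.trans (map_zero _).symm)
        have h4 := congrArg ((LinearMap.proj i : (Fin n → k) →ₗ[k] k).lTensor K) h3
        rw [map_sum, map_zero] at h4
        have h5 := congrArg (TensorProduct.rid k K) h4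
        simp only [LinearMap.lTensor_tmul, LinearMap.proj_apply, map_sum, TensorProduct.rid_tmul, map_zero,
          Pi.single_apply, ite_smul, one_smul, zero_smul, Finset.sum_ite_eq, Finset.mem_univ, if_true] at h5
        exact h5
      have hint' : IsIntegral K M := Algebra.IsIntegral.isIntegral M
      have h0 := minpoly.aeval K M
      rw [aeval_eq_sum_range' hlt] at h0
      have h1 := Fintype.linearIndependent_iff.mp hli2 (fun i => (minpoly K M).coeff i)
        (by rw [Fin.sum_univ_eq_sum_range (fun i => (minpoly K M).coeff i • M ^ i)]; exact h0)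
        ⟨(minpoly K M).natDegree, hlt⟩
      rw [← leadingCoeff, (minpoly.monic hint').leadingCoeff] at h1
      exact one_ne_zero h1
  have h := finrank_commutant_matrix_le M (by rw [hminM]; exact hs.map) (by rw [hminM, natDegree_map, hd])
    (LinearMap.range G) hcomm
  rwa [LinearMap.finrank_range_of_inj hG, Module.finrank_baseChange] at h

theorem minpoly_separable_of_adjoin [FiniteDimensional k A] {x : A}
    (h : Algebra.IsSeparable k (Algebra.adjoin k ({x} : Set A))) : (minpoly k x).Separable := by
  have := h.isSeparable' ⟨x, Algebra.self_mem_adjoin_singleton k x⟩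
  unfold IsSeparable at this
  rwa [← minpoly.algHom_eq (Algebra.adjoin k ({x} : Set A)).val Subtype.val_injective] at this

theorem ker_adMap_eq_span [Algebra.IsCentral k A] [IsSimpleRing A] [FiniteDimensional k A] {r : ℕ}
    (hA : Module.finrank k A = r ^ 2) {x : A} (hs : (minpoly k x).Separable) (hd : (minpoly k x).natDegree = r) :
    LinearMap.ker (adMap (R := k) x) = Submodule.span k (Set.range fun i : Fin r => x ^ (i : ℕ)) := by
  have hli : LinearIndependent k fun i : Fin r => x ^ (i : ℕ) := hd ▸ linearIndependent_pow x
  refine (Submodule.eq_of_le_of_finrank_le ?_ ?_).symm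
  · rw [Submodule.span_le]
    rintro _ ⟨i, rfl⟩
    exact mem_ker_adMap.mpr ((Commute.self_pow x i).symm.eq)
  · rw [finrank_span_eq_card hli, Fintype.card_fin]
    exact finrank_commutant_le hA hs hd

end field

section localRing

variable {R : Type*} [CommRing R] [IsLocalRing R] {A : Type*} [Ring A] [Algebra R A] [IsAzumaya R A]

open IsLocalRing in
theorem regular_powers {r : ℕ} (hA : Module.finrank R A = r ^ 2) (ξ : A)
    (hs : (minpoly (ResidueField R) ((1 : ResidueField R) ⊗ₜ[R] ξ)).Separable)
    (hd : (minpoly (ResidueField R) ((1 : ResidueField R) ⊗ₜ[R] ξ)).natDegree = r) :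
    LinearIndependent R (fun i : Fin r => ξ ^ (i : ℕ)) ∧
      LinearMap.ker (adMap (R := R) ξ) = Submodule.span R (Set.range fun i : Fin r => ξ ^ (i : ℕ)) ∧
      ∃ g : A →ₗ[R] (Fin r → R), g ∘ₗ Fintype.linearCombination R (fun i : Fin r => ξ ^ (i : ℕ)) = LinearMap.id := by
  haveI : Module.Free R A := Module.free_of_flat_of_isLocalRing
  set k := ResidueField R
  haveI : IsAzumaya k (k ⊗[R] A) := isAzumaya_baseChange k A
  obtain ⟨_, _⟩ := (isAzumaya_iff_centralSimple (k := k) (k ⊗[R] A)).mp inferInstance
  have hA' : Module.finrank k (k ⊗[R] A) = r ^ 2 := by rw [Module.finrank_baseChange, hA]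
  set x : k ⊗[R] A := (1 : k) ⊗ₜ[R] ξ with hx
  have hli : LinearIndependent k fun i : Fin r => x ^ (i : ℕ) := hd ▸ linearIndependent_pow x
  have hker := ker_adMap_eq_span hA' hs hd
  let f := Fintype.linearCombination R (fun i : Fin r => ξ ^ (i : ℕ))
  have hf : ∀ z, f.lTensor k z = Fintype.linearCombination k (fun i : Fin r => x ^ (i : ℕ))
      (TensorProduct.piScalarRight R k k (Fin r) z) := by
    intro z
    induction z using TensorProduct.induction_on with
    | zero => simp
    | add a b ha hb => simp [map_add, ha, hb]
    | tmul c v =>
      rw [LinearMap.lTensor_tmul, TensorProduct.piScalarRight_apply, TensorProduct.piScalarRightHom_tmul,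
        Fintype.linearCombination_apply, Fintype.linearCombination_apply, TensorProduct.tmul_sum]
      refine Finset.sum_congr rfl fun i _ => ?_
      rw [hx, Algebra.TensorProduct.tmul_pow, one_pow, TensorProduct.tmul_smul, TensorProduct.smul_tmul',
        TensorProduct.smul_tmul', smul_eq_mul, mul_one]
  have hfinj : Function.Injective (f.lTensor k) := by
    rw [show ⇑(f.lTensor k) = _ from funext hf]
    exact (linearIndependent_iff_injective_fintypeLinearCombination.mp hli).comp
      (TensorProduct.piScalarRight R k k (Fin r)).injective
  obtain ⟨g, hg⟩ := (IsLocalRing.split_injective_iff_lTensor_residueField_injective f).mpr hfinj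
  have hgf : ∀ v, g (f v) = v := LinearMap.congr_fun hg
  refine ⟨?_, ?_, g, hg⟩
  · rw [linearIndependent_iff_injective_fintypeLinearCombination]
    exact Function.LeftInverse.injective hgf
  · refine le_antisymm ?_ (Submodule.span_le.mpr ?_)
    · let Φ : A →ₗ[R] A × (Fin r → R) := (adMap (R := R) ξ).prod g
      have had : ∀ z, (adMap (R := R) ξ).lTensor k z = adMap (R := k) x z := by
        intro z
        induction z using TensorProduct.induction_on with
        | zero => simp
        | add a b ha hb => simp [map_add, ha, hb]
        | tmul c a =>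
          simp only [adMap, LinearMap.lTensor_tmul, LinearMap.sub_apply, LinearMap.mulRight_apply,
            LinearMap.mulLeft_apply, hx, Algebra.TensorProduct.tmul_mul_tmul, mul_one, one_mul, TensorProduct.tmul_sub]
      have hΦ : Function.Injective (Φ.lTensor k) := by
        rw [injective_iff_map_eq_zero]
        intro z hz
        have h1 : (adMap (R := R) ξ).lTensor k z = 0 := by
          have := congrArg ((LinearMap.fst R A (Fin r → R)).lTensor k) hz
          rwa [← LinearMap.comp_apply, ← LinearMap.lTensor_comp, LinearMap.fst_prod, map_zero] at this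
        have h2 : g.lTensor k z = 0 := by
          have := congrArg ((LinearMap.snd R A (Fin r → R)).lTensor k) hz
          rwa [← LinearMap.comp_apply, ← LinearMap.lTensor_comp, LinearMap.snd_prod, map_zero] at this
        rw [had, ← LinearMap.mem_ker, hker, Submodule.mem_span_range_iff_exists_fun] at h1
        obtain ⟨c, hc⟩ := h1
        have hc' : f.lTensor k ((TensorProduct.piScalarRight R k k (Fin r)).symm c) = z := by
          rw [hf, LinearEquiv.apply_symm_apply, Fintype.linearCombination_apply, hc]
        rw [← hc', ← LinearMap.comp_apply, ← LinearMap.lTensor_comp, hg, LinearMap.lTensor_id,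
          LinearMap.id_apply] at h2
        rw [← hc', h2, map_zero]
      obtain ⟨h, hh⟩ := (IsLocalRing.split_injective_iff_lTensor_residueField_injective Φ).mpr hΦ
      intro y hy
      have hfy : adMap (R := R) ξ (f (g y)) = 0 := by
        rw [← LinearMap.mem_ker, mem_ker_adMap, Fintype.linearCombination_apply, Finset.sum_mul, Finset.mul_sum]
        refine Finset.sum_congr rfl fun i _ => ?_
        rw [smul_mul_assoc, mul_smul_comm, (Commute.self_pow ξ i).symm.eq]
      have h0 : Φ (y - f (g y)) = 0 := by
        ext1
        · show adMap (R := R) ξ (y - f (g y)) = 0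
          rw [map_sub, LinearMap.mem_ker.mp hy, hfy, sub_zero]
        · show g (y - f (g y)) = 0
          rw [map_sub, hgf, sub_self]
      have hy0 : y - f (g y) = 0 := (LinearMap.congr_fun hh _).symm.trans ((congrArg h h0).trans (map_zero h))
      rw [sub_eq_zero.mp hy0, Submodule.mem_span_range_iff_exists_fun]
      exact ⟨g y, (Fintype.linearCombination_apply R _ _).symm⟩
    · rintro _ ⟨i, rfl⟩
      exact mem_ker_adMap.mpr ((Commute.self_pow ξ i).symm.eq)

end localRing

end Groth.Agent.CSA
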