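import Mathlib
import Groth.Agent.CSA.EtaleSplit
import Groth.Agent.CSA.RegularElement
import Groth.Agent.HenselLib.PolyLocal
import Groth.Agent.SmoothLib.Monogenic

/-!
# Spreading out the splitting of an Azumaya algebra from a prime
-/

universe u

open scoped TensorProduct
open Polynomial IsLocalRing

namespace Groth.Agent.CSA

set_option linter.style.haveILetI false

theorem lTensor_injective_of_adjoinRoot {R A : Type u} [CommRing R] [Ring A] [Algebra R A] {q : R[X]} (hq : q.Monic)
    {r : ℕ} (hr : q.natDegree = r) {ξ : A} (g : A →ₗ[R] (Fin r → R))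
    (hg : g ∘ₗ Fintype.linearCombination R (fun i : Fin r => ξ ^ (i : ℕ)) = LinearMap.id)
    (u : AdjoinRoot q →ₐ[R] A) (hu : u (AdjoinRoot.root q) = ξ) (M : Type u) [AddCommGroup M] [Module R M] :
    Function.Injective (u.toLinearMap.lTensor M) := by
  classical
  let pb := AdjoinRoot.powerBasis' hq
  have hd : pb.dim = r := hr
  have h : g ∘ₗ u.toLinearMap = (pb.basis.equiv (Pi.basisFun R (Fin r)) (finCongr hd)).toLinearMap := by
    refine pb.basis.ext fun i => ?_
    have := LinearMap.congr_fun hg (Pi.single (finCongr hd i) 1)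
    rw [LinearMap.comp_apply, Fintype.linearCombination_apply_single, one_smul, LinearMap.id_apply] at this
    rw [LinearMap.comp_apply, LinearEquiv.coe_coe, Module.Basis.equiv_apply, Pi.basisFun_apply, ← this,
      AlgHom.toLinearMap_apply, PowerBasis.basis_eq_pow, map_pow, AdjoinRoot.powerBasis'_gen, hu]
    rfl
  refine Function.Injective.of_comp (f := g.lTensor M) ?_
  rw [← LinearMap.coe_comp, ← LinearMap.lTensor_comp, h]
  exact (LinearEquiv.lTensor M (pb.basis.equiv (Pi.basisFun R (Fin r)) (finCongr hd))).injective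

theorem exists_bijective_lTensor {R : Type u} [CommRing R] {M N : Type u} [AddCommGroup M] [Module R M]
    [AddCommGroup N] [Module R N] [Module.Finite R M] [Module.FinitePresentation R N] (l : M →ₗ[R] N)
    (p : Ideal R) [p.IsPrime] (h : Function.Bijective (l.lTensor (Localization.AtPrime p))) :
    ∃ f : R, f ∉ p ∧ ∀ t : R, f ∣ t → Function.Bijective (l.lTensor (Localization.Away t)) := by
  haveI hM := fun (S : Submonoid R) (P : Type u) [AddCommGroup P] [Module R P] =>
    (isLocalizedModule_iff_isBaseChange S (Localization S) (TensorProduct.mk R (Localization S) P 1)).mpr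
      (TensorProduct.isBaseChange R P (Localization S))
  have key : ∀ S : Submonoid R, ⇑(IsLocalizedModule.map S (TensorProduct.mk R (Localization S) M 1)
      (TensorProduct.mk R (Localization S) N 1) l) = ⇑(l.lTensor (Localization S)) := by
    intro S
    refine congrArg DFunLike.coe (IsLocalizedModule.ext S (TensorProduct.mk R (Localization S) M 1)
      (IsLocalizedModule.map_units (TensorProduct.mk R (Localization S) N 1)) (LinearMap.ext fun x => ?_))
    rw [LinearMap.comp_apply, LinearMap.comp_apply, IsLocalizedModule.map_apply, TensorProduct.mk_apply,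
      TensorProduct.mk_apply, LinearMap.lTensor_tmul]
  obtain ⟨f, hf, hb⟩ := exists_bijective_map_powers p.primeCompl (TensorProduct.mk R (Localization.AtPrime p) M 1)
    (TensorProduct.mk R (Localization.AtPrime p) N 1) l (by rw [key]; exact h)
  refine ⟨f, hf, fun t ht => ?_⟩
  let S : Submonoid R := Submonoid.powers t
  have hc := congrArg DFunLike.coe (IsLocalizedModule.map_iso_commute (S := S)
    (f₀ := TensorProduct.mk R (Localization S) M 1) (f₁ := TensorProduct.mk R (Localization S) N 1) l)
  rw [LinearMap.coe_comp, LinearMap.coe_comp, key] at hc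
  have hb' : Function.Bijective ((IsLocalizedModule.iso S (TensorProduct.mk R (Localization S) N 1)) ∘
      (IsLocalizedModule.map S (LocalizedModule.mkLinearMap S M) (LocalizedModule.mkLinearMap S N) l)) :=
    (LinearEquiv.bijective _).comp (hb t ht)
  exact (Function.Bijective.of_comp_iff _ (IsLocalizedModule.iso S (TensorProduct.mk R (Localization S) M 1)).bijective).mp
    (hc ▸ hb')

theorem exists_C_mem_span_pair {R : Type u} [CommRing R] (p : Ideal R) [p.IsPrime] (q : R[X])
    (h : (q.map (algebraMap R (Localization.AtPrime p))).Separable) :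
    ∃ s ∉ p, ∀ (S : Type u) [CommRing S] (φ : R →+* S), IsUnit (φ s) → (q.map φ).Separable := by
  letI := Polynomial.algebra R (Localization.AtPrime p)
  haveI := Polynomial.isLocalization p.primeCompl (Localization.AtPrime p)
  have htop : (Ideal.span ({q, derivative q} : Set R[X])).map (algebraMap R[X] (Localization.AtPrime p)[X]) = ⊤ := by
    rw [Ideal.map_span, Set.image_pair, Polynomial.algebraMap_def, coe_mapRingHom, ← derivative_map,
      Ideal.eq_top_iff_one, Ideal.mem_span_pair]
    exact h
  obtain ⟨_, ⟨s, hs, rfl⟩, hmem⟩ := Set.not_disjoint_iff.mp fun hd =>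
    (IsLocalization.map_algebraMap_ne_top_iff_disjoint (p.primeCompl.map (C : R →+* R[X])) _ _).mpr hd htop
  obtain ⟨a, b, hab⟩ := Ideal.mem_span_pair.mp hmem
  refine ⟨s, hs, fun S _ φ hu => ⟨C (↑hu.unit⁻¹ : S) * a.map φ, C (↑hu.unit⁻¹ : S) * b.map φ, ?_⟩⟩
  have := congrArg (Polynomial.map φ) hab
  rw [Polynomial.map_add, Polynomial.map_mul, Polynomial.map_mul, ← derivative_map, Polynomial.map_C] at this
  rw [mul_assoc, mul_assoc, ← mul_add, this, ← C_mul, hu.val_inv_mul, C_1]

theorem adjoin_singleton_smul {k B : Type*} [Field k] [Ring B] [Algebra k B] {c : k} (hc : c ≠ 0) (x : B) :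
    Algebra.adjoin k ({c • x} : Set B) = Algebra.adjoin k ({x} : Set B) := by
  refine le_antisymm (Algebra.adjoin_le (Set.singleton_subset_iff.mpr
    (Subalgebra.smul_mem _ (Algebra.self_mem_adjoin_singleton k x) c)))
    (Algebra.adjoin_le (Set.singleton_subset_iff.mpr ?_))
  have := Subalgebra.smul_mem _ (Algebra.self_mem_adjoin_singleton k (c • x)) c⁻¹
  rwa [inv_smul_smul₀ hc] at this

/-- An element of `A` generating a maximal separable subalgebra of the fibre at `p`, root of a monic polynomial of
degree `r`. -/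
theorem exists_element_spread {R A : Type u} [CommRing R] [Ring A] [Algebra R A] [IsAzumaya R A] (p : Ideal R)
    [p.IsPrime] {r : ℕ} (hr : r ≠ 0)
    (hA : Module.finrank (Localization.AtPrime p) (Localization.AtPrime p ⊗[R] A) = r ^ 2) :
    ∃ (q : R[X]) (ξ : A) (g : Localization.AtPrime p ⊗[R] A →ₗ[Localization.AtPrime p] (Fin r → Localization.AtPrime p)),
      q.Monic ∧ q.natDegree = r ∧ aeval ξ q = 0 ∧ (q.map (algebraMap R (Localization.AtPrime p))).Separable ∧
      g ∘ₗ Fintype.linearCombination (Localization.AtPrime p)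
        (fun i : Fin r => ((1 : Localization.AtPrime p) ⊗ₜ[R] ξ) ^ (i : ℕ)) = LinearMap.id := by
  classical
  set Rp := Localization.AtPrime p
  set Ap := Rp ⊗[R] A
  haveI : IsAzumaya Rp Ap := isAzumaya_baseChange Rp A
  set k := ResidueField Rp
  haveI : IsAzumaya k (k ⊗[Rp] Ap) := isAzumaya_baseChange k Ap
  obtain ⟨_, _⟩ := (isAzumaya_iff_centralSimple (k := k) (k ⊗[Rp] Ap)).mp inferInstance
  haveI : IsCSA k (k ⊗[Rp] Ap) := {}
  haveI : Module.Free Rp Ap := Module.free_of_flat_of_isLocalRing
  obtain ⟨x, hxs, hxr⟩ := exists_adjoin_separable_finrank (k := k) (A := k ⊗[Rp] Ap) r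
    (by rw [Module.finrank_baseChange, hA])
  obtain ⟨η, hη⟩ := TensorProduct.mk_surjective Rp Ap k residue_surjective x
  haveI : IsLocalizedModule p.primeCompl (TensorProduct.mk R Rp A 1) :=
    (isLocalizedModule_iff_isBaseChange p.primeCompl Rp _).mpr (TensorProduct.isBaseChange R A Rp)
  have hunit : ∀ t : p.primeCompl, residue Rp (algebraMap R Rp t) ≠ 0 := fun t =>
    ((IsLocalization.map_units Rp t).map (residue Rp)).ne_zero
  let img : A → k ⊗[Rp] Ap := fun a => (1 : k) ⊗ₜ[Rp] ((1 : Rp) ⊗ₜ[R] a)
  have himg : ∀ (t : p.primeCompl) (a : A), img ((t : R) • a) = residue Rp (algebraMap R Rp t) • img a := by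
    intro t a
    simp only [img, TensorProduct.tmul_smul, ← algebraMap_smul Rp (t : R) ((1 : Rp) ⊗ₜ[R] a)]
    rw [← algebraMap_smul k (algebraMap R Rp t)]
    rfl
  obtain ⟨⟨a, t⟩, hat⟩ := IsLocalizedModule.surj p.primeCompl (TensorProduct.mk R Rp A 1) η
  have hadj : Algebra.adjoin k ({img a} : Set (k ⊗[Rp] Ap)) = Algebra.adjoin k ({x} : Set (k ⊗[Rp] Ap)) := by
    refine (congrArg (fun z => Algebra.adjoin k ({z} : Set (k ⊗[Rp] Ap))) ?_).trans
      (adjoin_singleton_smul (hunit t) x)
    rw [TensorProduct.mk_apply] at hη hat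
    simp only [img, ← hat, Submonoid.smul_def, ← algebraMap_smul Rp (t : R) η, TensorProduct.tmul_smul, hη]
    exact (algebraMap_smul k _ x).symm
  have props : ∀ b : A, Algebra.adjoin k ({img b} : Set (k ⊗[Rp] Ap)) = Algebra.adjoin k ({x} : Set (k ⊗[Rp] Ap)) →
      (minpoly k (img b)).Separable ∧ (minpoly k (img b)).natDegree = r := fun b hb => by
    refine ⟨minpoly_separable_of_adjoin (k := k) (A := k ⊗[Rp] Ap) (hb ▸ hxs), ?_⟩
    rw [← finrank_adjoin_singleton (k := k) (A := k ⊗[Rp] Ap), hb]
    exact hxr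
  obtain ⟨-, hker, -⟩ := regular_powers (R := Rp) hA ((1 : Rp) ⊗ₜ[R] a) (props a hadj).1 (props a hadj).2
  obtain ⟨c, hc⟩ := Submodule.mem_span_range_iff_exists_fun Rp |>.mp
    (hker ▸ mem_ker_adMap.mpr ((Commute.self_pow _ r).symm.eq) : ((1 : Rp) ⊗ₜ[R] a) ^ r ∈ _)
  obtain ⟨t', ht'⟩ := IsLocalization.exist_integer_multiples_of_finite p.primeCompl c
  choose c' hc' using ht'
  have h0 : TensorProduct.mk R Rp A 1 ((t' : R) • a ^ r) =
      TensorProduct.mk R Rp A 1 (∑ i : Fin r, c' i • a ^ (i : ℕ)) := by
    rw [map_smul, map_sum]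
    simp only [map_smul, TensorProduct.mk_apply]
    rw [show (1 : Rp) ⊗ₜ[R] (a ^ r) = ((1 : Rp) ⊗ₜ[R] a) ^ r by rw [Algebra.TensorProduct.tmul_pow, one_pow], ← hc,
      Finset.smul_sum]
    refine Finset.sum_congr rfl fun i _ => ?_
    rw [Algebra.TensorProduct.tmul_pow, one_pow, ← algebraMap_smul Rp (c' i) ((1 : Rp) ⊗ₜ[R] (a ^ (i : ℕ))), hc' i,
      smul_assoc]
  obtain ⟨s, hs⟩ := IsLocalizedModule.exists_of_eq (S := p.primeCompl) h0
  rw [Submonoid.smul_def, Submonoid.smul_def, smul_smul, Finset.smul_sum] at hs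
  set m : R := (s : R) * t' with hm
  have hrel : (m • a) ^ r = ∑ i : Fin r, (m ^ (r - 1 - (i : ℕ)) * ((s : R) * c' i)) • (m • a) ^ (i : ℕ) := by
    rw [_root_.smul_pow, show m ^ r = m ^ (r - 1) * m by rw [← pow_succ, Nat.sub_add_cancel (Nat.one_le_iff_ne_zero.mpr hr)],
      mul_smul, hs, Finset.smul_sum]
    refine Finset.sum_congr rfl fun i _ => ?_
    rw [_root_.smul_pow, smul_smul, smul_smul, smul_smul]
    congr 1
    rw [mul_right_comm (m ^ (r - 1 - (i : ℕ))), ← pow_add, Nat.sub_add_cancel (by omega), mul_assoc]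
  let e : Fin r → R := fun i => m ^ (r - 1 - (i : ℕ)) * ((s : R) * c' i)
  let q : R[X] := X ^ r - ∑ i : Fin r, C (e i) * X ^ (i : ℕ)
  have hdeg : (∑ i : Fin r, C (e i) * X ^ (i : ℕ)).degree < (r : WithBot ℕ) := by
    rw [← mem_degreeLT]
    exact Submodule.sum_mem _ fun i _ => mem_degreeLT.mpr
      ((degree_C_mul_X_pow_le _ _).trans_lt (by exact_mod_cast i.2))
  have hmon : q.Monic := monic_X_pow_sub hdeg
  haveI : Nontrivial R := (algebraMap R Rp).domain_nontrivial
  have hqd : q.natDegree = r := by
    apply natDegree_eq_of_degree_eq_some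
    rw [degree_sub_eq_left_of_degree_lt (by rwa [degree_X_pow]), degree_X_pow]
  have hq0 : aeval (m • a) q = 0 := by
    simp only [q, map_sub, map_sum, aeval_mul, aeval_X_pow, aeval_C, ← Algebra.smul_def]
    rw [← hrel, sub_self]
  have hadj' : Algebra.adjoin k ({img (m • a)} : Set (k ⊗[Rp] Ap)) = Algebra.adjoin k ({x} : Set (k ⊗[Rp] Ap)) := by
    rw [show m = ((s * t' : p.primeCompl) : R) from rfl, himg]
    exact (adjoin_singleton_smul (hunit (s * t')) (img a)).trans hadj
  obtain ⟨hs', hd'⟩ := props _ hadj'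
  obtain ⟨-, -, g, hg⟩ := regular_powers (R := Rp) hA ((1 : Rp) ⊗ₜ[R] (m • a)) hs' hd'
  refine ⟨q, m • a, g, hmon, hqd, hq0, ?_, hg⟩
  have haev : aeval (img (m • a)) ((q.map (algebraMap R Rp)).map (residue Rp)) = 0 := by
    rw [show (residue Rp : Rp →+* k) = algebraMap Rp k from rfl, aeval_map_algebraMap,
      show img (m • a) = Algebra.TensorProduct.includeRight ((1 : Rp) ⊗ₜ[R] (m • a)) from rfl, aeval_algHom_apply,
      aeval_map_algebraMap,
      show (1 : Rp) ⊗ₜ[R] (m • a) = Algebra.TensorProduct.includeRight (m • a) from rfl, aeval_algHom_apply, hq0,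
      map_zero, map_zero]
  have hmap : (q.map (algebraMap R Rp)).map (residue Rp) = minpoly k (img (m • a)) := by
    refine eq_of_monic_of_dvd_of_natDegree_le (minpoly.monic (Algebra.IsIntegral.isIntegral _))
      ((hmon.map _).map _) (minpoly.dvd _ _ haev) ?_
    rw [(hmon.map _).natDegree_map, hmon.natDegree_map, hqd, hd']
  refine separable_def _ |>.mpr (Groth.Agent.HenselLib.isCoprime_of_map_residue (hmon.map _) ?_)
  rw [← derivative_map]
  exact separable_def _ |>.mp (hmap ▸ hs')

end Groth.Agent.CSA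

namespace Groth.Agent.CSA

theorem bijective_lTensor_linearCombination_iff {R S A : Type u} [CommRing R] [CommRing S] [Algebra R S] [AddCommGroup A]
    [Module R A] {ι : Type} [Fintype ι] [DecidableEq ι] (w : ι → A) :
    Function.Bijective ((Fintype.linearCombination R w).lTensor S) ↔
      Function.Bijective (Fintype.linearCombination S (fun j => (1 : S) ⊗ₜ[R] w j)) := by
  have h : ⇑((Fintype.linearCombination R w).lTensor S) =
      ⇑(Fintype.linearCombination S (fun j => (1 : S) ⊗ₜ[R] w j)) ∘ ⇑(TensorProduct.piScalarRight R S S ι) := by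
    funext z
    simp only [Function.comp_apply]
    induction z using TensorProduct.induction_on with
    | zero => simp only [map_zero]
    | add a b ha hb => simp only [map_add, ha, hb]
    | tmul s x =>
      simp only [LinearMap.lTensor_tmul, TensorProduct.piScalarRight_apply, TensorProduct.piScalarRightHom_tmul,
        Fintype.linearCombination_apply, TensorProduct.tmul_sum]
      refine Finset.sum_congr rfl fun j _ => ?_
      rw [smul_assoc, TensorProduct.smul_tmul', smul_eq_mul, mul_one, TensorProduct.tmul_smul]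
  rw [h]
  exact Function.Bijective.of_comp_iff _ (LinearEquiv.bijective _)

theorem bijective_linearCombination_of_tower {R E M : Type u} [CommRing R] [CommRing E] [Algebra R E] [AddCommGroup M]
    [Module R M] [Module E M] [IsScalarTower R E M] {κ ι : Type} [Fintype κ] [Fintype ι]
    (c : Module.Basis κ R E) (B : Module.Basis (κ × ι) R M) (v : ι → M) (hB : ∀ i l, B (i, l) = c i • v l) :
    Function.Bijective (Fintype.linearCombination E v) := by
  let T : (ι → E) ≃ (κ × ι → R) :=
    { toFun := fun e j => c.equivFun (e j.2) j.1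
      invFun := fun x l => c.equivFun.symm fun i => x (i, l)
      left_inv := fun e => funext fun l => c.equivFun.symm_apply_apply (e l)
      right_inv := fun x => funext fun j => congrFun (c.equivFun.apply_symm_apply fun i => x (i, j.2)) j.1 }
  have h : ⇑(Fintype.linearCombination E v) = ⇑B.equivFun.symm ∘ ⇑T := by
    funext e
    rw [Function.comp_apply, Module.Basis.equivFun_symm_apply, Fintype.sum_prod_type, Finset.sum_comm,
      Fintype.linearCombination_apply]
    refine Finset.sum_congr rfl fun l _ => ?_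
    conv_lhs => rw [← c.sum_equivFun (e l), Finset.sum_smul]
    exact Finset.sum_congr rfl fun i _ => by rw [hB, smul_assoc]; rfl
  rw [h]
  exact B.equivFun.symm.bijective.comp T.bijective

/-- The algebra map out of `S[X]/(q.map)` into the base change, sending the root to `1 ⊗ ξ`. -/
noncomputable def rootHom {R : Type u} (S : Type u) {A : Type u} [CommRing R] [CommRing S] [Algebra R S] [Ring A] [Algebra R A] (q : R[X])
    (ξ : A) (h : aeval ξ q = 0) : AdjoinRoot (q.map (algebraMap R S)) →ₐ[S] S ⊗[R] A :=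
  Ideal.Quotient.liftₐ (Ideal.span {q.map (algebraMap R S)}) (aeval ((1 : S) ⊗ₜ[R] ξ)) (fun a ha => by
    obtain ⟨d, rfl⟩ := Ideal.mem_span_singleton.mp ha
    rw [map_mul, aeval_map_algebraMap, show (1 : S) ⊗ₜ[R] ξ = Algebra.TensorProduct.includeRight ξ from rfl,
      aeval_algHom_apply, h, map_zero, zero_mul])

theorem rootHom_root {R S A : Type u} [CommRing R] [CommRing S] [Algebra R S] [Ring A] [Algebra R A] (q : R[X])
    (ξ : A) (h : aeval ξ q = 0) : rootHom S q ξ h (AdjoinRoot.root _) = (1 : S) ⊗ₜ[R] ξ :=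
  aeval_X ((1 : S) ⊗ₜ[R] ξ)

/-- Right multiplication through an algebra map from a commutative ring. -/
@[reducible] def rightModule {R E A : Type u} [CommRing R] [CommRing E] [Algebra R E] [Ring A] [Algebra R A]
    (u : E →ₐ[R] A) : Module E A where
  smul e a := a * u e
  one_smul a := show a * u 1 = a by rw [map_one, mul_one]
  mul_smul e e' a := show a * u (e * e') = a * u e' * u e by rw [mul_comm e, map_mul, mul_assoc]
  smul_zero e := zero_mul (u e)
  smul_add e a b := add_mul a b (u e)
  add_smul e e' a := show a * u (e + e') = a * u e + a * u e' by rw [map_add, mul_add]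
  zero_smul a := show a * u 0 = 0 by rw [map_zero, mul_zero]

end Groth.Agent.CSA
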