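import Groth.Agent.CSA.Basic

/-!
# Modules over simple artinian algebras; the theorem of Skolem and Noether
-/

namespace Groth.Agent.CSA

set_option linter.style.haveILetI false

open scoped TensorProduct

variable (k : Type*) [Field k]

theorem isUnit_of_mul_eq_one {A : Type*} [Ring A] [Algebra k A] [FiniteDimensional k A] {a b : A}
    (h : a * b = 1) : IsUnit a := by
  have hinj : Function.Injective (LinearMap.mulLeft k b) := fun x y hxy => by
    simpa [← mul_assoc, h] using congrArg (a * ·) (show b * x = b * y from hxy)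
  obtain ⟨c, hc⟩ := LinearMap.injective_iff_surjective.1 hinj 1
  have hc' : b * c = 1 := hc
  exact ⟨⟨a, b, h, (left_inv_eq_right_inv h hc').symm ▸ hc'⟩, rfl⟩

theorem isIsotypicOfType {R : Type*} [Ring R] [IsSimpleRing R] [IsArtinianRing R]
    {P : Type*} [AddCommGroup P] [Module R P] (I : Ideal R) [IsSimpleModule R I] :
    IsIsotypicOfType R P I := by
  have hiso : IsIsotypic R (P × I) := IsSimpleRing.isIsotypic R (P × I)
  have e : I ≃ₗ[R] LinearMap.range (LinearMap.inr R P I) :=
    LinearEquiv.ofInjective _ LinearMap.inr_injective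
  haveI : IsSimpleModule R (LinearMap.range (LinearMap.inr R P I)) := IsSimpleModule.congr e.symm
  exact ((hiso _).of_linearEquiv_type e.symm).of_injective (LinearMap.inl R P I)
    LinearMap.inl_injective

/-- Two modules of the same finite dimension over a simple algebra are isomorphic. -/
theorem nonempty_linearEquiv_of_finrank_eq {R : Type*} [Ring R] [Algebra k R] [FiniteDimensional k R]
    [IsSimpleRing R] {M N : Type*} [AddCommGroup M] [Module R M] [Module k M] [IsScalarTower k R M]
    [FiniteDimensional k M] [AddCommGroup N] [Module R N] [Module k N] [IsScalarTower k R N]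
    [FiniteDimensional k N] (h : Module.finrank k M = Module.finrank k N) :
    Nonempty (M ≃ₗ[R] N) := by
  haveI : IsArtinianRing R := IsArtinianRing.of_finite k R
  obtain ⟨I, hI⟩ := IsAtomic.exists_atom (Ideal R)
  haveI : IsSimpleModule R I := isSimpleModule_iff_isAtom.2 hI
  haveI : Module.Finite R M := Module.Finite.of_restrictScalars_finite k R M
  haveI : Module.Finite R N := Module.Finite.of_restrictScalars_finite k R N
  haveI : FiniteDimensional k I := Module.Finite.equiv (LinearEquiv.refl k (I.restrictScalars k))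
  obtain ⟨a, ⟨ea⟩⟩ := (isIsotypicOfType (P := M) I).linearEquiv_fun
  obtain ⟨b, ⟨eb⟩⟩ := (isIsotypicOfType (P := N) I).linearEquiv_fun
  have hpos : 0 < Module.finrank k I := by
    haveI : Nontrivial I := IsSimpleModule.nontrivial R I
    exact Module.finrank_pos
  have hab : a = b := by
    rw [(ea.restrictScalars k).finrank_eq, (eb.restrictScalars k).finrank_eq] at h
    simp only [Module.finrank_pi_fintype, Finset.sum_const, Finset.card_univ, Fintype.card_fin,
      smul_eq_mul] at h
    exact Nat.eq_of_mul_eq_mul_right hpos h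
  subst hab
  exact ⟨ea.trans eb.symm⟩

/-- Two representations of a simple algebra of the same finite degree are equivalent. -/
theorem exists_conj_of_representations {R : Type*} [Ring R] [Algebra k R] [FiniteDimensional k R]
    [IsSimpleRing R] {V W : Type*} [AddCommGroup V] [Module k V] [FiniteDimensional k V]
    [AddCommGroup W] [Module k W] [FiniteDimensional k W]
    (α : R →ₐ[k] Module.End k V) (β : R →ₐ[k] Module.End k W)
    (h : Module.finrank k V = Module.finrank k W) :
    ∃ φ : V ≃ₗ[k] W, ∀ r v, φ (α r v) = β r (φ v) := by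
  letI : Module R V := Module.compHom V α.toRingHom
  letI : Module R W := Module.compHom W β.toRingHom
  haveI : IsScalarTower k R V := ⟨fun c r v => by
    change α (c • r) v = c • α r v
    rw [map_smul]; rfl⟩
  haveI : IsScalarTower k R W := ⟨fun c r v => by
    change β (c • r) v = c • β r v
    rw [map_smul]; rfl⟩
  obtain ⟨φ⟩ := nonempty_linearEquiv_of_finrank_eq k (R := R) h
  exact ⟨φ.restrictScalars k, fun r v => φ.map_smul r v⟩

theorem skolem_noether {A B : Type*} [Ring A] [Algebra k A] [Algebra.IsCentral k A] [IsSimpleRing A]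
    [FiniteDimensional k A] [Ring B] [Algebra k B] [IsSimpleRing B] (f g : B →ₐ[k] A) :
    ∃ u : Aˣ, ∀ b, g b = (u : A) * f b * (u⁻¹ : Aˣ) := by
  haveI : FiniteDimensional k B :=
    Module.Finite.of_injective f.toLinearMap (RingHom.injective f.toRingHom)
  let α := (AlgHom.mulLeftRight k A).comp (Algebra.TensorProduct.map f (AlgHom.id k Aᵐᵒᵖ))
  let β := (AlgHom.mulLeftRight k A).comp (Algebra.TensorProduct.map g (AlgHom.id k Aᵐᵒᵖ))
  obtain ⟨φ, hφ⟩ := exists_conj_of_representations k α β rfl
  have hφ' : ∀ b x y, φ (f b * x * y) = g b * φ x * y := fun b x y => by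
    simpa [α, β] using hφ (b ⊗ₜ MulOpposite.op y) x
  have hright : ∀ y, φ y = φ 1 * y := fun y => by simpa using hφ' 1 1 y
  have hu : IsUnit (φ 1) := by
    refine isUnit_of_mul_eq_one k (b := φ.symm 1) ?_
    rw [← hright, φ.apply_symm_apply]
  refine ⟨hu.unit, fun b => ?_⟩
  have h := hφ' b 1 1
  rw [mul_one, mul_one, mul_one, hright (f b)] at h
  rw [Units.eq_mul_inv_iff_mul_eq, hu.unit_spec]
  exact h.symm

theorem algEquiv_isInner {A : Type*} [Ring A] [Algebra k A] [Algebra.IsCentral k A] [IsSimpleRing A]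
    [FiniteDimensional k A] (e : A ≃ₐ[k] A) :
    ∃ u : Aˣ, ∀ a, e a = (u : A) * a * (u⁻¹ : Aˣ) :=
  skolem_noether k (AlgHom.id k A) e.toAlgHom

/-- A unit inducing the identity by conjugation is a scalar. -/
theorem exists_scalar_of_conj_eq {A : Type*} [Ring A] [Algebra k A] [Algebra.IsCentral k A]
    (a b : Aˣ) (h : ∀ x : A, (a : A) * x * (a⁻¹ : Aˣ) = (b : A) * x * (b⁻¹ : Aˣ)) :
    ∃ c : k, (b : A) = algebraMap k A c * a := by
  have hc : (b : A) * (a⁻¹ : Aˣ) ∈ Subalgebra.center k A := by
    refine Subalgebra.mem_center_iff.2 fun x => ?_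
    have := h ((a⁻¹ : Aˣ) * x * (a : A))
    simp only [mul_assoc, Units.mul_inv, mul_one] at this
    rw [Units.mul_inv_cancel_left] at this
    calc x * ((b : A) * (a⁻¹ : Aˣ))
        = (b : A) * ((a⁻¹ : Aˣ) * (x * ((a : A) * (b⁻¹ : Aˣ)))) * ((b : A) * (a⁻¹ : Aˣ)) :=
          congrArg (· * _) this
      _ = (b : A) * (a⁻¹ : Aˣ) * x := by simp [mul_assoc]
  rw [Algebra.IsCentral.center_eq_bot] at hc
  obtain ⟨c, hc⟩ := Algebra.mem_bot.1 hc
  exact ⟨c, by rw [hc]; simp [mul_assoc]⟩

end Groth.Agent.CSA
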