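import Groth.Agent.CSA.Azumaya
import Mathlib.RingTheory.PicardGroup
import Mathlib.LinearAlgebra.TensorPower.Basic

/-!
# Automorphisms of Azumaya algebras and of endomorphism algebras
-/

namespace Groth.Agent.CSA

set_option linter.style.haveILetI false

open scoped TensorProduct
open TensorProduct

variable {R : Type*} [CommRing R]

/-- Two modules paired perfectly are invertible. -/
theorem invertible_of_pairing {L L' : Type*} [AddCommGroup L] [Module R L] [AddCommGroup L']
    [Module R L'] (μ : L →ₗ[R] L' →ₗ[R] R) (ν : L' →ₗ[R] L →ₗ[R] R)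
    (h1 : ∀ u v v', μ u v • v' = ν v' u • v) (h2 : ∀ u u' v', ν v' u • u' = μ u' v' • u)
    (hsurj : (1 : R) ∈ LinearMap.range (TensorProduct.lift μ)) :
    Module.Invertible R L := by
  obtain ⟨w, hw⟩ := hsurj
  have key : ∀ z z', TensorProduct.lift μ z' • z = TensorProduct.lift μ z • z' := by
    intro z z'
    induction z using TensorProduct.induction_on with
    | zero => simp
    | tmul a b =>
      induction z' using TensorProduct.induction_on with
      | zero => simp
      | tmul u v =>
        simp only [TensorProduct.lift.tmul]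
        rw [← tmul_smul, h1, tmul_smul, smul_tmul', h2, smul_tmul']
      | add x y hx hy => simp only [map_add, add_smul, smul_add, hx, hy]
    | add x y hx hy => simp only [map_add, add_smul, smul_add, hx, hy]
  refine Module.Invertible.left (LinearEquiv.ofBijective (TensorProduct.lift μ) ⟨?_, ?_⟩)
  · refine (injective_iff_map_eq_zero _).2 fun z hz => ?_
    have := key z w
    rwa [hw, hz, one_smul, zero_smul] at this
  · exact fun r => ⟨r • w, by rw [map_smul, hw, smul_eq_mul, mul_one]⟩

variable {A : Type*} [Ring A] [Algebra R A]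

/-- The centre of an Azumaya algebra. -/
theorem exists_algebraMap_eq [IsAzumaya R A] {z : A} (hz : ∀ a, a * z = z * a) :
    ∃ r : R, algebraMap R A r = z := by
  obtain ⟨τ, hτ⟩ := exists_retraction_of_isAzumaya (R := R) A
  obtain ⟨t, ht⟩ := IsAzumaya.bij.2 (τ.smulRight (1 : A))
  have hcomm : ∀ t y, AlgHom.mulLeftRight R A t (z * y) = z * AlgHom.mulLeftRight R A t y := by
    intro t
    induction t using TensorProduct.induction_on with
    | zero => simp
    | tmul a b => intro y; simp [← mul_assoc, hz a]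
    | add u v hu hv => intro y; simp [hu, hv, mul_add]
  have := hcomm t 1
  rw [ht] at this
  exact ⟨τ z, by simpa [hτ, Algebra.algebraMap_eq_smul_one] using this⟩

theorem isCentral_of_isAzumaya [IsAzumaya R A] : Algebra.IsCentral R A :=
  ⟨fun _ hz => Algebra.mem_bot.2 (exists_algebraMap_eq (Subalgebra.mem_center_iff.1 hz))⟩

/-- A left invertible element of a finite algebra is a unit. -/
theorem isUnit_of_mul_eq_one' [Module.Finite R A] {v u : A} (h : v * u = 1) : IsUnit u := by
  have hsurj : Function.Surjective (LinearMap.mulRight R u) := fun x => ⟨x * v, by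
    simp [mul_assoc, h]⟩
  have hinj := (OrzechProperty.bijective_of_surjective_endomorphism _ hsurj).1
  have h' : u * v = 1 := hinj (by simp [mul_assoc, h])
  exact ⟨⟨u, v, h', h⟩, rfl⟩

/-- The module of elements implementing an automorphism. -/
def twist (α : A →ₐ[R] A) : Submodule R A where
  carrier := {u | ∀ a, u * a = α a * u}
  add_mem' := fun ha hb a => by rw [add_mul, mul_add, ha a, hb a]
  zero_mem' := fun a => by rw [zero_mul, mul_zero]
  smul_mem' := fun r u hu a => by rw [smul_mul_assoc, hu a, mul_smul_comm]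

theorem mem_twist {α : A →ₐ[R] A} {u : A} : u ∈ twist α ↔ ∀ a, u * a = α a * u := Iff.rfl

/-- `1` is a combination `∑ α (xᵢ) uᵢ` with `uᵢ` in the twist. -/
theorem exists_sum_twist [IsAzumaya R A] (α : A →ₐ[R] A) :
    ∃ (n : ℕ) (x : Fin n → A) (u : Fin n → A), (∀ i, u i ∈ twist α) ∧ ∑ i, α (x i) * u i = 1 := by
  let e := AlgEquiv.ofBijective (AlgHom.mulLeftRight R A) IsAzumaya.bij
  let Θ : Module.End R A →ₐ[R] Module.End R A :=
    ((AlgHom.mulLeftRight R A).comp (Algebra.TensorProduct.map α (AlgHom.id R Aᵐᵒᵖ))).comp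
      e.symm.toAlgHom
  have hΘ : ∀ a b, Θ (AlgHom.mulLeftRight R A (a ⊗ₜ b)) =
      AlgHom.mulLeftRight R A (α a ⊗ₜ b) := fun a b => by
    have : e.symm (AlgHom.mulLeftRight R A (a ⊗ₜ b)) = a ⊗ₜ b := e.symm_apply_apply _
    simp [Θ, this]
  obtain ⟨n, x, f, hx⟩ := exists_dual_basis (R := R) A
  refine ⟨n, x, fun i => Θ ((f i).smulRight 1) 1, fun i a => ?_, ?_⟩
  · have h : AlgHom.mulLeftRight R A (a ⊗ₜ 1) * (f i).smulRight 1 =
        AlgHom.mulLeftRight R A (1 ⊗ₜ MulOpposite.op a) * (f i).smulRight 1 :=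
      LinearMap.ext fun y => by simp
    have h2 := LinearMap.congr_fun (congrArg Θ h) 1
    rw [map_mul, map_mul, hΘ, hΘ] at h2
    simpa using h2.symm
  · have h : ∑ i, AlgHom.mulLeftRight R A (x i ⊗ₜ 1) * (f i).smulRight 1 = 1 :=
      LinearMap.ext fun y => by simp [hx]
    have h2 := LinearMap.congr_fun (congrArg Θ h) 1
    rw [map_sum, map_one Θ] at h2
    simpa [hΘ, Module.End.one_apply] using h2

theorem twist_invertible [IsAzumaya R A] (α : A ≃ₐ[R] A) :
    Module.Invertible R (twist (α : A →ₐ[R] A)) := by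
  obtain ⟨τ, hτ⟩ := exists_retraction_of_isAzumaya (R := R) A
  have hc : ∀ z : A, (∀ a, a * z = z * a) → τ z • (1 : A) = z := fun z hz => by
    obtain ⟨r, rfl⟩ := exists_algebraMap_eq (R := R) hz
    simp [Algebra.algebraMap_eq_smul_one, hτ]
  let P := twist (α : A →ₐ[R] A)
  let Q := twist (α.symm : A →ₐ[R] A)
  have hPQ : ∀ u ∈ P, ∀ v ∈ Q, ∀ a, a * (u * v) = u * v * a := fun u hu v hv a => by
    symm
    calc u * v * a = u * (α.symm a * v) := by rw [mul_assoc, mem_twist.1 hv a]; rfl
      _ = α (α.symm a) * u * v := by rw [← mul_assoc, mem_twist.1 hu]; rfl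
      _ = a * (u * v) := by rw [AlgEquiv.apply_symm_apply, mul_assoc]
  have hQP : ∀ u ∈ P, ∀ v ∈ Q, ∀ a, a * (v * u) = v * u * a := fun u hu v hv a => by
    symm
    calc v * u * a = v * (α a * u) := by rw [mul_assoc, mem_twist.1 hu a]; rfl
      _ = α.symm (α a) * v * u := by rw [← mul_assoc, mem_twist.1 hv]; rfl
      _ = a * (v * u) := by rw [AlgEquiv.symm_apply_apply, mul_assoc]
  refine invertible_of_pairing (L' := Q)
    (((LinearMap.mul R A).compl₁₂ P.subtype Q.subtype).compr₂ τ)
    (((LinearMap.mul R A).compl₁₂ Q.subtype P.subtype).compr₂ τ) ?_ ?_ ?_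
  · intro u v v'
    refine Subtype.ext ?_
    change τ ((u : A) * v) • (v' : A) = τ ((v' : A) * u) • (v : A)
    calc τ ((u : A) * v) • (v' : A) = (v' : A) * (τ ((u : A) * v) • (1 : A)) := by simp
      _ = (v' : A) * u * v := by rw [hc _ (hPQ u u.2 v v.2), mul_assoc]
      _ = (τ ((v' : A) * u) • (1 : A)) * v := by rw [hc _ (hQP u u.2 v' v'.2)]
      _ = _ := by simp
  · intro u u' v'
    refine Subtype.ext ?_
    change τ ((v' : A) * u) • (u' : A) = τ ((u' : A) * v') • (u : A)
    calc τ ((v' : A) * u) • (u' : A) = (u' : A) * (τ ((v' : A) * u) • (1 : A)) := by simp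
      _ = (u' : A) * v' * u := by rw [hc _ (hQP u u.2 v' v'.2), mul_assoc]
      _ = (τ ((u' : A) * v') • (1 : A)) * u := by rw [hc _ (hPQ u' u'.2 v' v'.2)]
      _ = _ := by simp
  · obtain ⟨n, x, u, hu, hsum⟩ := exists_sum_twist (R := R) (α : A →ₐ[R] A)
    obtain ⟨m, y, v, hv, hsum'⟩ := exists_sum_twist (R := R) (α.symm : A →ₐ[R] A)
    let J := LinearMap.range (TensorProduct.lift
      (((LinearMap.mul R A).compl₁₂ P.subtype Q.subtype).compr₂ τ))
    -- every `a` lies in `J • A`
    by_contra hne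
    obtain ⟨M, hM, hle⟩ := Ideal.exists_le_maximal J ((Ideal.ne_top_iff_one J).2 hne)
    refine one_notMem_smul_top (A := A) hM ?_
    have h1 : (1 : A) = ∑ i, ∑ j, (u i * v j) * (y j * x i) := by
      have hs : ∑ i, u i * x i = 1 := by
        rw [← hsum]; exact Finset.sum_congr rfl fun i _ => mem_twist.1 (hu i) (x i)
      have hs' : ∑ j, v j * y j = 1 := by
        rw [← hsum']; exact Finset.sum_congr rfl fun j _ => mem_twist.1 (hv j) (y j)
      calc (1 : A) = ∑ i, u i * x i := hs.symm
        _ = ∑ i, u i * (∑ j, v j * y j) * x i := by rw [hs']; simp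
        _ = _ := by simp only [Finset.mul_sum, Finset.sum_mul, mul_assoc]
    rw [h1]
    refine Submodule.sum_mem _ fun i _ => Submodule.sum_mem _ fun j _ => ?_
    rw [← hc _ (hPQ _ (hu i) _ (hv j)), smul_one_mul]
    exact Submodule.smul_mem_smul (hle ⟨⟨u i, hu i⟩ ⊗ₜ ⟨v j, hv j⟩, rfl⟩) Submodule.mem_top

/-- An automorphism of an Azumaya algebra is inner near every prime. -/
theorem exists_inner_away [IsAzumaya R A] (α : A →ₐ[R] A) (p : Ideal R) [p.IsPrime] :
    ∃ (r : R) (_ : r ∉ p) (u : A) (v : A), u ∈ twist α ∧ v * u = algebraMap R A r := by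
  haveI := isAzumaya_baseChange (R := R) p.ResidueField A
  haveI := isSimpleRing_of_isAzumaya p.ResidueField (p.ResidueField ⊗[R] A)
  let K := p.ResidueField
  let β : K ⊗[R] A →ₐ[K] K ⊗[R] A := Algebra.TensorProduct.map (AlgHom.id K K) α
  haveI := isCentral_of_isAzumaya (R := K) (A := K ⊗[R] A)
  obtain ⟨w, hw⟩ := skolem_noether K (AlgHom.id K (K ⊗[R] A)) β
  obtain ⟨n, x, u, hu, hsum⟩ := exists_sum_twist α
  obtain ⟨i, hi⟩ : ∃ i, (1 : K) ⊗ₜ[R] u i ≠ 0 := by
    by_contra hall
    push Not at hall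
    have : (1 : K ⊗[R] A) = 0 := by
      rw [Algebra.TensorProduct.one_def, ← hsum, tmul_sum]
      refine Finset.sum_eq_zero fun i _ => ?_
      rw [← mul_one (1 : K), ← Algebra.TensorProduct.tmul_mul_tmul, hall i, mul_zero]
    exact one_ne_zero this
  -- the image of `u i` is a non-zero multiple of `w`
  obtain ⟨c, hc⟩ : ∃ c : K, algebraMap K (K ⊗[R] A) c = (w⁻¹ : (K ⊗[R] A)ˣ) * ((1 : K) ⊗ₜ[R] u i) := by
    refine exists_algebraMap_eq fun z => ?_
    have hz : ((1 : K) ⊗ₜ[R] u i) * z = β z * ((1 : K) ⊗ₜ[R] u i) := by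
      induction z using TensorProduct.induction_on with
      | zero => simp
      | tmul c a => simp [β, mem_twist.1 (hu i) a]
      | add y z hy hz => simp [mul_add, add_mul, hy, hz]
    rw [mul_assoc, hz, hw z]
    simp [mul_assoc]
  have hc0 : c ≠ 0 := by
    rintro rfl
    rw [map_zero] at hc
    exact hi (w⁻¹.mul_right_eq_zero.1 hc.symm)
  have hunit : IsUnit ((1 : K) ⊗ₜ[R] u i) := by
    have : (1 : K) ⊗ₜ[R] u i = (w : K ⊗[R] A) * algebraMap K _ c := by rw [hc, Units.mul_inv_cancel_left]
    rw [this]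
    exact w.isUnit.mul ((IsUnit.mk0 c hc0).map _)
  have hsurj : Function.Surjective ((LinearMap.mulRight R (u i)).lTensor K) := by
    intro z
    obtain ⟨t, ht⟩ := hunit
    refine ⟨z * ↑t⁻¹, ?_⟩
    have key : ∀ y, (LinearMap.mulRight R (u i)).lTensor K y = y * ((1 : K) ⊗ₜ[R] u i) := fun y => by
      induction y using TensorProduct.induction_on with
      | zero => simp
      | tmul c a => simp
      | add y z hy hz => rw [map_add, add_mul, hy, hz]
    rw [key, ← ht, Units.inv_mul_cancel_right]
  let C := A ⧸ LinearMap.range (LinearMap.mulRight R (u i))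
  have hC : Subsingleton (K ⊗[R] C) := by
    refine ⟨fun y z => ?_⟩
    suffices ∀ y : K ⊗[R] C, y = 0 by rw [this y, this z]
    intro y
    obtain ⟨y, rfl⟩ := LinearMap.lTensor_surjective K (Submodule.mkQ_surjective _) y
    obtain ⟨y, rfl⟩ := hsurj y
    rw [← LinearMap.comp_apply, ← LinearMap.lTensor_comp, LinearMap.range_mkQ_comp,
      LinearMap.lTensor_zero, LinearMap.zero_apply]
  haveI := Module.Finite.of_surjective (Submodule.mkQ (LinearMap.range (LinearMap.mulRight R (u i))))
    (Submodule.mkQ_surjective _)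
  have hsupp : (⟨p, inferInstance⟩ : PrimeSpectrum R) ∉ Module.support R C := by
    rw [Module.mem_support_iff_nontrivial_residueField_tensorProduct, not_nontrivial_iff_subsingleton]
    exact hC
  obtain ⟨r, hr, hrC⟩ : ∃ r ∈ Module.annihilator R C, r ∉ p := by
    rw [Module.support_eq_zeroLocus, PrimeSpectrum.mem_zeroLocus, Set.not_subset] at hsupp
    exact hsupp
  obtain ⟨v, hv⟩ : ∃ v, v * u i = algebraMap R A r := by
    have := Module.mem_annihilator.1 hr (Submodule.Quotient.mk (1 : A))
    rw [← Submodule.Quotient.mk_smul, Submodule.Quotient.mk_eq_zero] at this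
    obtain ⟨v, hv⟩ := this
    exact ⟨v, by simpa [Algebra.algebraMap_eq_smul_one] using hv⟩
  exact ⟨r, hrC, u i, v, hu i, hv⟩

end Groth.Agent.CSA

namespace Groth.Agent.CSA

variable {R : Type*} [CommRing R]

open scoped TensorProduct in
/-- Tensor powers of an invertible module are invertible. -/
theorem invertible_tensorPower (L : Type*) [AddCommGroup L] [Module R L] [Module.Invertible R L] :
    ∀ n : ℕ, Module.Invertible R (⨂[R] _ : Fin n, L)
  | 0 => Module.Invertible.congr (PiTensorProduct.isEmptyEquiv (Fin 0)).symm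
  | n + 1 => by
    haveI := invertible_tensorPower L n
    haveI : Module.Invertible R (⨂[R] _ : Fin 1, L) :=
      Module.Invertible.congr (PiTensorProduct.subsingletonEquiv (s := fun _ : Fin 1 => L) 0).symm
    exact Module.Invertible.congr (TensorPower.mulEquiv (n := n) (m := 1) (R := R) (M := L))

/-- Endomorphisms commuting with all endomorphisms are scalars. -/
theorem exists_smul_eq_of_central (P : Type*) [AddCommGroup P] [Module R P] [Module.Finite R P]
    [Module.Projective R P] [FaithfulSMul R P] {z : Module.End R P} (hz : ∀ f, f * z = z * f) :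
    ∃ r : R, ∀ x, z x = r • x := by
  haveI := isAzumaya_moduleEnd (R := R) P
  obtain ⟨r, hr⟩ := exists_algebraMap_eq (R := R) hz
  exact ⟨r, fun x => by rw [← hr]; rfl⟩

end Groth.Agent.CSA
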