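import Mathlib
import Groth.Agent.CSA.AzumayaAut

/-!
# Kronecker powers of matrices and the antisymmetriser
-/

set_option autoImplicit false

universe u

namespace Groth.Agent.CSA.Antisym

set_option linter.style.haveILetI false

variable {S T : Type u} [CommRing S] [CommRing T] {n : ℕ}

/-- Kronecker product of a family of matrices. -/
noncomputable def kron (S : Type u) [CommRing S] (n : ℕ) :
    MultilinearMap S (fun _ : Fin n => Matrix (Fin n) (Fin n) S) (Matrix (Fin n → Fin n) (Fin n → Fin n) S) :=
  (Matrix.ofLinearEquiv S).toLinearMap.compMultilinearMap <|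
    MultilinearMap.pi fun x => MultilinearMap.pi fun y =>
      (MultilinearMap.mkPiAlgebra S (Fin n) S).compLinearMap fun i =>
        Matrix.entryLinearMap S S (x i) (y i)

theorem kron_apply (a : Fin n → Matrix (Fin n) (Fin n) S) (x y : Fin n → Fin n) :
    kron S n a x y = ∏ i, a i (x i) (y i) := rfl

theorem kron_mul (a b : Fin n → Matrix (Fin n) (Fin n) S) : kron S n (a * b) = kron S n a * kron S n b := by
  ext x y
  simp only [kron_apply, Matrix.mul_apply, Pi.mul_apply, ← Finset.prod_mul_distrib]
  rw [Fintype.prod_sum]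

theorem kron_one : kron S n 1 = 1 := by
  ext x y
  simp only [kron_apply, Pi.one_apply, Matrix.one_apply]
  by_cases h : x = y
  · subst h; simp
  · obtain ⟨i, hi⟩ := Function.ne_iff.mp h
    rw [if_neg h]
    exact Finset.prod_eq_zero (Finset.mem_univ i) (if_neg hi)

theorem kron_single (x y : Fin n → Fin n) :
    kron S n (fun i => Matrix.single (x i) (y i) 1) = Matrix.single x y 1 := by
  ext x' y'
  rw [kron_apply]
  by_cases h : x = x' ∧ y = y'
  · obtain ⟨rfl, rfl⟩ := h; simp
  · rw [Matrix.single_apply, if_neg h]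
    rcases not_and_or.mp h with h' | h' <;> obtain ⟨i, hi⟩ := Function.ne_iff.mp h'
    · exact Finset.prod_eq_zero (Finset.mem_univ i) (by rw [Matrix.single_apply, if_neg fun e => hi e.1])
    · exact Finset.prod_eq_zero (Finset.mem_univ i) (by rw [Matrix.single_apply, if_neg fun e => hi e.2])

theorem map_kron (φ : S →+* T) (a : Fin n → Matrix (Fin n) (Fin n) S) :
    (kron S n a).map φ = kron T n fun i => (a i).map φ := by
  ext x y
  simp [kron_apply, map_prod]

/-- Row selection matrix. -/
def sel (S : Type u) [CommRing S] (x : Fin n → Fin n) : Matrix (Fin n) (Fin n) S :=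
  Matrix.of fun i c => if x i = c then 1 else 0

/-- Coefficients of the antisymmetric tensor. -/
def wvec (S : Type u) [CommRing S] (n : ℕ) (x : Fin n → Fin n) : S := (sel S x).det

theorem wvec_id : wvec S n id = 1 := by
  have : sel S (id : Fin n → Fin n) = 1 := by ext i j; simp [sel, Matrix.one_apply]
  simp [wvec, this]

theorem map_wvec (φ : S →+* T) (x : Fin n → Fin n) : φ (wvec S n x) = wvec T n x := by
  rw [wvec, wvec, RingHom.map_det]
  congr 1
  ext i j
  simp [sel, apply_ite φ]

/-- The antisymmetriser, a matrix of rank one. -/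
def asym (S : Type u) [CommRing S] (n : ℕ) : Matrix (Fin n → Fin n) (Fin n → Fin n) S :=
  Matrix.vecMulVec (wvec S n) (wvec S n)

theorem map_asym (φ : S →+* T) : (asym S n).map φ = asym T n := by
  ext x y
  simp [asym, Matrix.vecMulVec_apply, map_wvec]

theorem asym_eq_sum : asym S n = ∑ x : Fin n → Fin n, ∑ y : Fin n → Fin n,
    (wvec S n x * wvec S n y) • Matrix.single x y (1 : S) := by
  refine (Matrix.matrix_eq_sum_single (asym S n)).trans (Finset.sum_congr rfl fun x _ => Finset.sum_congr rfl fun y _ => ?_)
  rw [Matrix.smul_single, smul_eq_mul, mul_one]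
  rfl

theorem kron_mulVec_wvec (u : Matrix (Fin n) (Fin n) S) :
    (kron S n fun _ => u).mulVec (wvec S n) = u.det • wvec S n := by
  funext x
  rw [Pi.smul_apply, smul_eq_mul, mul_comm, wvec, ← Matrix.det_mul]
  have hrow : sel S x * u = fun i => ∑ c, u (x i) c • (Pi.single c 1 : Fin n → S) := by
    funext i
    rw [← pi_eq_sum_univ' (u (x i))]
    funext c
    simp [Matrix.mul_apply, sel]
  show _ = Matrix.detRowAlternating (sel S x * u)
  rw [hrow]
  refine Eq.trans ?_ ((Matrix.detRowAlternating.toMultilinearMap).map_sum fun i c => u (x i) c • (Pi.single c 1 : Fin n → S)).symm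
  refine Finset.sum_congr rfl fun y _ => ?_
  rw [MultilinearMap.map_smul_univ, smul_eq_mul]
  show kron S n (fun _ => u) x y * wvec S n y = _
  rw [kron_apply]
  congr 1
  show wvec S n y = Matrix.det (Matrix.of fun i => (Pi.single (y i) (1 : S) : Fin n → S))
  rw [wvec]
  congr 1
  ext i c
  simp [sel, Pi.single_apply, eq_comm]

theorem kron_transpose (u : Matrix (Fin n) (Fin n) S) :
    (kron S n fun _ => u).transpose = kron S n fun _ => u.transpose := by
  ext x y
  simp [kron_apply]

theorem kron_mul_asym (u : Matrix (Fin n) (Fin n) S) :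
    (kron S n fun _ => u) * asym S n = u.det • asym S n := by
  rw [asym, Matrix.mul_vecMulVec, kron_mulVec_wvec, Matrix.smul_vecMulVec]

theorem asym_mul_kron (u : Matrix (Fin n) (Fin n) S) :
    asym S n * (kron S n fun _ => u) = u.det • asym S n := by
  apply Matrix.transpose_injective
  rw [Matrix.transpose_mul, kron_transpose, Matrix.transpose_smul, asym, Matrix.transpose_vecMulVec, ← asym,
    kron_mul_asym, Matrix.det_transpose]

/-- The linear map on Kronecker powers induced by an endomorphism of the matrix algebra. -/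
noncomputable def kronMap (α : Matrix (Fin n) (Fin n) S →ₗ[S] Matrix (Fin n) (Fin n) S) :
    Matrix (Fin n → Fin n) (Fin n → Fin n) S →ₗ[S] Matrix (Fin n → Fin n) (Fin n → Fin n) S :=
  (Matrix.stdBasis S (Fin n → Fin n) (Fin n → Fin n)).constr S fun p =>
    kron S n fun i => α (Matrix.single (p.1 i) (p.2 i) 1)

theorem kronMap_kron (α : Matrix (Fin n) (Fin n) S →ₗ[S] Matrix (Fin n) (Fin n) S)
    (a : Fin n → Matrix (Fin n) (Fin n) S) : kronMap α (kron S n a) = kron S n fun i => α (a i) := by
  have : (kronMap α).compMultilinearMap (kron S n) = (kron S n).compLinearMap fun _ => α := by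
    refine Module.Basis.ext_multilinear (fun _ => Matrix.stdBasis S (Fin n) (Fin n)) fun v => ?_
    have hs : ∀ p : Fin n × Fin n, Matrix.stdBasis S (Fin n) (Fin n) p = Matrix.single p.1 p.2 1 :=
      fun ⟨i, j⟩ => Matrix.stdBasis_eq_single S i j
    simp only [LinearMap.compMultilinearMap_apply, MultilinearMap.compLinearMap_apply, hs]
    rw [kron_single (fun i => (v i).1) (fun i => (v i).2), ← Matrix.stdBasis_eq_single, kronMap, Module.Basis.constr_basis]
  exact congrArg (fun g : MultilinearMap S (fun _ : Fin n => Matrix (Fin n) (Fin n) S) _ => g a) this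

theorem kronMap_asym (α : Matrix (Fin n) (Fin n) S →ₐ[S] Matrix (Fin n) (Fin n) S) :
    kronMap α.toLinearMap (asym S n) = asym S n := by
  classical
  rcases Nat.eq_zero_or_pos n with rfl | hn
  · have hα : α.toLinearMap = LinearMap.id := LinearMap.ext fun a => Subsingleton.elim _ _
    rw [hα, asym_eq_sum, map_sum]
    simp only [map_sum, map_smul]
    refine Finset.sum_congr rfl fun x _ => Finset.sum_congr rfl fun y _ => ?_
    rw [← kron_single x y, kronMap_kron]
    rfl
  haveI : Nonempty (Fin n) := ⟨⟨0, hn⟩⟩
  haveI : IsAzumaya S (Matrix (Fin n) (Fin n) S) := IsAzumaya.matrix S (Fin n)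
  refine Matrix.ext fun a b => sub_eq_zero.mp ?_
  set d := kronMap α.toLinearMap (asym S n) a b - asym S n a b
  by_contra hd
  have hne : (LinearMap.ker (LinearMap.toSpanSingleton S S d)) ≠ (⊤ : Ideal S) := fun h => hd (by
    have h1 : (1 : S) ∈ LinearMap.ker (LinearMap.toSpanSingleton S S d) := h ▸ Submodule.mem_top
    simpa using h1)
  obtain ⟨p, hp, hle⟩ := Ideal.exists_le_maximal _ hne
  obtain ⟨r, hr, u, v, hu, hvu⟩ := exists_inner_away α p
  let Sr := Localization.Away r
  let φ := algebraMap S Sr
  have hru : IsUnit (u.map φ).det := by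
    have h1 := congrArg Matrix.det (congrArg (φ.mapMatrix (m := Fin n)) hvu)
    rw [map_mul, Matrix.det_mul] at h1
    have h2 : (φ.mapMatrix (algebraMap S (Matrix (Fin n) (Fin n) S) r)).det = φ r ^ n := by
      rw [← RingHom.map_det, Matrix.algebraMap_eq_diagonal, Matrix.det_diagonal]
      simp
    rw [h2] at h1
    refine isUnit_of_mul_isUnit_right (x := (φ.mapMatrix v).det) ?_
    show IsUnit ((φ.mapMatrix v).det * (φ.mapMatrix u).det)
    rw [h1]
    exact (IsLocalization.Away.algebraMap_isUnit (S := Sr) r).pow n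
  set U := kron Sr n fun _ => u.map φ
  set U' := kron Sr n fun _ => (u.map φ)⁻¹
  have hUU : U * U' = 1 := by
    rw [← kron_mul, show ((fun _ => u.map φ) * fun _ => (u.map φ)⁻¹ : Fin n → Matrix (Fin n) (Fin n) Sr) = 1 from
      funext fun _ => Matrix.mul_nonsing_inv _ hru, kron_one]
  have hmain : (kronMap α.toLinearMap (asym S n)).map φ = asym Sr n := by
    rw [asym_eq_sum, map_sum]
    simp only [map_sum, map_smul]
    have hterm : ∀ x y : Fin n → Fin n, (kronMap α.toLinearMap (Matrix.single x y (1 : S))).map φ =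
        U * Matrix.single x y (1 : Sr) * U' := fun x y => by
      rw [← kron_single x y, kronMap_kron, map_kron, ← kron_single (S := Sr) x y, ← kron_mul, ← kron_mul]
      congr 1
      funext i
      show (α (Matrix.single (x i) (y i) 1)).map φ = u.map φ * Matrix.single (x i) (y i) (1 : Sr) * (u.map φ)⁻¹
      have h1 := congrArg (φ.mapMatrix (m := Fin n)) (mem_twist.1 hu (Matrix.single (x i) (y i) (1 : S)))
      simp only [map_mul, RingHom.mapMatrix_apply] at h1
      rw [Matrix.map_single _ _ _ φ, map_one] at h1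
      rw [h1, mul_assoc, Matrix.mul_nonsing_inv _ hru, mul_one]
    have hsum : ∀ (g : (Fin n → Fin n) → Matrix (Fin n → Fin n) (Fin n → Fin n) S),
        (∑ x, g x).map φ = ∑ x, (g x).map φ := fun g => map_sum φ.mapMatrix g Finset.univ
    rw [hsum]
    simp only [hsum]
    calc ∑ x, ∑ y, ((wvec S n x * wvec S n y) • kronMap α.toLinearMap (Matrix.single x y (1 : S))).map φ
        = ∑ x : Fin n → Fin n, ∑ y : Fin n → Fin n, (wvec Sr n x * wvec Sr n y) • (U * Matrix.single x y (1 : Sr) * U') := by
          refine Finset.sum_congr rfl fun x _ => Finset.sum_congr rfl fun y _ => ?_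
          rw [Matrix.map_smul' _ _ _ (map_mul φ), hterm, map_mul, map_wvec, map_wvec]
      _ = U * asym Sr n * U' := by
          rw [asym_eq_sum]
          simp only [Finset.mul_sum, Finset.sum_mul, mul_smul_comm, smul_mul_assoc]
      _ = asym Sr n := by
          rw [kron_mul_asym, ← asym_mul_kron, mul_assoc, hUU, mul_one]
  have hd0 : φ d = 0 := by
    have h2 : φ (kronMap α.toLinearMap (asym S n) a b) = φ (asym S n a b) := by
      rw [← Matrix.map_apply (f := φ), hmain, ← map_asym φ, Matrix.map_apply]
    rw [map_sub, h2, sub_self]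
  obtain ⟨⟨_, m, rfl⟩, hm⟩ := (IsLocalization.map_eq_zero_iff (Submonoid.powers r) Sr d).mp hd0
  exact hr (hp.isPrime.mem_of_pow_mem m (hle (by simpa using hm)))

end Groth.Agent.CSA.Antisym
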