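import Mathlib

/-!
# The scheme of Azumaya algebra structures on a free module is smooth
-/

universe u

open MvPolynomial

namespace Groth.Agent.CSA.StrConst

set_option linter.style.haveILetI false

variable {ι : Type} [Fintype ι] [DecidableEq ι]

section basic

variable {S T : Type u} [CommRing S] [CommRing T]

/-- The product on `ι → S` with structure constants `c`. -/
def mulBil (c : ι → ι → ι → S) : (ι → S) →ₗ[S] (ι → S) →ₗ[S] (ι → S) :=
  LinearMap.mk₂ S (fun a b l => ∑ i, ∑ j, a i * b j * c i j l)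
    (fun a a' b => funext fun l => by simp [add_mul, Finset.sum_add_distrib])
    (fun r a b => funext fun l => by simp [Finset.mul_sum, mul_assoc])
    (fun a b b' => funext fun l => by simp [mul_add, add_mul, Finset.sum_add_distrib])
    (fun r a b => funext fun l => by simp [Finset.mul_sum, mul_assoc, mul_left_comm])

theorem mulBil_apply (c : ι → ι → ι → S) (a b : ι → S) (l : ι) :
    mulBil c a b l = ∑ i, ∑ j, a i * b j * c i j l := rfl

theorem mulBil_single (c : ι → ι → ι → S) (i j : ι) :
    mulBil c (Pi.single i 1) (Pi.single j 1) = c i j := by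
  funext l
  rw [mulBil_apply, Finset.sum_eq_single i, Finset.sum_eq_single j]
  · simp
  · intro k _ hk; simp [hk]
  · simp
  · intro k _ hk; simp [hk]
  · simp

theorem map_mulBil (φ : S →+* T) (c : ι → ι → ι → S) (a b : ι → S) :
    φ ∘ mulBil c a b = mulBil (fun i j l => φ (c i j l)) (φ ∘ a) (φ ∘ b) :=
  funext fun l => by simp [mulBil_apply, map_sum]

theorem map_single (φ : S →+* T) (i : ι) : φ ∘ (Pi.single i 1 : ι → S) = Pi.single i 1 :=
  funext fun l => by by_cases h : l = i <;> simp [h]

/-- The matrix of `Z ↦ (w ↦ ∑ Z i j • (e_i w) e_j)`. -/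
def dmat (c : ι → ι → ι → S) : Matrix (ι × ι) (ι × ι) S :=
  Matrix.of fun p q => mulBil c (mulBil c (Pi.single q.1 1) (Pi.single p.2 1)) (Pi.single q.2 1) p.1

theorem map_dmat (φ : S →+* T) (c : ι → ι → ι → S) : (dmat c).map φ = dmat fun i j l => φ (c i j l) := by
  refine Matrix.ext fun p q => ?_
  simp only [Matrix.map_apply, dmat, Matrix.of_apply]
  have := congrFun (map_mulBil φ c (mulBil c (Pi.single q.1 1) (Pi.single p.2 1)) (Pi.single q.2 1)) p.1
  simp only [Function.comp_apply, map_mulBil, map_single] at this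
  exact this

/-- `c`, `u` define a unital associative algebra with bijective `mulLeftRight`. -/
structure IsAz (c : ι → ι → ι → S) (u : ι → S) : Prop where
  assoc : ∀ i j k, mulBil c (mulBil c (Pi.single i 1) (Pi.single j 1)) (Pi.single k 1) =
    mulBil c (Pi.single i 1) (mulBil c (Pi.single j 1) (Pi.single k 1))
  one_mul : ∀ i, mulBil c u (Pi.single i 1) = Pi.single i 1
  mul_one : ∀ i, mulBil c (Pi.single i 1) u = Pi.single i 1
  det : IsUnit (dmat c).det

variable {c : ι → ι → ι → S} {u : ι → S}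

theorem IsAz.assoc' (h : IsAz c u) (a b d : ι → S) : mulBil c (mulBil c a b) d = mulBil c a (mulBil c b d) := by
  have key : ((mulBil c).compr₂ (mulBil c)) = ((LinearMap.llcomp S (ι → S) (ι → S) (ι → S)).comp (mulBil c)).compl₂
      (mulBil c) := by
    refine (Pi.basisFun S ι).ext fun i => (Pi.basisFun S ι).ext fun j => (Pi.basisFun S ι).ext fun k => ?_
    simp only [Pi.basisFun_apply]
    exact h.assoc i j k
  exact LinearMap.congr_fun (LinearMap.congr_fun (LinearMap.congr_fun key a) b) d

theorem IsAz.one_mul' (h : IsAz c u) (a : ι → S) : mulBil c u a = a := by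
  have key : mulBil c u = LinearMap.id := (Pi.basisFun S ι).ext fun i => by
    rw [Pi.basisFun_apply]; exact h.one_mul i
  rw [key, LinearMap.id_apply]

theorem IsAz.mul_one' (h : IsAz c u) (a : ι → S) : mulBil c a u = a := by
  have key : (mulBil c).flip u = LinearMap.id := (Pi.basisFun S ι).ext fun i => by
    rw [Pi.basisFun_apply]; exact h.mul_one i
  exact LinearMap.congr_fun key a

/-- `Z ↦ (w ↦ ∑ Z (i,j) • (e_i w) e_j)` -/
def sandwich (c : ι → ι → ι → S) : (ι × ι → S) →ₗ[S] (ι → S) →ₗ[S] (ι → S) :=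
  ∑ p : ι × ι, (LinearMap.proj p).smulRight ((mulBil c).flip (Pi.single p.2 1) ∘ₗ mulBil c (Pi.single p.1 1))

theorem sandwich_apply (c : ι → ι → ι → S) (Z : ι × ι → S) (w : ι → S) :
    sandwich c Z w = ∑ p : ι × ι, Z p • mulBil c (mulBil c (Pi.single p.1 1) w) (Pi.single p.2 1) := by
  simp [sandwich, LinearMap.sum_apply]

theorem sandwich_single (c : ι → ι → ι → S) (Z : ι × ι → S) (w l : ι) :
    sandwich c Z (Pi.single w 1) l = (dmat c).mulVec Z (l, w) := by
  rw [sandwich_apply, Finset.sum_apply]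
  refine Finset.sum_congr rfl fun q _ => ?_
  simp [dmat, mul_comm]

theorem sandwich_bijective (hdet : IsUnit (dmat c).det) : Function.Bijective (sandwich c) := by
  have hm : Function.Bijective (dmat c).mulVec :=
    Function.bijective_iff_has_inverse.mpr ⟨(dmat c)⁻¹.mulVec,
      fun Z => by rw [Matrix.mulVec_mulVec, Matrix.nonsing_inv_mul _ hdet, Matrix.one_mulVec],
      fun Z => by rw [Matrix.mulVec_mulVec, Matrix.mul_nonsing_inv _ hdet, Matrix.one_mulVec]⟩
  constructor
  · intro Z Z' h
    refine hm.1 (funext fun p => ?_)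
    rw [← sandwich_single, ← sandwich_single, h]
  · intro T
    obtain ⟨Z, hZ⟩ := hm.2 fun p => T (Pi.single p.2 1) p.1
    refine ⟨Z, (Pi.basisFun S ι).ext fun w => funext fun l => ?_⟩
    rw [Pi.basisFun_apply, sandwich_single, hZ]

/-- Left action on tensors. -/
def lmulT (c : ι → ι → ι → S) (a : ι → S) (Z : ι × ι → S) : ι × ι → S :=
  fun p => ∑ i, Z (i, p.2) * mulBil c a (Pi.single i 1) p.1

/-- Right action on tensors. -/
def rmulT (c : ι → ι → ι → S) (a : ι → S) (Z : ι × ι → S) : ι × ι → S :=
  fun p => ∑ j, Z (p.1, j) * mulBil c (Pi.single j 1) a p.2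

theorem map_lmulT (φ : S →+* T) (c : ι → ι → ι → S) (a : ι → S) (Z : ι × ι → S) :
    φ ∘ lmulT c a Z = lmulT (fun i j l => φ (c i j l)) (φ ∘ a) (φ ∘ Z) := by
  funext p
  simp only [lmulT, Function.comp_apply, map_sum, map_mul]
  refine Finset.sum_congr rfl fun i _ => ?_
  rw [← map_single φ i, ← map_mulBil]
  rfl

theorem map_rmulT (φ : S →+* T) (c : ι → ι → ι → S) (a : ι → S) (Z : ι × ι → S) :
    φ ∘ rmulT c a Z = rmulT (fun i j l => φ (c i j l)) (φ ∘ a) (φ ∘ Z) := by
  funext p
  simp only [rmulT, Function.comp_apply, map_sum, map_mul]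
  refine Finset.sum_congr rfl fun i _ => ?_
  rw [← map_single φ i, ← map_mulBil]
  rfl

theorem sandwich_lmulT (h : IsAz c u) (a : ι → S) (Z : ι × ι → S) (w : ι → S) :
    sandwich c (lmulT c a Z) w = mulBil c a (sandwich c Z w) := by
  rw [sandwich_apply, sandwich_apply, map_sum, Fintype.sum_prod_type, Fintype.sum_prod_type_right,
    Finset.sum_comm]
  refine Finset.sum_congr rfl fun j _ => ?_
  simp only [lmulT, Finset.sum_smul]
  rw [Finset.sum_comm]
  refine Finset.sum_congr rfl fun i _ => ?_
  rw [map_smul, ← h.assoc', ← h.assoc']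
  conv_rhs => rw [pi_eq_sum_univ' (mulBil c a (Pi.single i 1))]
  simp only [map_sum, map_smul, LinearMap.sum_apply, LinearMap.smul_apply, Finset.smul_sum, smul_smul]

theorem sandwich_rmulT (h : IsAz c u) (a : ι → S) (Z : ι × ι → S) (w : ι → S) :
    sandwich c (rmulT c a Z) w = mulBil c (sandwich c Z w) a := by
  rw [sandwich_apply, sandwich_apply, map_sum, LinearMap.sum_apply, Fintype.sum_prod_type, Fintype.sum_prod_type]
  refine Finset.sum_congr rfl fun i _ => ?_
  simp only [rmulT, Finset.sum_smul]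
  rw [Finset.sum_comm]
  refine Finset.sum_congr rfl fun j _ => ?_
  rw [map_smul, LinearMap.smul_apply, h.assoc']
  conv_rhs => rw [pi_eq_sum_univ' (mulBil c (Pi.single j 1) a)]
  simp only [map_sum, map_smul, Finset.smul_sum, smul_smul]

/-- A separability element. -/
theorem IsAz.exists_separability [Nonempty ι] (h : IsAz c u) : ∃ Z : ι × ι → S,
    (∀ a, lmulT c a Z = rmulT c a Z) ∧ ∑ p : ι × ι, Z p • c p.1 p.2 = u := by
  have htop : Ideal.span (Set.range u) = ⊤ := by
    have hmem : ∀ (a : ι → S) (l : ι), mulBil c u a l ∈ Ideal.span (Set.range u) := fun a l => by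
      rw [mulBil_apply]
      exact sum_mem fun i _ => sum_mem fun j _ =>
        Ideal.mul_mem_right _ _ (Ideal.mul_mem_right _ _ (Ideal.subset_span ⟨i, rfl⟩))
    obtain ⟨i⟩ := ‹Nonempty ι›
    rw [Ideal.eq_top_iff_one]
    have := hmem (Pi.single i 1) i
    rwa [h.one_mul, Pi.single_eq_same] at this
  obtain ⟨t, ht⟩ : ∃ t : ι → S, ∑ i, t i • u i = 1 :=
    Submodule.mem_span_range_iff_exists_fun S |>.mp (htop ▸ Submodule.mem_top : (1 : S) ∈ Ideal.span (Set.range u))
  let τ : (ι → S) →ₗ[S] S := ∑ i, t i • LinearMap.proj i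
  obtain ⟨Z, hZ⟩ := (sandwich_bijective h.det).2 (τ.smulRight u)
  refine ⟨Z, fun a => (sandwich_bijective h.det).1 (LinearMap.ext fun w => ?_), ?_⟩
  · rw [sandwich_lmulT h, sandwich_rmulT h, hZ, LinearMap.smulRight_apply, map_smul, map_smul, LinearMap.smul_apply,
      h.mul_one', h.one_mul']
  · have := LinearMap.congr_fun hZ u
    rw [sandwich_apply, LinearMap.smulRight_apply] at this
    have hτ : τ u = 1 := by simp [τ, ← ht, LinearMap.sum_apply]
    rw [hτ, one_smul] at this
    refine Eq.trans (Finset.sum_congr rfl fun p _ => ?_) this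
    rw [h.mul_one', mulBil_single]

theorem exists_unit_of_assoc (m : (ι → S) →ₗ[S] (ι → S) →ₗ[S] (ι → S))
    (hm : ∀ a b d, m (m a b) d = m a (m b d)) (v : ι → S) (hl : Function.Bijective (m v))
    (hr : Function.Bijective (m.flip v)) : ∃ e, (∀ a, m e a = a) ∧ ∀ a, m a e = a := by
  obtain ⟨e, he⟩ := hl.2 v
  obtain ⟨e', he'⟩ := hr.2 v
  have h1 : ∀ a, m e a = a := fun a => hl.1 (by rw [← hm, he])
  have h2 : ∀ a, m a e' = a := fun a => hr.1 (by
    show m (m a e') v = m a v
    rw [hm, show m e' v = v from he'])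
  exact ⟨e, h1, fun a => by rw [show e = e' from (h2 e).symm.trans (h1 e')]; exact h2 a⟩

theorem bijective_of_congr_id {I : Ideal S} (hI : I ^ 2 = ⊥) (L : (ι → S) →ₗ[S] (ι → S))
    (h : ∀ a l, L a l - a l ∈ I) : Function.Bijective L := by
  set d := L - LinearMap.id
  have hd : ∀ a l, d a l ∈ I := fun a l => h a l
  have hdd : ∀ a, d (d a) = 0 := fun a => funext fun l => by
    have hsum := congrArg (fun z => d z l) (pi_eq_sum_univ' (d a))
    simp only [map_sum, map_smul, Finset.sum_apply, Pi.smul_apply, smul_eq_mul] at hsum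
    rw [hsum, Pi.zero_apply]
    refine Finset.sum_eq_zero fun i _ => ?_
    have hm : d a i * d (Pi.single i 1) l ∈ I ^ 2 := by rw [sq]; exact Ideal.mul_mem_mul (hd a i) (hd _ l)
    rwa [hI, Submodule.mem_bot] at hm
  refine Function.bijective_iff_has_inverse.mpr ⟨fun a => a - d a, fun a => ?_, fun a => ?_⟩
  · have e1 : L a = a + d a := by simp [d]
    show L a - d (L a) = a
    rw [e1, map_add, hdd]; abel
  · have e1 : ∀ b, L b = b + d b := fun b => by simp [d]
    show L (a - d a) = a
    rw [e1, map_sub, hdd]; abel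

theorem vanish {I : Ideal S} (hI : I ^ 2 = ⊥) (L : (ι → S) →ₗ[S] (ι → S)) (h : ∀ i l, L (Pi.single i 1) l ∈ I)
    {z : ι → S} (hz : ∀ i, z i ∈ I) : L z = 0 := by
  funext l
  have hsum := congrArg (fun y => L y l) (pi_eq_sum_univ' z)
  simp only [map_sum, map_smul, Finset.sum_apply, Pi.smul_apply, smul_eq_mul] at hsum
  rw [hsum, Pi.zero_apply]
  refine Finset.sum_eq_zero fun i _ => ?_
  have hm : z i * L (Pi.single i 1) l ∈ I ^ 2 := by rw [sq]; exact Ideal.mul_mem_mul (hz i) (h i l)
  rwa [hI, Submodule.mem_bot] at hm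

/-- Azumaya algebra structures lift along square zero ideals. -/
theorem exists_lift [Nonempty ι] {I : Ideal S} (hI : I ^ 2 = ⊥) (c₀ : ι → ι → ι → S ⧸ I) (u₀ : ι → S ⧸ I)
    (h : IsAz c₀ u₀) : ∃ (c : ι → ι → ι → S) (u : ι → S), IsAz c u ∧
      (∀ i j l, Ideal.Quotient.mk I (c i j l) = c₀ i j l) ∧ ∀ l, Ideal.Quotient.mk I (u l) = u₀ l := by
  classical
  set φ := Ideal.Quotient.mk I
  choose c hc using fun i j l => Ideal.Quotient.mk_surjective (c₀ i j l)
  choose v hv using fun l => Ideal.Quotient.mk_surjective (u₀ l)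
  obtain ⟨Z₀, hZ₀, hZu⟩ := h.exists_separability
  choose Z hZ using fun p => Ideal.Quotient.mk_surjective (Z₀ p)
  set m := mulBil c with hm
  have hred : ∀ a b, φ ∘ m a b = mulBil c₀ (φ ∘ a) (φ ∘ b) := fun a b => by
    rw [map_mulBil]; exact congrArg (fun z => mulBil z (φ ∘ a) (φ ∘ b)) (funext₃ hc)
  let f : (ι → S) → (ι → S) → (ι → S) → (ι → S) := fun a b d => m (m a b) d - m a (m b d)
  have hf : ∀ a b d l, f a b d l ∈ I := fun a b d l => by
    show (m (m a b) d - m a (m b d)) l ∈ I
    rw [← Ideal.Quotient.eq_zero_iff_mem, Pi.sub_apply, map_sub, sub_eq_zero]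
    have h1 := congrFun (hred (m a b) d) l
    have h2 := congrFun (hred a (m b d)) l
    simp only [Function.comp_apply] at h1 h2
    rw [h1, h2, hred, hred, h.assoc']
  have hzero : ∀ x y (z : ι → S), (∀ i, z i ∈ I) → m (m x y) z = m x (m y z) := fun x y z hz => by
    have := vanish hI (m (m x y) - m x ∘ₗ m y) (fun i l => hf x y (Pi.single i 1) l) hz
    rw [LinearMap.sub_apply, sub_eq_zero] at this
    exact this
  have hv1 : ∀ a l, m v a l - a l ∈ I := fun a l => by
    rw [← Ideal.Quotient.eq_zero_iff_mem, map_sub, sub_eq_zero]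
    have := congrFun (hred v a) l
    rw [show φ ∘ v = u₀ from funext hv, h.one_mul'] at this
    exact this
  -- the contracting homotopy
  let Lin : (ι → S) → (ι → S) → (ι × ι → S) → (ι → S) := fun b d W =>
    ∑ p : ι × ι, W p • m (Pi.single p.1 1) (f (Pi.single p.2 1) b d)
  let g : (ι → S) → (ι → S) → (ι → S) := fun b d => Lin b d Z
  have hmI : ∀ x (z : ι → S), (∀ i, z i ∈ I) → ∀ l, m x z l ∈ I := fun x z hz l => by
    rw [hm, mulBil_apply]
    exact sum_mem fun i _ => sum_mem fun j _ => Ideal.mul_mem_right _ _ (Ideal.mul_mem_left _ _ (hz j))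
  have hmI' : ∀ x (z : ι → S), (∀ i, z i ∈ I) → ∀ l, m z x l ∈ I := fun x z hz l => by
    rw [hm, mulBil_apply]
    exact sum_mem fun i _ => sum_mem fun j _ => Ideal.mul_mem_right _ _ (Ideal.mul_mem_right _ _ (hz i))
  have hmII : ∀ x y : ι → S, (∀ i, x i ∈ I) → (∀ i, y i ∈ I) → m x y = 0 := fun x y hx hy => funext fun l => by
    rw [hm, mulBil_apply, Pi.zero_apply]
    refine Finset.sum_eq_zero fun i _ => Finset.sum_eq_zero fun j _ => ?_
    have : x i * y j ∈ I ^ 2 := by rw [sq]; exact Ideal.mul_mem_mul (hx i) (hy j)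
    rw [hI, Submodule.mem_bot] at this
    rw [this, zero_mul]
  have hLinI : ∀ b d W l, Lin b d W l ∈ I := fun b d W l => by
    simp only [Lin, Finset.sum_apply, Pi.smul_apply, smul_eq_mul]
    exact sum_mem fun p _ => Ideal.mul_mem_left _ _ (hmI _ _ (hf _ _ _) l)
  have hLcongr : ∀ b d W W', (∀ p, φ (W p) = φ (W' p)) → Lin b d W = Lin b d W' := fun b d W W' hW => by
    refine Finset.sum_congr rfl fun p _ => funext fun l => ?_
    rw [Pi.smul_apply, Pi.smul_apply, smul_eq_mul, smul_eq_mul, ← sub_eq_zero, ← sub_mul]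
    have : (W p - W' p) * m (Pi.single p.1 1) (f (Pi.single p.2 1) b d) l ∈ I ^ 2 := by
      rw [sq]
      exact Ideal.mul_mem_mul ((Ideal.Quotient.mk_eq_mk_iff_sub_mem _ _).mp (hW p)) (hmI _ _ (hf _ _ _) l)
    rwa [hI, Submodule.mem_bot] at this
  have hδ : ∀ b d e, m b (g d e) - g (m b d) e + g b (m d e) - m (g b d) e = f b d e := by
    intro b d e
    have hco : ∀ y, f (m y b) d e - f y (m b d) e + f y b (m d e) - m (f y b d) e = m y (f b d e) := fun y => by
      simp only [f, map_sub, LinearMap.sub_apply]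
      abel
    have hl : Lin d e (lmulT c b Z) = m b (g d e) := by
      simp only [g, Lin, map_sum, map_smul]
      rw [Fintype.sum_prod_type, Fintype.sum_prod_type_right, Finset.sum_comm]
      refine Finset.sum_congr rfl fun j _ => ?_
      simp only [lmulT, Finset.sum_smul]
      rw [Finset.sum_comm]
      refine Finset.sum_congr rfl fun i _ => ?_
      rw [← hzero b (Pi.single i 1) _ (hf _ _ _)]
      conv_rhs => rw [pi_eq_sum_univ' (m b (Pi.single i 1))]
      simp only [map_sum, map_smul, LinearMap.sum_apply, LinearMap.smul_apply, Finset.smul_sum, smul_smul, hm]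
    have hr : Lin d e (rmulT c b Z) = ∑ p : ι × ι, Z p • m (Pi.single p.1 1) (f (m (Pi.single p.2 1) b) d e) := by
      simp only [Lin]
      rw [Fintype.sum_prod_type, Fintype.sum_prod_type]
      refine Finset.sum_congr rfl fun i _ => ?_
      simp only [rmulT, Finset.sum_smul]
      rw [Finset.sum_comm]
      refine Finset.sum_congr rfl fun j _ => ?_
      conv_rhs => rw [pi_eq_sum_univ' (m (Pi.single j 1) b)]
      simp only [f, map_sum, map_smul, map_sub, LinearMap.sum_apply, LinearMap.smul_apply, Finset.smul_sum, smul_sub,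
        smul_smul, ← Finset.sum_sub_distrib, hm]
    have hlr : Lin d e (lmulT c b Z) = Lin d e (rmulT c b Z) := by
      refine hLcongr _ _ _ _ fun p => ?_
      have h1 := congrFun (map_lmulT φ c b Z) p
      have h2 := congrFun (map_rmulT φ c b Z) p
      simp only [Function.comp_apply] at h1 h2
      rw [h1, h2, show φ ∘ Z = Z₀ from funext hZ, show (fun i j l => φ (c i j l)) = c₀ from funext₃ hc, hZ₀]
    have hu : ∑ p : ι × ι, Z p • m (Pi.single p.1 1) (m (Pi.single p.2 1) (f b d e)) = f b d e := by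
      have h1 : ∀ p : ι × ι, Z p • m (Pi.single p.1 1) (m (Pi.single p.2 1) (f b d e)) =
          Z p • m (c p.1 p.2) (f b d e) := fun p => by
        rw [← hzero _ _ _ (hf _ _ _), hm, mulBil_single]
      rw [Finset.sum_congr rfl fun p _ => h1 p]
      have h2 := vanish hI (∑ p : ι × ι, Z p • m (c p.1 p.2) - LinearMap.id) (fun i l => by
        rw [← Ideal.Quotient.eq_zero_iff_mem]
        have h3 := congrFun (hred (∑ p : ι × ι, Z p • c p.1 p.2) (Pi.single i 1)) l
        rw [show φ ∘ (∑ p : ι × ι, Z p • c p.1 p.2) = u₀ from funext fun l' => by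
          rw [Function.comp_apply, Finset.sum_apply, map_sum, ← hZu, Finset.sum_apply]
          refine Finset.sum_congr rfl fun p _ => ?_
          rw [Pi.smul_apply, Pi.smul_apply, smul_eq_mul, smul_eq_mul, map_mul, hZ, hc],
          map_single, h.one_mul] at h3
        simp only [Function.comp_apply, map_sum, map_smul, LinearMap.sum_apply, LinearMap.smul_apply] at h3
        rw [LinearMap.sub_apply, LinearMap.id_apply, Pi.sub_apply, map_sub]
        simp only [LinearMap.sum_apply, LinearMap.smul_apply]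
        rw [h3, sub_eq_zero]
        exact (congrFun (map_single φ i) l).symm) (hf b d e)
      rw [LinearMap.sub_apply, LinearMap.id_apply, sub_eq_zero, LinearMap.sum_apply] at h2
      simpa using h2
    have hsum : ∑ p : ι × ι, Z p • m (Pi.single p.1 1) (f (m (Pi.single p.2 1) b) d e) - g (m b d) e + g b (m d e) -
        m (g b d) e = f b d e := by
      refine Eq.trans ?_ hu
      have h5 : m (g b d) e = ∑ p : ι × ι, Z p • m (Pi.single p.1 1) (m (f (Pi.single p.2 1) b d) e) := by
        simp only [g, Lin, map_sum, map_smul, LinearMap.sum_apply, LinearMap.smul_apply]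
        refine Finset.sum_congr rfl fun p _ => ?_
        have := vanish hI (m.flip e ∘ₗ m (Pi.single p.1 1) - m (Pi.single p.1 1) ∘ₗ m.flip e)
          (fun i l => hf (Pi.single p.1 1) (Pi.single i 1) e l) (hf (Pi.single p.2 1) b d)
        rw [LinearMap.sub_apply, sub_eq_zero] at this
        exact congrArg (Z p • ·) this
      rw [h5]
      simp only [g, Lin, ← Finset.sum_sub_distrib, ← Finset.sum_add_distrib, ← smul_sub, ← smul_add, ← map_sub,
        ← map_add]
      refine Finset.sum_congr rfl fun p _ => ?_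
      rw [hco]
    rw [← hl, hlr, hr]
    exact hsum
  -- the corrected product
  let c' : ι → ι → ι → S := fun i j l => c i j l + g (Pi.single i 1) (Pi.single j 1) l
  have hc' : ∀ i j l, φ (c' i j l) = c₀ i j l := fun i j l => by
    rw [map_add, hc, Ideal.Quotient.eq_zero_iff_mem.mpr (hLinI _ _ _ _), add_zero]
  have hg : ∀ a b, mulBil c' a b = m a b + g a b := by
    intro a b
    have h2 : g a b = ∑ i, ∑ j, (a i * b j) • g (Pi.single i 1) (Pi.single j 1) := by
      have hadd : ∀ a₁ a₂ b₁, g (a₁ + a₂) b₁ = g a₁ b₁ + g a₂ b₁ := fun a₁ a₂ b₁ => by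
        simp only [g, Lin, f, map_add, map_sub, LinearMap.add_apply, ← Finset.sum_add_distrib, ← smul_add]
        refine Finset.sum_congr rfl fun p _ => ?_
        congr 1
        abel
      have hsmul : ∀ (r : S) a₁ b₁, g (r • a₁) b₁ = r • g a₁ b₁ := fun r a₁ b₁ => by
        simp only [g, Lin, f, map_smul, map_sub, LinearMap.smul_apply, Finset.smul_sum, ← smul_sub,
          smul_comm r]
      have hadd' : ∀ a₁ b₁ b₂, g a₁ (b₁ + b₂) = g a₁ b₁ + g a₁ b₂ := fun a₁ b₁ b₂ => by
        simp only [g, Lin, f, map_add, map_sub, ← Finset.sum_add_distrib, ← smul_add]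
        refine Finset.sum_congr rfl fun p _ => ?_
        congr 1
        abel
      have hsmul' : ∀ (r : S) a₁ b₁, g a₁ (r • b₁) = r • g a₁ b₁ := fun r a₁ b₁ => by
        simp only [g, Lin, f, map_smul, map_sub, Finset.smul_sum, ← smul_sub, smul_comm r]
      let G := LinearMap.mk₂ S g hadd hsmul hadd' hsmul'
      have h4 : G a b = G (∑ i, a i • Pi.single i 1) (∑ j, b j • Pi.single j 1) := by
        rw [← pi_eq_sum_univ' a, ← pi_eq_sum_univ' b]
      simp only [map_sum, map_smul, LinearMap.sum_apply, LinearMap.smul_apply, Finset.smul_sum, smul_smul] at h4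
      rw [show g a b = G a b from rfl, h4, Finset.sum_comm]
      exact Finset.sum_congr rfl fun i _ => Finset.sum_congr rfl fun j _ => by rw [mul_comm]; rfl
    funext l
    rw [Pi.add_apply, h2]
    simp only [hm, mulBil_apply, c', mul_add, Finset.sum_add_distrib, Finset.sum_apply, Pi.smul_apply, smul_eq_mul]
  have hassoc : ∀ a b d, mulBil c' (mulBil c' a b) d = mulBil c' a (mulBil c' b d) := by
    intro a b d
    have hgg : ∀ x y z, (∀ i, x i ∈ I) → g x y = 0 ∧ g z x = 0 := fun x y z hx => by
      constructor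
      · refine Finset.sum_eq_zero fun p _ => ?_
        have := vanish hI (m.flip y ∘ₗ m (Pi.single p.2 1) - m (Pi.single p.2 1) ∘ₗ m.flip y)
          (fun i l => hf (Pi.single p.2 1) (Pi.single i 1) y l) hx
        rw [LinearMap.sub_apply] at this
        rw [show f (Pi.single p.2 1) x y = 0 from this, map_zero, smul_zero]
      · refine Finset.sum_eq_zero fun p _ => ?_
        have := vanish hI (m (m (Pi.single p.2 1) z) - m (Pi.single p.2 1) ∘ₗ m z)
          (fun i l => hf (Pi.single p.2 1) z (Pi.single i 1) l) hx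
        rw [LinearMap.sub_apply] at this
        rw [show f (Pi.single p.2 1) z x = 0 from this, map_zero, smul_zero]
    have hgI : ∀ x y i, g x y i ∈ I := fun x y i => hLinI _ _ _ _
    have hadd : ∀ a₁ a₂ b₁, g (a₁ + a₂) b₁ = g a₁ b₁ + g a₂ b₁ ∧ g b₁ (a₁ + a₂) = g b₁ a₁ + g b₁ a₂ := by
      intro a₁ a₂ b₁
      constructor
      · have e1 := hg (a₁ + a₂) b₁
        rw [map_add, LinearMap.add_apply, map_add, LinearMap.add_apply, hg, hg] at e1
        linear_combination (norm := abel) -e1
      · have e1 := hg b₁ (a₁ + a₂)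
        rw [map_add, map_add, hg, hg] at e1
        linear_combination (norm := abel) -e1
    rw [hg a b, hg b d, hg, hg, (hadd (m a b) (g a b) d).1, (hadd (m b d) (g b d) a).2,
      (hgg (g a b) d a (hgI a b)).1, (hgg (g b d) d a (hgI b d)).2, add_zero, add_zero, map_add, LinearMap.add_apply,
      map_add]
    have := hδ a b d
    simp only [f] at this
    linear_combination (norm := abel) -this
  have hv' : ∀ a l, mulBil c' v a l - a l ∈ I ∧ mulBil c' a v l - a l ∈ I := fun a l => by
    rw [hg, hg]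
    refine ⟨?_, ?_⟩
    · rw [Pi.add_apply, add_sub_right_comm]
      exact add_mem (hv1 a l) (hLinI _ _ _ _)
    · rw [Pi.add_apply, add_sub_right_comm]
      refine add_mem ?_ (hLinI _ _ _ _)
      rw [← Ideal.Quotient.eq_zero_iff_mem, map_sub, sub_eq_zero]
      have := congrFun (hred a v) l
      rw [show φ ∘ v = u₀ from funext hv, h.mul_one'] at this
      exact this
  obtain ⟨e, he, he'⟩ := exists_unit_of_assoc (mulBil c') hassoc v
    (bijective_of_congr_id hI _ fun a l => (hv' a l).1) (bijective_of_congr_id hI _ fun a l => (hv' a l).2)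
  refine ⟨c', e, ⟨fun i j k => hassoc _ _ _, fun i => he _, fun i => he' _, ?_⟩, hc', fun l => ?_⟩
  · haveI hloc : IsUnit (φ (dmat c').det) := by
      rw [RingHom.map_det]
      show IsUnit ((dmat c').map φ).det
      rw [map_dmat, show (fun i j l => φ (c' i j l)) = c₀ from funext₃ hc']
      exact h.det
    obtain ⟨w, hw⟩ := Ideal.Quotient.mk_surjective (↑hloc.unit⁻¹ : S ⧸ I)
    have h1 : IsNilpotent ((dmat c').det * w - 1) := ⟨2, by
      have hmem : (dmat c').det * w - 1 ∈ I := by
        rw [← Ideal.Quotient.eq_zero_iff_mem, map_sub, map_mul, hw, map_one, IsUnit.mul_val_inv, sub_self]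
      have := Ideal.pow_mem_pow hmem 2
      rwa [hI, Submodule.mem_bot] at this⟩
    exact isUnit_of_mul_isUnit_left (y := w) (by simpa using h1.isUnit_one_add)
  · have h1 := congrFun (map_mulBil φ c' v e) l
    rw [he', Function.comp_apply, show (fun i j l => φ (c' i j l)) = c₀ from funext₃ hc',
      show φ ∘ v = u₀ from funext hv, h.one_mul'] at h1
    rw [← hv l, h1]
    rfl

end basic


section universal

variable (ι) (S : Type u) [CommRing S]

/-- Variables: structure constants, unit, inverse determinant. -/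
abbrev Var := (ι × ι × ι) ⊕ (ι ⊕ Unit)

noncomputable def gC : ι → ι → ι → MvPolynomial (Var ι) S := fun i j l => X (Sum.inl (i, j, l))

noncomputable def gU : ι → MvPolynomial (Var ι) S := fun l => X (Sum.inr (Sum.inl l))

/-- Defining equations. -/
noncomputable def rels : Set (MvPolynomial (Var ι) S) :=
  Set.range (fun p : ι × ι × ι × ι => (mulBil (gC ι S) (mulBil (gC ι S) (Pi.single p.1 1) (Pi.single p.2.1 1))
      (Pi.single p.2.2.1 1) - mulBil (gC ι S) (Pi.single p.1 1) (mulBil (gC ι S) (Pi.single p.2.1 1)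
      (Pi.single p.2.2.1 1))) p.2.2.2) ∪
  Set.range (fun p : ι × ι => (mulBil (gC ι S) (gU ι S) (Pi.single p.1 1) - (Pi.single p.1 1 : ι → MvPolynomial (Var ι) S)) p.2) ∪
  Set.range (fun p : ι × ι => (mulBil (gC ι S) (Pi.single p.1 1) (gU ι S) - (Pi.single p.1 1 : ι → MvPolynomial (Var ι) S)) p.2) ∪
  {X (Sum.inr (Sum.inr ())) * (dmat (gC ι S)).det - 1}

/-- The coordinate ring of the scheme of Azumaya algebra structures. -/
abbrev Univ := MvPolynomial (Var ι) S ⧸ Ideal.span (rels ι S)

noncomputable def uC : ι → ι → ι → Univ ι S := fun i j l => Ideal.Quotient.mk _ (gC ι S i j l)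

noncomputable def uU : ι → Univ ι S := fun l => Ideal.Quotient.mk _ (gU ι S l)

theorem isAz_univ : IsAz (uC ι S) (uU ι S) := by
  set π := Ideal.Quotient.mk (Ideal.span (rels ι S))
  have hmem : ∀ x ∈ rels ι S, π x = 0 := fun x hx => Ideal.Quotient.eq_zero_iff_mem.mpr (Ideal.subset_span hx)
  have hC : uC ι S = fun i j l => π (gC ι S i j l) := rfl
  refine ⟨fun i j k => funext fun l => ?_, fun i => funext fun l => ?_, fun i => funext fun l => ?_, ?_⟩
  · have := hmem _ (Or.inl (Or.inl (Or.inl ⟨(i, j, k, l), rfl⟩)))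
    simp only [Pi.sub_apply, map_sub, sub_eq_zero] at this
    have h1 := congrFun (map_mulBil π (gC ι S) (mulBil (gC ι S) (Pi.single i 1) (Pi.single j 1)) (Pi.single k 1)) l
    have h2 := congrFun (map_mulBil π (gC ι S) (Pi.single i 1) (mulBil (gC ι S) (Pi.single j 1) (Pi.single k 1))) l
    simp only [Function.comp_apply, map_mulBil, map_single, ← hC] at h1 h2
    rw [← h1, ← h2, this]
  · have := hmem _ (Or.inl (Or.inl (Or.inr ⟨(i, l), rfl⟩)))
    simp only [Pi.sub_apply, map_sub, sub_eq_zero] at this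
    have h1 := congrFun (map_mulBil π (gC ι S) (gU ι S) (Pi.single i 1)) l
    simp only [Function.comp_apply, map_single, ← hC] at h1
    rw [show uU ι S = π ∘ gU ι S from rfl, ← h1, this]
    exact congrFun (map_single π i) l
  · have := hmem _ (Or.inl (Or.inr ⟨(i, l), rfl⟩))
    simp only [Pi.sub_apply, map_sub, sub_eq_zero] at this
    have h1 := congrFun (map_mulBil π (gC ι S) (Pi.single i 1) (gU ι S)) l
    simp only [Function.comp_apply, map_single, ← hC] at h1
    rw [show uU ι S = π ∘ gU ι S from rfl, ← h1, this]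
    exact congrFun (map_single π i) l
  · have := hmem _ (Or.inr rfl)
    rw [map_sub, map_one, sub_eq_zero, map_mul, RingHom.map_det] at this
    rw [hC, ← map_dmat]
    exact isUnit_of_mul_isUnit_right (x := π (X (Sum.inr (Sum.inr ())))) (by
      rw [show ((dmat (gC ι S)).map π).det = (π.mapMatrix (dmat (gC ι S))).det from rfl, this]; exact isUnit_one)

variable {ι S}

theorem exists_algHom_univ {B : Type u} [CommRing B] [Algebra S B] {c : ι → ι → ι → B} {u : ι → B} (h : IsAz c u) :
    ∃ φ : Univ ι S →ₐ[S] B, (∀ i j l, φ (uC ι S i j l) = c i j l) ∧ ∀ l, φ (uU ι S l) = u l := by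
  let ψ : MvPolynomial (Var ι) S →ₐ[S] B :=
    aeval (Sum.elim (fun p => c p.1 p.2.1 p.2.2) (Sum.elim u fun _ => ↑h.det.unit⁻¹))
  have hC : (fun i j l => ψ.toRingHom (gC ι S i j l)) = c := by
    funext i j l; simp [ψ, gC]
  have hU : ψ.toRingHom ∘ gU ι S = u := by
    funext l; simp [ψ, gU]
  have hker : Ideal.span (rels ι S) ≤ RingHom.ker ψ.toRingHom := by
    rw [Ideal.span_le]
    rintro x (((⟨⟨i, j, k, l⟩, rfl⟩ | ⟨⟨i, l⟩, rfl⟩) | ⟨⟨i, l⟩, rfl⟩) | rfl) <;>
      simp only [SetLike.mem_coe, RingHom.mem_ker, Pi.sub_apply, map_sub, sub_eq_zero]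
    · have h1 := congrFun (map_mulBil ψ.toRingHom (gC ι S) (mulBil (gC ι S) (Pi.single i 1) (Pi.single j 1)) (Pi.single k 1)) l
      have h2 := congrFun (map_mulBil ψ.toRingHom (gC ι S) (Pi.single i 1) (mulBil (gC ι S) (Pi.single j 1) (Pi.single k 1))) l
      simp only [Function.comp_apply, map_mulBil, map_single, hC] at h1 h2
      rw [h1, h2, h.assoc']
    · have h1 := congrFun (map_mulBil ψ.toRingHom (gC ι S) (gU ι S) (Pi.single i 1)) l
      simp only [Function.comp_apply, map_single, hC, hU] at h1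
      rw [h1, h.one_mul]
      exact (congrFun (map_single ψ.toRingHom i) l).symm
    · have h1 := congrFun (map_mulBil ψ.toRingHom (gC ι S) (Pi.single i 1) (gU ι S)) l
      simp only [Function.comp_apply, map_single, hC, hU] at h1
      rw [h1, h.mul_one]
      exact (congrFun (map_single ψ.toRingHom i) l).symm
    · rw [map_one, map_mul, RingHom.map_det]
      show ψ (X (Sum.inr (Sum.inr ()))) * ((dmat (gC ι S)).map ψ.toRingHom).det = 1
      rw [map_dmat, hC]
      simp [ψ]
  refine ⟨Ideal.Quotient.liftₐ _ ψ fun x hx => hker hx, fun i j l => ?_, fun l => ?_⟩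
  · exact congrFun (congrFun (congrFun hC i) j) l
  · exact congrFun hU l

theorem algHom_univ_ext {B : Type u} [CommRing B] [Algebra S B] {φ ψ : Univ ι S →ₐ[S] B}
    (hc : ∀ i j l, φ (uC ι S i j l) = ψ (uC ι S i j l)) (hu : ∀ l, φ (uU ι S l) = ψ (uU ι S l)) : φ = ψ := by
  refine Ideal.Quotient.algHom_ext S (MvPolynomial.algHom_ext fun v => ?_)
  rcases v with ⟨i, j, l⟩ | l | ⟨⟩
  · exact hc i j l
  · exact hu l
  · -- the inverse of the determinant is determined
    have hd : ∀ χ : Univ ι S →ₐ[S] B, χ (Ideal.Quotient.mk _ (X (Sum.inr (Sum.inr ())))) *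
        (dmat fun i j l => χ (uC ι S i j l)).det = 1 := fun χ => by
      have h1 : Ideal.Quotient.mk (Ideal.span (rels ι S)) (X (Sum.inr (Sum.inr ())) * (dmat (gC ι S)).det - 1) = 0 :=
        Ideal.Quotient.eq_zero_iff_mem.mpr (Ideal.subset_span (Or.inr rfl))
      rw [map_sub, map_one, sub_eq_zero, map_mul, RingHom.map_det] at h1
      rw [show (dmat fun i j l => χ (uC ι S i j l)) = (dmat (uC ι S)).map χ.toRingHom from (map_dmat _ _).symm]
      have h2 := congrArg χ h1
      rw [map_mul, map_one, AlgHom.map_det] at h2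
      rw [← h2]
      congr 1
      rw [show uC ι S = fun i j l => Ideal.Quotient.mk _ (gC ι S i j l) from rfl, ← map_dmat]
      rfl
    have hφ := hd φ
    have hψ := hd ψ
    rw [show (fun i j l => φ (uC ι S i j l)) = fun i j l => ψ (uC ι S i j l) from funext₃ hc] at hφ
    exact left_inv_eq_right_inv hφ (by rw [mul_comm]; exact hψ)

instance smooth_univ [Nonempty ι] : Algebra.Smooth S (Univ ι S) := by
  haveI : Algebra.FinitePresentation S (Univ ι S) :=
    Algebra.FinitePresentation.quotient (Submodule.fg_span ((((Set.finite_range _).union (Set.finite_range _)).union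
      (Set.finite_range _)).union (Set.finite_singleton _)))
  haveI : Algebra.FormallySmooth S (Univ ι S) := Algebra.FormallySmooth.of_comp_surjective fun B _ _ I hI σ => by
    have hσ : IsAz (fun i j l => σ (uC ι S i j l)) (σ.toRingHom ∘ uU ι S) := by
      have h := isAz_univ ι S
      refine ⟨fun i j k => ?_, fun i => ?_, fun i => ?_, ?_⟩
      · have := congrArg (σ.toRingHom ∘ ·) (h.assoc i j k)
        simp only [map_mulBil, map_single] at this
        exact this
      · have := congrArg (σ.toRingHom ∘ ·) (h.one_mul i)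
        simp only [map_mulBil, map_single] at this
        exact this
      · have := congrArg (σ.toRingHom ∘ ·) (h.mul_one i)
        simp only [map_mulBil, map_single] at this
        exact this
      · have := h.det.map σ.toRingHom
        rwa [RingHom.map_det, RingHom.mapMatrix_apply, map_dmat] at this
    obtain ⟨c, u, hcu, hc, hu⟩ := exists_lift hI _ _ hσ
    obtain ⟨φ, hφc, hφu⟩ := exists_algHom_univ (S := S) hcu
    exact ⟨φ, algHom_univ_ext (fun i j l => (congrArg _ (hφc i j l)).trans (hc i j l))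
      (fun l => (congrArg _ (hφu l)).trans (hu l))⟩
  exact ⟨inferInstance, inferInstance⟩

end universal

end Groth.Agent.CSA.StrConst
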