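import Mathlib
import Groth.Agent.CSA.StructureConstants
import Groth.Agent.CSA.Azumaya
import Groth.Agent.HenselLib.Lift

/-!
# Lifting central simple algebras over henselian local rings
-/

universe u

open scoped TensorProduct
open IsLocalRing

namespace Groth.Agent.CSA

set_option linter.style.haveILetI false

open StrConst

variable {ι : Type} [Fintype ι] [DecidableEq ι]

/-- The algebra with given structure constants. -/
def OfConst {S : Type u} [CommRing S] {c : ι → ι → ι → S} {u : ι → S} (_ : IsAz c u) : Type u := ι → S

namespace OfConst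

variable {S : Type u} [CommRing S] {c : ι → ι → ι → S} {u : ι → S} (h : IsAz c u)

noncomputable instance : AddCommGroup (OfConst h) := inferInstanceAs (AddCommGroup (ι → S))
noncomputable instance : Module S (OfConst h) := inferInstanceAs (Module S (ι → S))

noncomputable instance : Mul (OfConst h) := ⟨fun a b => mulBil c a b⟩
noncomputable instance : One (OfConst h) := ⟨u⟩

noncomputable instance : Ring (OfConst h) :=
  { (inferInstance : AddCommGroup (OfConst h)) with
    mul := fun a b => mulBil c a b
    one := u
    left_distrib := fun a b d => (mulBil c a).map_add b d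
    right_distrib := fun a b d => LinearMap.map_add₂ (mulBil c) a b d
    zero_mul := fun a => LinearMap.map_zero₂ (mulBil c) a
    mul_zero := fun a => (mulBil c a).map_zero
    mul_assoc := fun a b d => h.assoc' a b d
    one_mul := fun a => h.one_mul' a
    mul_one := fun a => h.mul_one' a }

noncomputable instance : Algebra S (OfConst h) :=
  Algebra.ofModule (fun r a b => LinearMap.map_smul₂ (mulBil c) r a b) (fun r a b => (mulBil c a).map_smul r b)

/-- The tautological basis. -/
noncomputable def basis : Module.Basis ι S (OfConst h) := Pi.basisFun S ι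

theorem basis_mul (i j : ι) : basis h i * basis h j = ∑ l, c i j l • basis h l := by
  show mulBil c (Pi.basisFun S ι i) (Pi.basisFun S ι j) = ∑ l, c i j l • Pi.basisFun S ι l
  rw [Pi.basisFun_apply, Pi.basisFun_apply, mulBil_single]
  simp only [Pi.basisFun_apply]
  exact pi_eq_sum_univ' _

theorem isAzumaya [Nonempty ι] : IsAzumaya S (OfConst h) where
  toProjective := Module.Projective.of_basis (basis h)
  toFaithfulSMul := ⟨fun {a b} hab => by
    obtain ⟨i⟩ := ‹Nonempty ι›
    have h1 := congrArg (fun z => (basis h).repr z i) (hab (basis h i))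
    simpa using h1⟩
  toFinite := Module.Finite.of_basis (basis h)
  bij := by
    let bT := (basis h).tensorProduct ((basis h).map (MulOpposite.opLinearEquiv S))
    have hM : ⇑(AlgHom.mulLeftRight S (OfConst h)) =
        (sandwich c) ∘ bT.equivFun := by
      funext z
      refine LinearMap.ext fun w => ?_
      refine Eq.trans ?_ (sandwich_apply c (bT.equivFun z) w).symm
      conv_lhs => rw [← bT.sum_equivFun z, map_sum, LinearMap.sum_apply]
      refine Finset.sum_congr rfl fun p _ => ?_
      rw [map_smul, LinearMap.smul_apply, Module.Basis.tensorProduct_apply, Module.Basis.map_apply,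
        AlgHom.mulLeftRight_apply]
      show bT.equivFun z p • mulBil c (mulBil c (Pi.basisFun S ι p.1) w) (Pi.basisFun S ι p.2) = _
      rw [Pi.basisFun_apply, Pi.basisFun_apply]
    rw [hM]
    exact (sandwich_bijective h.det).comp bT.equivFun.bijective

end OfConst

theorem isAz_of_basis {k : Type u} [Field k] {A : Type u} [Ring A] [Algebra k A] [IsAzumaya k A] (b : Module.Basis ι k A) :
    IsAz (fun i j l => b.equivFun (b i * b j) l) (b.equivFun 1) := by
  set c := fun i j l => b.equivFun (b i * b j) l
  have hmul : ∀ x y, mulBil c (b.equivFun x) (b.equivFun y) = b.equivFun (x * y) := by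
    intro x y
    conv_rhs => rw [← b.sum_equivFun x, ← b.sum_equivFun y, Finset.sum_mul, map_sum]
    funext l
    simp only [mulBil_apply, Finset.sum_apply, Finset.mul_sum, map_sum, smul_mul_smul_comm, map_smul, Pi.smul_apply,
      smul_eq_mul, c]
  have hs : ∀ i, b.equivFun (b i) = Pi.single i 1 := fun i => by
    funext j; rw [b.equivFun_self]; simp [Pi.single_apply, eq_comm]
  refine ⟨fun i j l => by rw [← hs, ← hs, ← hs, hmul, hmul, hmul, hmul, mul_assoc],
    fun i => by rw [← hs, hmul, one_mul], fun i => by rw [← hs, hmul, mul_one], ?_⟩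
  let bT := b.tensorProduct (b.map (MulOpposite.opLinearEquiv k))
  have hinj : ∀ Z, sandwich c Z = 0 → Z = 0 := by
    intro Z hZ
    obtain ⟨z, rfl⟩ := bT.equivFun.surjective Z
    suffices z = 0 by rw [this, map_zero]
    apply (IsAzumaya.bij (R := k) (A := A)).1
    rw [map_zero]
    refine LinearMap.ext fun x => b.equivFun.injective ?_
    have h1 := LinearMap.congr_fun hZ (b.equivFun x)
    rw [LinearMap.zero_apply, sandwich_apply] at h1
    rw [LinearMap.zero_apply, map_zero, ← h1]
    conv_lhs => rw [← bT.sum_equivFun z]
    rw [map_sum, LinearMap.sum_apply, map_sum]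
    refine Finset.sum_congr rfl fun p _ => ?_
    rw [map_smul, LinearMap.smul_apply, map_smul]
    congr 1
    rw [Module.Basis.tensorProduct_apply, Module.Basis.map_apply, AlgHom.mulLeftRight_apply, ← hs, ← hs, hmul, hmul]
    rfl
  rw [← Matrix.isUnit_iff_isUnit_det, ← Matrix.mulVec_injective_iff_isUnit]
  intro Z Z' hZ
  rw [← sub_eq_zero]
  refine hinj _ ((Pi.basisFun k ι).ext fun w => funext fun l => ?_)
  rw [Pi.basisFun_apply, LinearMap.zero_apply, sandwich_single, Matrix.mulVec_sub, Pi.sub_apply, hZ, sub_self,
    Pi.zero_apply]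

/-- Every central simple algebra over the residue field of a henselian local ring lifts to an Azumaya algebra. -/
theorem exists_azumaya_lift (R : Type u) [CommRing R] [HenselianLocalRing R] (A₀ : Type u) [Ring A₀]
    [Algebra (ResidueField R) A₀] [IsAzumaya (ResidueField R) A₀] [Nontrivial A₀] :
    ∃ (A : Type u) (_ : Ring A) (_ : Algebra R A), IsAzumaya R A ∧
      Nonempty ((ResidueField R ⊗[R] A) ≃ₐ[ResidueField R] A₀) := by
  classical
  set k := ResidueField R
  let b : Module.Basis (Fin (Module.finrank k A₀)) k A₀ := Module.finBasis k A₀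
  haveI : Nonempty (Fin (Module.finrank k A₀)) := Fin.pos_iff_nonempty.mp Module.finrank_pos
  obtain ⟨σ, hσc, hσu⟩ := exists_algHom_univ (S := R) (B := k) (isAz_of_basis b)
  obtain ⟨τ, hτ⟩ := Groth.Agent.HenselLib.exists_lift_of_smooth (maximalIdeal R) σ
  set c := fun i j l => τ (uC (Fin (Module.finrank k A₀)) R i j l)
  have h : IsAz c (τ.toRingHom ∘ uU (Fin (Module.finrank k A₀)) R) := by
    have h := isAz_univ (Fin (Module.finrank k A₀)) R
    refine ⟨fun i j l => ?_, fun i => ?_, fun i => ?_, ?_⟩
    · have := congrArg (τ.toRingHom ∘ ·) (h.assoc i j l)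
      simp only [map_mulBil, map_single] at this
      exact this
    · have := congrArg (τ.toRingHom ∘ ·) (h.one_mul i)
      simp only [map_mulBil, map_single] at this
      exact this
    · have := congrArg (τ.toRingHom ∘ ·) (h.mul_one i)
      simp only [map_mulBil, map_single] at this
      exact this
    · have := h.det.map τ.toRingHom
      rwa [RingHom.map_det, RingHom.mapMatrix_apply, map_dmat] at this
  refine ⟨OfConst h, inferInstance, inferInstance, OfConst.isAzumaya h, ?_⟩
  letI : Algebra R A₀ := Algebra.compHom A₀ (residue R)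
  haveI : IsScalarTower R k A₀ := IsScalarTower.of_algebraMap_eq fun _ => rfl
  let f : OfConst h →ₗ[R] A₀ := (OfConst.basis h).constr R b
  have hfb : ∀ i, f (OfConst.basis h i) = b i := fun i => Module.Basis.constr_basis _ R b i
  have hres : ∀ i j l, algebraMap R k (c i j l) = b.equivFun (b i * b j) l := fun i j l => by
    rw [← hσc i j l, ← hτ]; rfl
  have hmul : ∀ x y, f (x * y) = f x * f y := by
    refine (LinearMap.map_mul_iff f).mpr ((OfConst.basis h).ext fun i => (OfConst.basis h).ext fun j => ?_)
    simp only [LinearMap.compr₂_apply, LinearMap.compl₂_apply, LinearMap.comp_apply, LinearMap.mul_apply', hfb]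
    rw [OfConst.basis_mul, map_sum]
    conv_rhs => rw [← b.sum_equivFun (b i * b j)]
    exact Finset.sum_congr rfl fun l _ => by rw [map_smul, hfb, ← algebraMap_smul k, hres]
  have hone : f 1 = 1 := by
    conv_lhs => rw [← (OfConst.basis h).sum_equivFun 1, map_sum]
    conv_rhs => rw [← b.sum_equivFun 1]
    refine Finset.sum_congr rfl fun l _ => ?_
    rw [map_smul, hfb, ← algebraMap_smul k]
    congr 1
    rw [← hσu l, ← hτ]
    rfl
  let F : OfConst h →ₐ[R] A₀ := AlgHom.ofLinearMap f hone hmul
  let Φ : k ⊗[R] OfConst h →ₐ[k] A₀ := Algebra.TensorProduct.lift (Algebra.ofId k A₀) F fun r a => Algebra.commutes r _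
  have hΦ : ⇑Φ = ⇑(((OfConst.basis h).baseChange k).equiv b (Equiv.refl _)) := by
    have : Φ.toLinearMap = (((OfConst.basis h).baseChange k).equiv b (Equiv.refl _)).toLinearMap := by
      refine ((OfConst.basis h).baseChange k).ext fun i => ?_
      rw [LinearEquiv.coe_coe, Module.Basis.equiv_apply, Module.Basis.baseChange_apply, AlgHom.toLinearMap_apply,
        Equiv.refl_apply]
      exact (Algebra.TensorProduct.lift_tmul _ _ _ _ _).trans (by rw [map_one, one_mul]; exact hfb i)
    funext z
    exact LinearMap.congr_fun this z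
  exact ⟨AlgEquiv.ofBijective Φ (hΦ ▸ LinearEquiv.bijective _)⟩

end Groth.Agent.CSA
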