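import Groth.Agent.CSA.Splitting
import Mathlib.RingTheory.PiTensorProduct
import Mathlib.LinearAlgebra.TensorPower.Basic
import Mathlib.LinearAlgebra.Matrix.ToLin

/-!
# Brauer equivalence of central simple algebras, the index, tensor powers
-/

namespace Groth.Agent.CSA

set_option linter.style.haveILetI false

open scoped TensorProduct
open TensorProduct

variable (k : Type*) [Field k]

/-- `A` is a finite dimensional central simple algebra. -/
class IsCSA (A : Type*) [Ring A] [Algebra k A] : Prop where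
  [central : Algebra.IsCentral k A]
  [simple : IsSimpleRing A]
  [finite : FiniteDimensional k A]

attribute [instance] IsCSA.central IsCSA.simple IsCSA.finite

section basics

variable {k} {A B : Type*} [Ring A] [Algebra k A] [Ring B] [Algebra k B]

theorem IsCSA.congr [IsCSA k A] (e : A ≃ₐ[k] B) : IsCSA k B :=
  { central := isCentral_of_algEquiv k e
    simple := IsSimpleRing.of_ringEquiv e.toRingEquiv inferInstance
    finite := Module.Finite.equiv e.toLinearEquiv }

instance [IsCSA k A] [IsCSA k B] : IsCSA k (A ⊗[k] B) := {}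

instance [IsCSA k A] : IsCSA k Aᵐᵒᵖ :=
  { finite := Module.Finite.equiv (MulOpposite.opLinearEquiv k) }

instance : IsCSA k k := {}

instance [IsCSA k A] (ι : Type*) [Fintype ι] [DecidableEq ι] [Nonempty ι] :
    IsCSA k (Matrix ι ι A) := {}

theorem IsCSA.of_matrix (n : ℕ) [NeZero n] [IsCSA k (Matrix (Fin n) (Fin n) A)] : IsCSA k A := by
  haveI : Nonempty (Fin n) := ⟨0⟩
  haveI : IsSimpleRing (A ⊗[k] Matrix (Fin n) (Fin n) k) :=
    IsSimpleRing.of_ringEquiv (matrixEquivTensor (Fin n) k A).toRingEquiv inferInstance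
  haveI := isCentral_of_matrix k (D := A) (ι := Fin n)
  haveI := isSimpleRing_of_tensorProduct k (A := A) (B := Matrix (Fin n) (Fin n) k)
  haveI : FiniteDimensional k A := Module.Finite.of_surjective
    (Matrix.entryLinearMap k A (0 : Fin n) (0 : Fin n)) fun a => ⟨fun _ _ => a, rfl⟩
  exact {}

instance (L : Type*) [Field L] [Algebra k L] [IsCSA k A] : IsCSA L (L ⊗[k] A) := {}

theorem exists_sq_eq_finrank' [IsCSA k A] : ∃ n, 0 < n ∧ n ^ 2 = Module.finrank k A :=
  exists_sq_eq_finrank k A

end basics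

/-- Two algebras are Brauer equivalent. -/
def BrEq (A B : Type*) [Ring A] [Algebra k A] [Ring B] [Algebra k B] : Prop :=
  ∃ n m : ℕ, n ≠ 0 ∧ m ≠ 0 ∧ Nonempty (Matrix (Fin n) (Fin n) A ≃ₐ[k] Matrix (Fin m) (Fin m) B)

variable {A B C : Type*} [Ring A] [Algebra k A] [Ring B] [Algebra k B] [Ring C] [Algebra k C]

/-- `Mₙ(Mₘ(A)) ≅ Mₙₘ(A)`. -/
noncomputable def matMatEquiv (A : Type*) [Ring A] [Algebra k A] (n m : ℕ) :
    Matrix (Fin n) (Fin n) (Matrix (Fin m) (Fin m) A) ≃ₐ[k] Matrix (Fin (n * m)) (Fin (n * m)) A :=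
  (Matrix.compAlgEquiv (Fin n) (Fin m) A k).trans (Matrix.reindexAlgEquiv k A finProdFinEquiv)

/-- `M₁(A) ≅ A`. -/
noncomputable def matOneEquiv (A : Type*) [Ring A] [Algebra k A] :
    A ≃ₐ[k] Matrix (Fin 1) (Fin 1) A :=
  AlgEquiv.ofBijective (Matrix.scalarAlgHom (Fin 1) k) ⟨fun a b h => Matrix.scalar_inj.1 h,
    fun M => ⟨M 0 0, Matrix.ext fun i j => by
      rw [Subsingleton.elim i 0, Subsingleton.elim j 0]; simp⟩⟩

theorem BrEq.of_algEquiv (e : A ≃ₐ[k] B) : BrEq k A B :=
  ⟨1, 1, one_ne_zero, one_ne_zero, ⟨e.mapMatrix⟩⟩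

theorem BrEq.refl (A : Type*) [Ring A] [Algebra k A] : BrEq k A A := .of_algEquiv k AlgEquiv.refl

theorem BrEq.matrix (A : Type*) [Ring A] [Algebra k A] {n : ℕ} (hn : n ≠ 0) :
    BrEq k A (Matrix (Fin n) (Fin n) A) :=
  ⟨n, 1, hn, one_ne_zero, ⟨matOneEquiv k _⟩⟩

variable {k}

theorem BrEq.symm (h : BrEq k A B) : BrEq k B A :=
  let ⟨n, m, hn, hm, ⟨e⟩⟩ := h
  ⟨m, n, hm, hn, ⟨e.symm⟩⟩

theorem BrEq.trans (h : BrEq k A B) (h' : BrEq k B C) : BrEq k A C := by
  obtain ⟨n, m, hn, hm, ⟨e⟩⟩ := h
  obtain ⟨p, q, hp, hq, ⟨f⟩⟩ := h'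
  refine ⟨p * n, m * q, Nat.mul_ne_zero hp hn, Nat.mul_ne_zero hm hq, ⟨?_⟩⟩
  exact (matMatEquiv k A p n).symm.trans <| e.mapMatrix.trans <| (matMatEquiv k B p m).trans <|
    (Matrix.reindexAlgEquiv k B (finCongr (Nat.mul_comm p m))).trans <|
      (matMatEquiv k B m p).symm.trans <| f.mapMatrix.trans (matMatEquiv k C m q)

/-- `Mₙ(A) ⊗ B ≅ Mₙ(A ⊗ B)`. -/
theorem nonempty_matrix_tensor (A B : Type*) [Ring A] [Algebra k A] [Ring B] [Algebra k B] (n : ℕ) :
    Nonempty (Matrix (Fin n) (Fin n) A ⊗[k] B ≃ₐ[k] Matrix (Fin n) (Fin n) (A ⊗[k] B)) :=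
  ⟨(Algebra.TensorProduct.congr (matrixEquivTensor (Fin n) k A) AlgEquiv.refl).trans <|
    (Algebra.TensorProduct.assoc k k k A (Matrix (Fin n) (Fin n) k) B).trans <|
      (Algebra.TensorProduct.congr AlgEquiv.refl (Algebra.TensorProduct.comm k _ B)).trans <|
        (Algebra.TensorProduct.assoc k k k A B (Matrix (Fin n) (Fin n) k)).symm.trans
          (matrixEquivTensor (Fin n) k (A ⊗[k] B)).symm⟩

theorem BrEq.tensor_right (h : BrEq k A B) (C : Type*) [Ring C] [Algebra k C] :
    BrEq k (A ⊗[k] C) (B ⊗[k] C) := by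
  obtain ⟨n, m, hn, hm, ⟨e⟩⟩ := h
  obtain ⟨a⟩ := nonempty_matrix_tensor (k := k) A C n
  obtain ⟨b⟩ := nonempty_matrix_tensor (k := k) B C m
  exact ⟨n, m, hn, hm, ⟨a.symm.trans <| (Algebra.TensorProduct.congr e AlgEquiv.refl).trans b⟩⟩

theorem BrEq.tensor_comm (A B : Type*) [Ring A] [Algebra k A] [Ring B] [Algebra k B] :
    BrEq k (A ⊗[k] B) (B ⊗[k] A) :=
  .of_algEquiv k (Algebra.TensorProduct.comm k A B)

theorem BrEq.tensor_assoc (A B C : Type*) [Ring A] [Algebra k A] [Ring B] [Algebra k B] [Ring C]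
    [Algebra k C] : BrEq k ((A ⊗[k] B) ⊗[k] C) (A ⊗[k] (B ⊗[k] C)) :=
  .of_algEquiv k (Algebra.TensorProduct.assoc k k k A B C)

theorem BrEq.tensor_left (h : BrEq k A B) (C : Type*) [Ring C] [Algebra k C] :
    BrEq k (C ⊗[k] A) (C ⊗[k] B) :=
  (BrEq.tensor_comm C A).trans ((h.tensor_right C).trans (BrEq.tensor_comm B C))

theorem BrEq.tensor {A' B' : Type*} [Ring A'] [Algebra k A'] [Ring B'] [Algebra k B']
    (h : BrEq k A B) (h' : BrEq k A' B') : BrEq k (A ⊗[k] A') (B ⊗[k] B') :=
  (h.tensor_right A').trans (h'.tensor_left B)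

theorem BrEq.one_tensor (A : Type*) [Ring A] [Algebra k A] : BrEq k (k ⊗[k] A) A :=
  .of_algEquiv k (Algebra.TensorProduct.lid k A)

theorem BrEq.tensor_one (A : Type*) [Ring A] [Algebra k A] : BrEq k (A ⊗[k] k) A :=
  (BrEq.tensor_comm A k).trans (BrEq.one_tensor A)

theorem BrEq.tensor_op (A : Type*) [Ring A] [Algebra k A] [IsCSA k A] :
    BrEq k (A ⊗[k] Aᵐᵒᵖ) k := by
  have hn : Module.finrank k A ≠ 0 := Module.finrank_pos.ne'
  refine ⟨1, Module.finrank k A, one_ne_zero, hn, ⟨?_⟩⟩
  exact (matOneEquiv k _).symm.trans <| (AlgEquiv.ofBijective _ (mulLeftRight_bijective k A)).trans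
    (algEquivMatrix (Module.finBasis k A))

theorem BrEq.op_tensor (A : Type*) [Ring A] [Algebra k A] [IsCSA k A] :
    BrEq k (Aᵐᵒᵖ ⊗[k] A) k :=
  (BrEq.tensor_comm _ _).trans (BrEq.tensor_op A)

theorem BrEq.cancel_right {C : Type*} [Ring C] [Algebra k C] [IsCSA k C]
    (h : BrEq k (A ⊗[k] C) (B ⊗[k] C)) : BrEq k A B := by
  have h2 := h.tensor_right Cᵐᵒᵖ
  have hA : ∀ (A : Type _) [Ring A] [Algebra k A], BrEq k ((A ⊗[k] C) ⊗[k] Cᵐᵒᵖ) A := fun A _ _ =>
    (BrEq.tensor_assoc A C Cᵐᵒᵖ).trans (((BrEq.tensor_op (k := k) C).tensor_left A).trans (BrEq.tensor_one A))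
  exact (hA A).symm.trans (h2.trans ((BrEq.tensor_assoc B C Cᵐᵒᵖ).trans
    (((BrEq.tensor_op (k := k) C).tensor_left B).trans (BrEq.tensor_one B))))

/-- Brauer equivalence is stable under base change. -/
theorem BrEq.baseChange [IsCSA k A] [IsCSA k B] (h : BrEq k A B) (L : Type*) [Field L]
    [Algebra k L] : BrEq L (L ⊗[k] A) (L ⊗[k] B) := by
  obtain ⟨n, m, hn, hm, ⟨e⟩⟩ := h
  haveI : NeZero n := ⟨hn⟩
  haveI : NeZero m := ⟨hm⟩
  obtain ⟨a⟩ := nonempty_baseChange_matrix_algEquiv k A n L
  obtain ⟨b⟩ := nonempty_baseChange_matrix_algEquiv k B m L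
  exact ⟨n, m, hn, hm, ⟨a.symm.trans ((Algebra.TensorProduct.congr AlgEquiv.refl e).trans b)⟩⟩

/-- The size of a matrix algebra inside a matrix algebra over a division ring. -/
theorem le_of_ringHom_matrix {R D : Type*} [Ring R] [Nontrivial R] [DivisionRing D] {n m : ℕ}
    (f : Matrix (Fin n) (Fin n) R →+* Matrix (Fin m) (Fin m) D) (hf : Function.Injective f) :
    n ≤ m := by
  classical
  let P : Fin n → Matrix (Fin m) (Fin m) D := fun i => f (Matrix.single i i 1)
  have hP : ∀ i, ∃ v : Fin m → D, Matrix.vecMul v (P i) ≠ 0 := by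
    intro i
    by_contra hall
    push Not at hall
    have h0 : P i = 0 := Matrix.ext fun r c => by
      simpa using congrFun (hall (Pi.single r 1)) c
    have := congrFun (congrFun (hf (h0.trans (map_zero f).symm)) i) i
    simp at this
  choose v hv using hP
  have hmul : ∀ i j, Matrix.vecMul (Matrix.vecMul (v i) (P i)) (P j) =
      if i = j then Matrix.vecMul (v i) (P i) else 0 := by
    intro i j
    rw [Matrix.vecMul_vecMul, ← map_mul]
    split_ifs with h
    · subst h; rw [Matrix.single_mul_single_same, one_mul]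
    · rw [Matrix.single_mul_single_of_ne _ _ _ _ h, map_zero, Matrix.vecMul_zero]
  have hli : LinearIndependent D fun i => Matrix.vecMul (v i) (P i) := by
    rw [Fintype.linearIndependent_iff]
    intro g hg j
    have := congrArg (fun w => Matrix.vecMul w (P j)) hg
    simp only [Matrix.sum_vecMul, Matrix.smul_vecMul, hmul, smul_ite, smul_zero,
      Finset.sum_ite_eq', Finset.mem_univ, if_true, Matrix.zero_vecMul] at this
    exact (smul_eq_zero.1 this).resolve_right (hv j)
  simpa using hli.fintype_card_le_finrank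

/-- Uniqueness in the Wedderburn theorem. -/
theorem matrix_division_unique {D : Type*} [DivisionRing D] [Algebra k D] [IsCSA k D]
    {D' : Type*} [DivisionRing D'] [Algebra k D'] [IsCSA k D'] {n m : ℕ} (hn : n ≠ 0)
    (e : Matrix (Fin n) (Fin n) D ≃ₐ[k] Matrix (Fin m) (Fin m) D') :
    n = m ∧ Nonempty (D ≃ₐ[k] D') := by
  have h1 : n ≤ m := le_of_ringHom_matrix e.toRingEquiv.toRingHom e.injective
  have h2 : m ≤ n := le_of_ringHom_matrix e.symm.toRingEquiv.toRingHom e.symm.injective
  obtain rfl := le_antisymm h1 h2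
  refine ⟨rfl, ?_⟩
  haveI : NeZero n := ⟨hn⟩
  haveI : Nonempty (Fin n) := ⟨0⟩
  let ι : Matrix (Fin n) (Fin n) k →ₐ[k] Matrix (Fin n) (Fin n) D := (Algebra.ofId k D).mapMatrix
  let ι' : Matrix (Fin n) (Fin n) k →ₐ[k] Matrix (Fin n) (Fin n) D' := (Algebra.ofId k D').mapMatrix
  obtain ⟨u, hu⟩ := skolem_noether k (e.toAlgHom.comp ι) ι'
  let c : D →ₐ[k] Matrix (Fin n) (Fin n) D' :=
    ((conjAlgEquiv k u).toAlgHom.comp e.toAlgHom).comp (Matrix.scalarAlgHom (Fin n) k)
  have hscalar : ∀ a, ∃ a' : D', c a = Matrix.scalar (Fin n) a' := by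
    intro a
    refine Matrix.mem_range_scalar_iff_commute_single'.2 (fun i j => ?_) |>.imp fun _ h => h.symm
    have h1 : Matrix.scalar (Fin n) a * ι (Matrix.single i j 1) =
        ι (Matrix.single i j 1) * Matrix.scalar (Fin n) a := by
      simp [ι, Matrix.scalar_apply, AlgHom.mapMatrix_apply, Matrix.map_single]
      ext p q
      rw [Matrix.diagonal_mul, Matrix.mul_diagonal]
      simp [Matrix.single_apply]
    have h2 : ι' (Matrix.single i j 1) = Matrix.single i j 1 := by
      simp [ι', AlgHom.mapMatrix_apply, Matrix.map_single]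
    have h3 := congrArg (fun M => conjAlgEquiv k u (e M)) h1
    simp only [map_mul] at h3
    rw [← h2, commute_iff_eq, hu]
    exact h3.symm
  choose g hg using hscalar
  have hg' : ∀ a a', c a = Matrix.scalar (Fin n) a' → g a = a' := fun a a' h =>
    Matrix.scalar_inj.1 ((hg a).symm.trans h)
  let f : D →ₐ[k] D' :=
    { toFun := g
      map_one' := hg' _ _ (by simp)
      map_mul' := fun a b => hg' _ _ (by rw [map_mul, map_mul, hg, hg])
      map_zero' := hg' _ _ (by simp)
      map_add' := fun a b => hg' _ _ (by rw [map_add, map_add, hg, hg])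
      commutes' := fun r => hg' _ _ (by rw [c.commutes]; rfl) }
  have hdim : Module.finrank k D = Module.finrank k D' := by
    have := e.toLinearEquiv.finrank_eq
    simp only [Module.finrank_matrix, Fintype.card_fin] at this
    exact Nat.eq_of_mul_eq_mul_left
      (Nat.mul_pos (Nat.pos_of_ne_zero hn) (Nat.pos_of_ne_zero hn)) this
  have hinj : Function.Injective f := RingHom.injective f.toRingHom
  exact ⟨AlgEquiv.ofBijective f
    ⟨hinj, (f.toLinearMap.injective_iff_surjective_of_finrank_eq_finrank hdim).1 hinj⟩⟩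

/-- Brauer equivalent division algebras are isomorphic. -/
theorem BrEq.algEquiv_of_division {D : Type*} [DivisionRing D] [Algebra k D] [IsCSA k D]
    {D' : Type*} [DivisionRing D'] [Algebra k D'] [IsCSA k D'] (h : BrEq k D D') :
    Nonempty (D ≃ₐ[k] D') := by
  obtain ⟨n, m, hn, hm, ⟨e⟩⟩ := h
  exact (matrix_division_unique hn e).2

variable (k)

universe w in
theorem exists_division_brEq (A : Type w) [Ring A] [Algebra k A] [IsCSA k A] :
    ∃ (n : ℕ) (_ : n ≠ 0) (D : Type w) (_ : DivisionRing D) (_ : Algebra k D),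
      IsCSA k D ∧ BrEq k A D ∧ Nonempty (A ≃ₐ[k] Matrix (Fin n) (Fin n) D) := by
  obtain ⟨n, hn, D, _, _, _, _, ⟨e⟩⟩ := exists_algEquiv_matrix_division k (A := A)
  exact ⟨n, NeZero.ne n, D, inferInstance, inferInstance, {},
    (BrEq.of_algEquiv k e).trans (BrEq.matrix k D (NeZero.ne n)).symm, ⟨e⟩⟩

variable {k}

/-- An algebra Brauer equivalent to the field is a matrix algebra. -/
theorem BrEq.exists_matrix {A : Type*} [Ring A] [Algebra k A] [IsCSA k A] (h : BrEq k A k) :
    ∃ n : ℕ, n ≠ 0 ∧ Nonempty (A ≃ₐ[k] Matrix (Fin n) (Fin n) k) := by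
  obtain ⟨n, hn, D, _, _, _, hAD, ⟨e⟩⟩ := exists_division_brEq k A
  obtain ⟨f⟩ := (hAD.symm.trans h).algEquiv_of_division
  exact ⟨n, hn, ⟨e.trans f.mapMatrix⟩⟩

theorem BrEq.of_exists_matrix {A : Type*} [Ring A] [Algebra k A] {n : ℕ} (hn : n ≠ 0)
    (e : A ≃ₐ[k] Matrix (Fin n) (Fin n) k) : BrEq k A k :=
  (BrEq.of_algEquiv k e).trans (BrEq.matrix k k hn).symm

/-- Two central simple algebras of equal dimension which are Brauer equivalent are isomorphic. -/
theorem BrEq.algEquiv_of_finrank_eq {A B : Type*} [Ring A] [Algebra k A] [IsCSA k A] [Ring B]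
    [Algebra k B] [IsCSA k B] (h : BrEq k A B) (hd : Module.finrank k A = Module.finrank k B) :
    Nonempty (A ≃ₐ[k] B) := by
  obtain ⟨n, hn, D, _, _, _, hAD, ⟨e⟩⟩ := exists_division_brEq k A
  obtain ⟨m, hm, D', _, _, _, hBD, ⟨e'⟩⟩ := exists_division_brEq k B
  obtain ⟨f⟩ := (hAD.symm.trans (h.trans hBD)).algEquiv_of_division
  rw [e.toLinearEquiv.finrank_eq, e'.toLinearEquiv.finrank_eq, Module.finrank_matrix,
    Module.finrank_matrix, f.toLinearEquiv.finrank_eq] at hd
  simp only [Fintype.card_fin] at hd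
  have : n * n = m * m := Nat.eq_of_mul_eq_mul_right Module.finrank_pos hd
  obtain rfl : n = m := Nat.mul_self_inj.1 this
  exact ⟨e.trans (f.mapMatrix.trans e'.symm)⟩

section tpow

variable (k)

/-- Tensor powers. -/
abbrev TPow (A : Type*) [Ring A] [Algebra k A] (e : ℕ) := ⨂[k] _ : Fin e, A

/-- The decomposition of a tensor power as an isomorphism of algebras. -/
noncomputable def tpowAdd (A : Type*) [Ring A] [Algebra k A] (n m : ℕ) :
    TPow k A n ⊗[k] TPow k A m ≃ₐ[k] TPow k A (n + m) :=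
  Algebra.TensorProduct.algEquivOfLinearEquivTensorProduct
    (TensorPower.mulEquiv (n := n) (m := m) (R := k) (M := A))
    (fun a₁ a₂ b₁ b₂ => by
      induction a₁ using PiTensorProduct.induction_on with
      | smul_tprod r x =>
        induction a₂ using PiTensorProduct.induction_on with
        | smul_tprod r' y =>
          induction b₁ using PiTensorProduct.induction_on with
          | smul_tprod s z =>
            induction b₂ using PiTensorProduct.induction_on with
            | smul_tprod s' w =>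
              have key : ∀ (x : Fin n → A) (z : Fin m → A),
                  TensorPower.mulEquiv (R := k) (PiTensorProduct.tprod k x ⊗ₜ[k] PiTensorProduct.tprod k z) =
                    PiTensorProduct.tprod k fun i => Sum.elim x z (finSumFinEquiv.symm i) := fun x z => by
                simp [TensorPower.mulEquiv]
              simp only [smul_mul_assoc, mul_smul_comm, PiTensorProduct.tprod_mul_tprod, ← smul_tmul',
                tmul_smul, map_smul, key]
              have hv : (fun i => Sum.elim (x * y) (z * w) (finSumFinEquiv.symm i)) =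
                  (fun i => Sum.elim x z (finSumFinEquiv.symm i)) *
                    fun i => Sum.elim y w (finSumFinEquiv.symm i) := by
                funext i
                rw [Pi.mul_apply]
                rcases finSumFinEquiv.symm i with a | b <;> rfl
              rw [hv]
              simp only [smul_smul]
              congr 1
              ring
            | add p q hp hq => simp only [mul_add, tmul_add, map_add, hp, hq]
          | add p q hp hq => simp only [add_mul, tmul_add, map_add, hp, hq]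
        | add p q hp hq => simp only [mul_add, add_tmul, map_add, hp, hq]
      | add p q hp hq => simp only [add_mul, add_tmul, map_add, hp, hq])
    (by
      simp only [TensorPower.mulEquiv, Algebra.TensorProduct.one_def, PiTensorProduct.one_def]
      simp
      rfl)

/-- A tensor power over an empty index. -/
noncomputable def tpowZero (A : Type*) [Ring A] [Algebra k A] : TPow k A 0 ≃ₐ[k] k :=
  (AlgEquiv.ofBijective (Algebra.ofId k (TPow k A 0)) (by
    have : ⇑(Algebra.ofId k (TPow k A 0)) = ⇑(PiTensorProduct.isEmptyEquiv (Fin 0) (R := k) (s := fun _ => A)).symm := by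
      funext r
      rw [eq_comm, LinearEquiv.symm_apply_eq, Algebra.ofId_apply, Algebra.algebraMap_eq_smul_one,
        map_smul, PiTensorProduct.one_def, PiTensorProduct.isEmptyEquiv_apply_tprod]
      simp
    rw [this]
    exact LinearEquiv.bijective _)).symm

/-- A tensor power over a single index. -/
noncomputable def tpowOne (A : Type*) [Ring A] [Algebra k A] : TPow k A 1 ≃ₐ[k] A :=
  AlgEquiv.ofLinearEquiv (PiTensorProduct.subsingletonEquiv (s := fun _ : Fin 1 => A) 0)
    (by simp [PiTensorProduct.one_def])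
    (fun a b => by
      induction a using PiTensorProduct.induction_on with
      | smul_tprod r x =>
        induction b using PiTensorProduct.induction_on with
        | smul_tprod s y => simp [PiTensorProduct.tprod_mul_tprod]
        | add p q hp hq => simp only [mul_add, map_add, hp, hq]
      | add p q hp hq => simp only [add_mul, map_add, hp, hq])

variable {k}

instance isCSA_tpow (A : Type*) [Ring A] [Algebra k A] [IsCSA k A] : ∀ e, IsCSA k (TPow k A e)
  | 0 => IsCSA.congr (tpowZero k A).symm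
  | e + 1 =>
    haveI := isCSA_tpow A e
    haveI : IsCSA k (TPow k A 1) := IsCSA.congr (tpowOne k A).symm
    IsCSA.congr (tpowAdd k A e 1)

theorem BrEq.tpow_succ (A : Type*) [Ring A] [Algebra k A] (e : ℕ) :
    BrEq k (TPow k A (e + 1)) (TPow k A e ⊗[k] A) :=
  (BrEq.of_algEquiv k (tpowAdd k A e 1).symm).trans
    ((BrEq.of_algEquiv k (tpowOne k A)).tensor_left _)

theorem BrEq.tpow {A B : Type*} [Ring A] [Algebra k A] [Ring B] [Algebra k B] (h : BrEq k A B) :
    ∀ e, BrEq k (TPow k A e) (TPow k B e)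
  | 0 => (BrEq.of_algEquiv k (tpowZero k A)).trans (BrEq.of_algEquiv k (tpowZero k B)).symm
  | e + 1 => (BrEq.tpow_succ A e).trans (((BrEq.tpow h e).tensor h).trans (BrEq.tpow_succ B e).symm)

theorem BrEq.tpow_mul (A : Type*) [Ring A] [Algebra k A] (n : ℕ) :
    ∀ m, BrEq k (TPow k (TPow k A n) m) (TPow k A (n * m))
  | 0 => (BrEq.of_algEquiv k (tpowZero k _)).trans (BrEq.of_algEquiv k (tpowZero k A)).symm
  | m + 1 => (BrEq.tpow_succ _ m).trans
      (((BrEq.tpow_mul A n m).tensor_right _).trans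
        (BrEq.of_algEquiv k (tpowAdd k A (n * m) n)))

end tpow

end Groth.Agent.CSA
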