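import Groth.Agent.CSA.MaximalSubfield
import Mathlib.RingTheory.AdjoinRoot
import Mathlib.LinearAlgebra.FreeModule.Finite.Basic
import Mathlib.RingTheory.TensorProduct.Finite

/-!
# Splitting fields of central simple algebras
-/

namespace Groth.Agent.CSA

set_option linter.style.haveILetI false

open scoped TensorProduct
open TensorProduct

universe u v

/-- A commutative subalgebra over which `A` is free of rank equal to the degree splits `A`. -/
theorem nonempty_algEquiv_matrix_of_free (k : Type*) [Field k] (A : Type*) [Ring A] [Algebra k A]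
    [Algebra.IsCentral k A] [IsSimpleRing A] [FiniteDimensional k A]
    (L : Type*) [CommRing L] [Algebra k L] (ι : L →ₐ[k] A) (hι : Function.Injective ι)
    [Module L A] (hmod : ∀ (l : L) (a : A), l • a = a * ι l) [Module.Free L A] (r : ℕ)
    (hr : 0 < r) (hA : Module.finrank k A = r ^ 2) (hrank : Module.finrank L A = r) :
    Nonempty ((L ⊗[k] A) ≃ₐ[L] Matrix (Fin r) (Fin r) L) := by
  haveI : IsScalarTower k L A := ⟨fun c l a => by
    rw [hmod, hmod, map_smul, mul_smul_comm]⟩
  haveI : SMulCommClass L k A := ⟨fun l c a => by rw [hmod, hmod, smul_mul_assoc]⟩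
  haveI : Module.Finite L A := Module.Finite.of_restrictScalars_finite k L A
  haveI : Nontrivial L :=
    ⟨⟨0, 1, fun h => zero_ne_one ((map_zero ι).symm.trans ((congrArg ι h).trans (map_one ι)))⟩⟩
  haveI : FiniteDimensional k L := Module.Finite.of_injective ι.toLinearMap hι
  let left : A →ₐ[k] Module.End L A :=
    { toFun := fun a =>
        { toFun := fun x => a * x
          map_add' := fun x y => mul_add a x y
          map_smul' := fun l x => by rw [RingHom.id_apply, hmod, hmod, mul_assoc] }
      map_one' := LinearMap.ext one_mul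
      map_mul' := fun a b => LinearMap.ext fun x => mul_assoc a b x
      map_zero' := LinearMap.ext zero_mul
      map_add' := fun a b => LinearMap.ext fun x => add_mul a b x
      commutes' := fun c => LinearMap.ext fun x => (Algebra.smul_def c x).symm }
  let Φ : L ⊗[k] A →ₐ[L] Module.End L A :=
    Algebra.TensorProduct.lift (Algebra.ofId L _) left fun l a => Algebra.commutes l _
  have hinj : Function.Injective Φ := by
    let Ψ : A ⊗[k] L →ₐ[k] Module.End L A :=
      (Φ.restrictScalars k).comp (Algebra.TensorProduct.comm k A L).toAlgHom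
    suffices h : Function.Injective Ψ by
      intro x y hxy
      obtain ⟨x, rfl⟩ := (Algebra.TensorProduct.comm k A L).surjective x
      obtain ⟨y, rfl⟩ := (Algebra.TensorProduct.comm k A L).surjective y
      exact congrArg _ (h hxy)
    by_contra hne
    have hI : TwoSidedIdeal.ker Ψ ≠ ⊥ := fun h => hne ((TwoSidedIdeal.ker_eq_bot _).1 h)
    obtain ⟨l, hl, hmem⟩ := exists_one_tmul_mem k (TwoSidedIdeal.ker Ψ) hI
    rw [TwoSidedIdeal.mem_ker] at hmem
    refine hl (hι ?_)
    have := LinearMap.congr_fun hmem 1
    change ((algebraMap L (Module.End L A) l) * left 1) 1 = 0 at this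
    simpa [left, Algebra.algebraMap_eq_smul_one, hmod] using this
  have hdim : Module.finrank k (L ⊗[k] A) = Module.finrank k (Module.End L A) := by
    rw [Module.finrank_tensorProduct, ← Module.finrank_mul_finrank k L (Module.End L A),
      Module.finrank_linearMap, hrank, hA, sq]
  have hbij : Function.Bijective Φ := ⟨hinj,
    ((Φ.restrictScalars k).toLinearMap.injective_iff_surjective_of_finrank_eq_finrank hdim).1 hinj⟩
  exact ⟨(AlgEquiv.ofBijective Φ hbij).trans (algEquivMatrix (Module.finBasisOfFinrankEq L A hrank))⟩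

variable (k : Type u) [Field k]

/-- A subfield of maximal degree splits. -/
theorem nonempty_algEquiv_matrix_of_subfield (A : Type v) [Ring A] [Algebra k A]
    [Algebra.IsCentral k A] [IsSimpleRing A] [FiniteDimensional k A]
    (L : Type*) [Field L] [Algebra k L] (ι : L →ₐ[k] A)
    (h : Module.finrank k L ^ 2 = Module.finrank k A) :
    Nonempty ((L ⊗[k] A) ≃ₐ[L] Matrix (Fin (Module.finrank k L)) (Fin (Module.finrank k L)) L) := by
  haveI : FiniteDimensional k L :=
    Module.Finite.of_injective ι.toLinearMap (ι : L →+* A).injective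
  letI : Module L A := Module.compHom A (RingHom.toOpposite ι.toRingHom fun x y => by
    change ι x * ι y = ι y * ι x
    rw [← map_mul, ← map_mul, mul_comm])
  have hmod : ∀ (l : L) (a : A), l • a = a * ι l := fun l a => rfl
  haveI : IsScalarTower k L A := ⟨fun c l a => by rw [hmod, hmod, map_smul, mul_smul_comm]⟩
  haveI : Module.Finite L A := Module.Finite.of_restrictScalars_finite k L A
  have hpos : 0 < Module.finrank k L := Module.finrank_pos
  refine nonempty_algEquiv_matrix_of_free k A L ι (ι : L →+* A).injective hmod _ hpos h.symm ?_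
  refine Nat.eq_of_mul_eq_mul_left hpos ?_
  rw [Module.finrank_mul_finrank, ← h, sq]

/-- `L ⊗ Mₙ(A) ≅ Mₙ(L ⊗ A)`. -/
theorem nonempty_baseChange_matrix_algEquiv (A : Type v) [Ring A] [Algebra k A]
    [Algebra.IsCentral k A] [IsSimpleRing A] [FiniteDimensional k A] (n : ℕ) [NeZero n]
    (L : Type*) [Field L] [Algebra k L] :
    Nonempty (L ⊗[k] Matrix (Fin n) (Fin n) A ≃ₐ[L] Matrix (Fin n) (Fin n) (L ⊗[k] A)) := by
  haveI : Nonempty (Fin n) := ⟨0⟩
  let Φ : L ⊗[k] Matrix (Fin n) (Fin n) A →ₐ[L] Matrix (Fin n) (Fin n) (L ⊗[k] A) :=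
    Algebra.TensorProduct.lift (Algebra.ofId L _)
      (AlgHom.mapMatrix (Algebra.TensorProduct.includeRight)) fun l M => Algebra.commutes l _
  haveI : Nontrivial (Matrix (Fin n) (Fin n) (L ⊗[k] A)) := inferInstance
  have hinj : Function.Injective Φ := RingHom.injective Φ.toRingHom
  have hdim : Module.finrank L (L ⊗[k] Matrix (Fin n) (Fin n) A) =
      Module.finrank L (Matrix (Fin n) (Fin n) (L ⊗[k] A)) := by
    rw [Module.finrank_baseChange, Module.finrank_matrix, Module.finrank_matrix, Module.finrank_baseChange]
  exact ⟨AlgEquiv.ofBijective Φ ⟨hinj,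
    (Φ.toLinearMap.injective_iff_surjective_of_finrank_eq_finrank hdim).1 hinj⟩⟩

/-- Every central simple algebra is split by a finite separable extension. -/
theorem exists_finite_separable_splitting (A : Type v) [Ring A] [Algebra k A]
    [Algebra.IsCentral k A] [IsSimpleRing A] [FiniteDimensional k A] :
    ∃ (L : Type u) (_ : Field L) (_ : Algebra k L), FiniteDimensional k L ∧ Algebra.IsSeparable k L ∧
      ∃ r : ℕ, 0 < r ∧ r ^ 2 = Module.finrank k A ∧
        Nonempty ((L ⊗[k] A) ≃ₐ[L] Matrix (Fin r) (Fin r) L) := by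
  obtain ⟨n, _, D, _, _, _, _, ⟨e⟩⟩ := exists_algEquiv_matrix_division k (A := A)
  obtain ⟨x, hx, hdeg⟩ := exists_separable_maximal k (D := D)
  have hint : IsIntegral k x := Algebra.IsIntegral.isIntegral x
  haveI : Fact (Irreducible (minpoly k x)) := ⟨minpoly.irreducible hint⟩
  let L := AdjoinRoot (minpoly k x)
  haveI : FiniteDimensional k L := (AdjoinRoot.powerBasis (minpoly.ne_zero hint)).finite
  haveI : Algebra.IsSeparable k L := by
    have hroot : IsSeparable k (AdjoinRoot.root (minpoly k x)) := by
      unfold IsSeparable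
      rw [AdjoinRoot.minpoly_root (minpoly.ne_zero hint), (minpoly.monic hint).leadingCoeff,
        inv_one, map_one, mul_one]
      exact hx
    have hgen : IntermediateField.adjoin k {AdjoinRoot.root (minpoly k x)} = ⊤ := by
      apply IntermediateField.toSubalgebra_injective
      rw [IntermediateField.adjoin_simple_toSubalgebra_of_isAlgebraic (Algebra.IsAlgebraic.isAlgebraic _),
        IntermediateField.top_toSubalgebra]
      exact AdjoinRoot.adjoinRoot_eq_top
    have := (IntermediateField.isSeparable_adjoin_simple_iff_isSeparable k L).2 hroot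
    rw [hgen] at this
    exact Algebra.IsSeparable.of_algHom k _ (IntermediateField.topEquiv.symm.toAlgHom)
  let ι : L →ₐ[k] D := Ideal.Quotient.liftₐ (Ideal.span {minpoly k x}) (Polynomial.aeval x)
    fun q hq => by
      obtain ⟨c, rfl⟩ := Ideal.mem_span_singleton.1 hq
      rw [map_mul, minpoly.aeval, zero_mul]
  have hroot : ι (AdjoinRoot.root (minpoly k x)) = x := Polynomial.aeval_X x
  have hι : Algebra.adjoin k ({x} : Set D) = ι.range := by
    rw [← Algebra.map_top, ← AdjoinRoot.adjoinRoot_eq_top, AlgHom.map_adjoin, Set.image_singleton, hroot]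
  have hLdeg : Module.finrank k L ^ 2 = Module.finrank k D := by
    rw [← hdeg, hι, (AlgEquiv.ofInjective ι (ι : L →+* D).injective).toLinearEquiv.finrank_eq]
  obtain ⟨eD⟩ := nonempty_algEquiv_matrix_of_subfield k D L ι hLdeg
  obtain ⟨eM⟩ := nonempty_baseChange_matrix_algEquiv k D n L
  refine ⟨L, inferInstance, inferInstance, inferInstance, inferInstance, n * Module.finrank k L,
    Nat.mul_pos (Nat.pos_of_ne_zero (NeZero.ne n)) Module.finrank_pos, ?_, ⟨?_⟩⟩
  · rw [e.toLinearEquiv.finrank_eq, Module.finrank_matrix, Fintype.card_fin, ← hLdeg]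
    ring
  · exact (Algebra.TensorProduct.congr AlgEquiv.refl e).trans <| eM.trans <| eD.mapMatrix.trans <|
      (Matrix.compAlgEquiv (Fin n) (Fin (Module.finrank k L)) L L).trans
        (Matrix.reindexAlgEquiv L L finProdFinEquiv)

end Groth.Agent.CSA
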