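import Groth.Agent.CSA.Brauer
import Groth.Agent.CSA.Splitting
import Mathlib.FieldTheory.SeparableClosure
import Mathlib.FieldTheory.IntermediateField.Adjoin.Basic

/-!
# Descent of central simple algebras to a finite subextension
-/

universe u

open scoped TensorProduct

namespace Groth.Agent.CSA

/-- Cancelling base change for non-commutative algebras. -/
noncomputable def cancelBaseChangeAlg (E F M B : Type u) [Field E] [Field F] [Field M] [Ring B] [Algebra E F]
    [Algebra E M] [Algebra F M] [IsScalarTower E F M] [Algebra E B] :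
    (M ⊗[E] B) ≃ₐ[M] (M ⊗[F] (F ⊗[E] B)) :=
  AlgEquiv.ofLinearEquiv (TensorProduct.AlgebraTensorModule.cancelBaseChange E F M M B).symm
    (by simp [Algebra.TensorProduct.one_def]) <|
    LinearMap.map_mul_of_map_mul_tmul (fun _ _ _ _ => by simp)

/-- A CSA over `L` is defined over the field generated by its structure constants. -/
theorem exists_finite_descent (K L : Type u) [Field K] [Field L] [Algebra K L] [Algebra.IsSeparable K L]
    (D : Type u) [Ring D] [Algebra L D] [IsCSA L D] :
    ∃ (E : IntermediateField K L) (A : Type u) (_ : Ring A) (_ : Algebra E A),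
      FiniteDimensional K E ∧ Algebra.IsSeparable K E ∧ IsCSA E A ∧ Nonempty ((L ⊗[E] A) ≃ₐ[L] D) := by
  classical
  let b := Module.finBasis L D
  let S : Set L := (Set.range fun t : Fin (Module.finrank L D) × Fin (Module.finrank L D) × Fin (Module.finrank L D) =>
    b.repr (b t.1 * b t.2.1) t.2.2) ∪ Set.range fun i => b.repr 1 i
  have hS : S.Finite := (Set.finite_range _).union (Set.finite_range _)
  let E := IntermediateField.adjoin K S
  haveI : Finite S := hS
  haveI : FiniteDimensional K E :=
    IntermediateField.finiteDimensional_adjoin fun x _ => Algebra.IsIntegral.isIntegral x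
  haveI : Algebra.IsSeparable K E :=
    (IntermediateField.isSeparable_adjoin_iff_isSeparable K L).2 fun x _ => Algebra.IsSeparable.isSeparable K x
  let P : Submodule E D := Submodule.span E (Set.range b)
  have hmem : ∀ x : D, (∀ i, b.repr x i ∈ E) → x ∈ P := fun x hx => by
    rw [← b.sum_repr x]
    refine Submodule.sum_mem _ fun i _ => ?_
    exact P.smul_mem (⟨_, hx i⟩ : E) (Submodule.subset_span ⟨i, rfl⟩)
  have hone : (1 : D) ∈ P := hmem 1 fun i => IntermediateField.subset_adjoin K S (Or.inr ⟨i, rfl⟩)
  have hmul : ∀ x y, x ∈ P → y ∈ P → x * y ∈ P := by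
    intro x y hx hy
    induction hx, hy using Submodule.span_induction₂ with
    | mem_mem x y hx hy =>
      obtain ⟨i, rfl⟩ := hx
      obtain ⟨j, rfl⟩ := hy
      exact hmem _ fun k => IntermediateField.subset_adjoin K S (Or.inl ⟨(i, j, k), rfl⟩)
    | zero_left => rw [zero_mul]; exact P.zero_mem
    | zero_right => rw [mul_zero]; exact P.zero_mem
    | add_left x y z _ _ _ h₁ h₂ => rw [add_mul]; exact P.add_mem h₁ h₂
    | add_right x y z _ _ _ h₁ h₂ => rw [mul_add]; exact P.add_mem h₁ h₂
    | smul_left r x y _ _ h => rw [smul_mul_assoc]; exact P.smul_mem r h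
    | smul_right r x y _ _ h => rw [mul_smul_comm]; exact P.smul_mem r h
  let A : Subalgebra E D := P.toSubalgebra hone hmul
  let Φ : (L ⊗[E] A) →ₐ[L] D :=
    Algebra.TensorProduct.lift (Algebra.ofId L D) A.val fun c x => Algebra.commutes c (x : D)
  have hΦ : ∀ (c : L) (x : A), Φ (c ⊗ₜ x) = c • (x : D) := fun c x => by
    simp [Φ, Algebra.smul_def, Algebra.ofId_apply]
  have hsurj : Function.Surjective Φ := by
    intro x
    refine ⟨∑ i, b.repr x i ⊗ₜ[E] (⟨b i, Submodule.subset_span ⟨i, rfl⟩⟩ : A), ?_⟩
    simp [map_sum, hΦ, b.sum_repr]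
  let v : Fin (Module.finrank L D) → A := fun i => ⟨b i, Submodule.subset_span ⟨i, rfl⟩⟩
  have hspanA : Submodule.span E (Set.range v) = ⊤ := by
    apply Submodule.map_injective_of_injective (f := A.val.toLinearMap) Subtype.val_injective
    rw [Submodule.map_span, ← Set.range_comp, Submodule.map_top]
    refine le_antisymm (Submodule.span_le.2 ?_) ?_
    · rintro _ ⟨i, rfl⟩; exact ⟨v i, rfl⟩
    · rintro _ ⟨⟨y, hy⟩, rfl⟩
      exact hy
  haveI : Module.Finite E A := ⟨⟨Finset.univ.image v, by rw [Finset.coe_image, Finset.coe_univ, Set.image_univ, hspanA]⟩⟩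
  have hdim : Module.finrank L (L ⊗[E] A) = Module.finrank L D := by
    refine le_antisymm ?_ ?_
    swap
    · have h1 := Φ.toLinearMap.finrank_range_le
      rw [LinearMap.range_eq_top.2 (show Function.Surjective Φ.toLinearMap from hsurj), finrank_top] at h1
      exact h1
    rw [Module.finrank_baseChange]
    have := finrank_span_le_card (R := E) (Set.range v)
    rw [hspanA, finrank_top, Set.toFinset_range] at this
    exact this.trans (Finset.card_image_le.trans (by rw [Finset.card_univ, Fintype.card_fin]))
  have hbij : Function.Bijective Φ :=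
    ⟨(Φ.toLinearMap.injective_iff_surjective_of_finrank_eq_finrank hdim).2 hsurj, hsurj⟩
  let e : (L ⊗[E] A) ≃ₐ[L] D := AlgEquiv.ofBijective Φ hbij
  haveI : IsCSA L (L ⊗[E] A) := IsCSA.congr e.symm
  haveI : Algebra.IsCentral E A := isCentral_of_baseChange E L A
  haveI : IsSimpleRing A := isSimpleRing_of_baseChange E L A
  exact ⟨E, A, inferInstance, inferInstance, inferInstance, inferInstance, {}, ⟨e⟩⟩

end Groth.Agent.CSA
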