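import Groth.Agent.CSA.Split
import Mathlib.FieldTheory.Separable
import Mathlib.FieldTheory.IntermediateField.Adjoin.Basic
import Mathlib.FieldTheory.PrimitiveElement

/-!
# The double centraliser theorem; separable maximal subfields of division algebras
-/

namespace Groth.Agent.CSA

set_option linter.style.haveILetI false

open scoped TensorProduct
open TensorProduct

variable (k : Type*) [Field k]

instance isCentral_moduleEnd (V : Type*) [AddCommGroup V] [Module k V] :
    Algebra.IsCentral k (Module.End k V) := inferInstance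

theorem isSimpleRing_moduleEnd (V : Type*) [AddCommGroup V] [Module k V] [FiniteDimensional k V]
    [Nontrivial V] : IsSimpleRing (Module.End k V) := by
  haveI : Nonempty (Fin (Module.finrank k V)) := ⟨⟨0, Module.finrank_pos⟩⟩
  exact IsSimpleRing.of_ringEquiv (algEquivMatrix (Module.finBasis k V)).symm.toRingEquiv inferInstance

theorem isSimpleRing_of_tensorProduct {A B : Type*} [Ring A] [Algebra k A] [Ring B] [Algebra k B]
    [IsSimpleRing (A ⊗[k] B)] [Nontrivial B] : IsSimpleRing A := by
  haveI : Nontrivial A := by
    by_contra h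
    rw [not_nontrivial_iff_subsingleton] at h
    haveI := h
    exact not_subsingleton (A ⊗[k] B) inferInstance
  refine IsSimpleRing.of_eq_bot_or_eq_top fun I => or_iff_not_imp_left.2 fun hI => ?_
  by_contra hI'
  let q : A →+* I.ringCon.Quotient := I.ringCon.mk'
  letI : Algebra k I.ringCon.Quotient := (q.comp (algebraMap k A)).toAlgebra' fun c x => by
    induction x using Quotient.inductionOn' with
    | h a => exact congrArg q (Algebra.commutes c a)
  let qa : A →ₐ[k] I.ringCon.Quotient := { q with commutes' := fun c => rfl }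
  haveI : Nontrivial I.ringCon.Quotient := by
    refine ⟨q 1, q 0, fun h => hI' ((I.one_mem_iff).1 ?_)⟩
    exact (TwoSidedIdeal.mem_iff _ _).2 (Quotient.eq''.1 h)
  haveI : IsSimpleRing (B ⊗[k] A) :=
    IsSimpleRing.of_ringEquiv (Algebra.TensorProduct.comm k A B).toRingEquiv inferInstance
  haveI : Nontrivial (B ⊗[k] I.ringCon.Quotient) :=
    (Algebra.TensorProduct.includeRight_injective (R := k) (A := B) (B := I.ringCon.Quotient)
      (algebraMap k B).injective).nontrivial
  have hinj := RingHom.injective (Algebra.TensorProduct.map (AlgHom.id k B) qa).toRingHom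
  refine hI (le_antisymm (fun a ha => (TwoSidedIdeal.mem_bot _).2 ?_) bot_le)
  refine Algebra.TensorProduct.includeRight_injective (R := k) (A := B) (B := A)
    (algebraMap k B).injective (hinj ?_)
  have : qa a = 0 := Quotient.eq''.2 ((TwoSidedIdeal.mem_iff _ _).1 ha)
  simp [this]

section doubleCentralizer

variable {A : Type*} [Ring A] [Algebra k A] [Algebra.IsCentral k A] [IsSimpleRing A]
  [FiniteDimensional k A] (B : Subalgebra k A) [IsSimpleRing B]

/-- Conjugation as an algebra automorphism. -/
noncomputable def conjAlgEquiv {T : Type*} [Ring T] [Algebra k T] (u : Tˣ) : T ≃ₐ[k] T where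
  toFun x := (u : T) * x * (u⁻¹ : Tˣ)
  invFun x := (u⁻¹ : Tˣ) * x * (u : T)
  left_inv x := by simp [mul_assoc]
  right_inv x := by simp [mul_assoc]
  map_mul' x y := by simp [mul_assoc]
  map_add' x y := by simp [mul_add, add_mul]
  commutes' r := by simp [Algebra.algebraMap_eq_smul_one]

theorem centralizer_range_mulLeft_eq (B : Type*) [Ring B] [Algebra k B] :
    Subalgebra.centralizer k (Set.range (Algebra.lmul k B) : Set (Module.End k B)) =
      (Module.toModuleEnd k (S := Bᵐᵒᵖ) B |> fun _ =>
        (Algebra.lsmul k k B : Bᵐᵒᵖ →ₐ[k] Module.End k B).range) := by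
  ext f
  rw [Subalgebra.mem_centralizer_iff]
  constructor
  · intro h
    refine ⟨MulOpposite.op (f 1), LinearMap.ext fun x => ?_⟩
    have := LinearMap.congr_fun (h _ ⟨x, rfl⟩) 1
    simpa [eq_comm] using this
  · rintro ⟨c, rfl⟩ _ ⟨b, rfl⟩
    exact LinearMap.ext fun x => (mul_assoc b x c.unop).symm

theorem centralizer_simple_and_finrank :
    IsSimpleRing (Subalgebra.centralizer k (B : Set A)) ∧
      Module.finrank k B * Module.finrank k (Subalgebra.centralizer k (B : Set A)) =
        Module.finrank k A := by
  haveI := isSimpleRing_moduleEnd k B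
  let T := A ⊗[k] Module.End k B
  let f : B →ₐ[k] T := Algebra.TensorProduct.includeLeft.comp B.val
  let g : B →ₐ[k] T := Algebra.TensorProduct.includeRight.comp (Algebra.lmul k B)
  obtain ⟨u, hu⟩ := skolem_noether k f g
  let R : Bᵐᵒᵖ →ₐ[k] Module.End k B := Algebra.lsmul k k B
  let C := Subalgebra.centralizer k (B : Set A)
  let Cf := Subalgebra.centralizer k (Set.range f : Set T)
  let Cg := Subalgebra.centralizer k (Set.range g : Set T)
  have hconj : Cf.map (conjAlgEquiv k u : T →ₐ[k] T) = Cg := by
    ext z
    simp only [Subalgebra.mem_map, Subalgebra.mem_centralizer_iff, Cf, Cg, Set.forall_mem_range, hu]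
    constructor
    · rintro ⟨y, hy, rfl⟩ b
      change _ = ((u : T) * y * (u⁻¹ : Tˣ)) * _
      calc (u : T) * f b * (u⁻¹ : Tˣ) * ((u : T) * y * (u⁻¹ : Tˣ))
          = (u : T) * (f b * y) * (u⁻¹ : Tˣ) := by simp [mul_assoc]
        _ = _ := by rw [hy]; simp [mul_assoc]
    · intro h
      refine ⟨(u⁻¹ : Tˣ) * z * (u : T), fun b => ?_, ?_⟩
      · calc f b * ((u⁻¹ : Tˣ) * z * (u : T))
            = (u⁻¹ : Tˣ) * ((u : T) * f b * (u⁻¹ : Tˣ) * z) * (u : T) := by simp [mul_assoc]
          _ = _ := by rw [h]; simp [mul_assoc]
      · change (u : T) * ((u⁻¹ : Tˣ) * z * (u : T)) * (u⁻¹ : Tˣ) = z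
        simp [mul_assoc]
  have hCf : Cf = (Algebra.TensorProduct.map C.val (AlgHom.id k (Module.End k B))).range := by
    rw [← Subalgebra.centralizer_coe_image_includeLeft_eq_center_tensorProduct k A (Module.End k B) (B : Set A)]
    simp only [Cf, f, AlgHom.coe_comp, Set.range_comp]
    congr 2
    exact Subtype.range_coe
  have hCg : Cg = (Algebra.TensorProduct.map (AlgHom.id k A)
      (Subalgebra.centralizer k (Set.range (Algebra.lmul k B) : Set (Module.End k B))).val).range := by
    rw [← Subalgebra.centralizer_coe_image_includeRight_eq_center_tensorProduct k A (Module.End k B)]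
    simp only [Cg, g, AlgHom.coe_comp, Set.range_comp]
  have hR : Subalgebra.centralizer k (Set.range (Algebra.lmul k B) : Set (Module.End k B)) = R.range :=
    centralizer_range_mulLeft_eq k B
  have hRinj : Function.Injective R := fun a b h => MulOpposite.unop_injective (by
    simpa [R] using LinearMap.congr_fun h 1)
  let m1 := Algebra.TensorProduct.map C.val (AlgHom.id k (Module.End k B))
  have hm1 : Function.Injective m1 :=
    Module.Flat.rTensor_preserves_injective_linearMap (M := Module.End k B) C.val.toLinearMap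
      Subtype.val_injective
  let m2 := Algebra.TensorProduct.map (AlgHom.id k A) R
  have hm2 : Function.Injective m2 :=
    Module.Flat.lTensor_preserves_injective_linearMap (M := A) R.toLinearMap hRinj
  have hrange : m1.range.map (conjAlgEquiv k u : T →ₐ[k] T) = m2.range := by
    rw [← hCf, hconj, hCg, hR]
    let eR := AlgEquiv.ofInjective R hRinj
    refine le_antisymm ?_ ?_
    · rintro _ ⟨z, rfl⟩
      refine ⟨Algebra.TensorProduct.map (AlgHom.id k A) eR.symm.toAlgHom z, ?_⟩
      change m2 (Algebra.TensorProduct.map (AlgHom.id k A) eR.symm.toAlgHom z) =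
        Algebra.TensorProduct.map (AlgHom.id k A) R.range.val z
      rw [← AlgHom.comp_apply, ← Algebra.TensorProduct.map_comp, AlgHom.id_comp]
      congr 2
      refine AlgHom.ext fun y => ?_
      exact congrArg Subtype.val (eR.apply_symm_apply y)
    · rintro _ ⟨z, rfl⟩
      refine ⟨Algebra.TensorProduct.map (AlgHom.id k A) eR.toAlgHom z, ?_⟩
      change Algebra.TensorProduct.map (AlgHom.id k A) R.range.val
        (Algebra.TensorProduct.map (AlgHom.id k A) eR.toAlgHom z) = m2 z
      rw [← AlgHom.comp_apply, ← Algebra.TensorProduct.map_comp, AlgHom.id_comp]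
      congr 2
  let e : C ⊗[k] Module.End k B ≃ₐ[k] A ⊗[k] Bᵐᵒᵖ :=
    (AlgEquiv.ofInjective m1 hm1).trans <| ((conjAlgEquiv k u).subalgebraMap m1.range).trans <|
      (Subalgebra.equivOfEq _ _ hrange).trans (AlgEquiv.ofInjective m2 hm2).symm
  haveI : IsSimpleRing (C ⊗[k] Module.End k B) := IsSimpleRing.of_ringEquiv e.symm.toRingEquiv inferInstance
  haveI : Nontrivial (Module.End k B) := inferInstance
  refine ⟨isSimpleRing_of_tensorProduct k (B := Module.End k B), ?_⟩
  have h := e.toLinearEquiv.finrank_eq
  rw [Module.finrank_tensorProduct, Module.finrank_tensorProduct, Module.finrank_linearMap,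
    (MulOpposite.opLinearEquiv k : B ≃ₗ[k] Bᵐᵒᵖ).symm.finrank_eq] at h
  have hpos : 0 < Module.finrank k B := Module.finrank_pos
  calc Module.finrank k B * Module.finrank k C = Module.finrank k A := by
        refine Nat.eq_of_mul_eq_mul_right hpos ?_
        rw [← h]; ring
    _ = _ := rfl

theorem centralizer_centralizer_eq :
    Subalgebra.centralizer k (Subalgebra.centralizer k (B : Set A) : Set A) = B := by
  obtain ⟨h1, h2⟩ := centralizer_simple_and_finrank k B
  obtain ⟨-, h3⟩ := centralizer_simple_and_finrank k (Subalgebra.centralizer k (B : Set A))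
  have hle : B ≤ Subalgebra.centralizer k (Subalgebra.centralizer k (B : Set A) : Set A) :=
    (Subalgebra.le_centralizer_iff _ _).2 le_rfl
  refine (Subalgebra.toSubmodule_injective (Submodule.eq_of_le_of_finrank_eq hle ?_)).symm
  haveI := h1
  have hpos : 0 < Module.finrank k (Subalgebra.centralizer k (B : Set A)) := Module.finrank_pos
  refine Nat.eq_of_mul_eq_mul_right hpos ?_
  rw [Subalgebra.finrank_toSubmodule, Subalgebra.finrank_toSubmodule, h2, mul_comm]
  exact h3.symm

end doubleCentralizer

end Groth.Agent.CSA
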