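import Mathlib
import Groth.Agent.CSA.Azumaya

/-!
# Corners of Azumaya algebras
-/

set_option autoImplicit false

universe u v

open scoped TensorProduct

namespace Groth.Agent.CSA

set_option linter.style.haveILetI false

variable {R : Type u} [CommRing R] {A : Type v} [Ring A] [Algebra R A]

/-- `eAe` -/
def cornerSub (R : Type u) [CommRing R] {A : Type v} [Ring A] [Algebra R A] (e : A) : Submodule R A :=
  LinearMap.range (LinearMap.mulLeft R e ∘ₗ LinearMap.mulRight R e)

/-- The corner algebra at an idempotent. -/
def CornerAlg (R : Type u) [CommRing R] {A : Type v} [Ring A] [Algebra R A] {e : A} (_ : IsIdempotentElem e) : Type v :=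
  cornerSub R e

theorem mem_cornerSub {e : A} (he : IsIdempotentElem e) {x : A} : x ∈ cornerSub R e ↔ e * x = x ∧ x * e = x := by
  constructor
  · rintro ⟨y, rfl⟩
    show e * (e * (y * e)) = e * (y * e) ∧ e * (y * e) * e = e * (y * e)
    refine ⟨by rw [← mul_assoc e e, he.eq], ?_⟩
    rw [mul_assoc, mul_assoc, he.eq]
  · rintro ⟨h1, h2⟩
    exact ⟨x, show e * (x * e) = x by rw [h2, h1]⟩

namespace CornerAlg

variable {e : A} (he : IsIdempotentElem e)

noncomputable instance : AddCommGroup (CornerAlg R he) := inferInstanceAs (AddCommGroup (cornerSub R e))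
noncomputable instance : Module R (CornerAlg R he) := inferInstanceAs (Module R (cornerSub R e))

/-- inclusion -/
noncomputable def val : CornerAlg R he →ₗ[R] A := (cornerSub R e).subtype

theorem val_injective : Function.Injective (val (R := R) he) := Subtype.val_injective

theorem left_id (b : CornerAlg R he) : e * val he b = val he b := ((mem_cornerSub he).mp b.2).1

theorem right_id (b : CornerAlg R he) : val he b * e = val he b := ((mem_cornerSub he).mp b.2).2

/-- constructor -/
noncomputable def mk (x : A) (h1 : e * x = x) (h2 : x * e = x) : CornerAlg R he :=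
  ⟨x, (mem_cornerSub he).mpr ⟨h1, h2⟩⟩

theorem val_mk (x : A) (h1 : e * x = x) (h2 : x * e = x) : val (R := R) he (mk he x h1 h2) = x := rfl

noncomputable instance : Mul (CornerAlg R he) :=
  ⟨fun a b => mk he (val he a * val he b) (by rw [← mul_assoc, left_id]) (by rw [mul_assoc, right_id])⟩

noncomputable instance : One (CornerAlg R he) := ⟨mk he e he.eq he.eq⟩

theorem val_mul (a b : CornerAlg R he) : val he (a * b) = val he a * val he b := rfl

theorem val_one : val (R := R) he 1 = e := rfl

noncomputable instance : Ring (CornerAlg R he) :=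
  { (inferInstance : AddCommGroup (CornerAlg R he)) with
    mul := fun a b => a * b
    one := 1
    left_distrib := fun a b c => val_injective he (by rw [val_mul, map_add, map_add, val_mul, val_mul, mul_add])
    right_distrib := fun a b c => val_injective he (by rw [val_mul, map_add, map_add, val_mul, val_mul, add_mul])
    zero_mul := fun a => val_injective he (by rw [val_mul, map_zero, zero_mul])
    mul_zero := fun a => val_injective he (by rw [val_mul, map_zero, mul_zero])
    mul_assoc := fun a b c => val_injective he (by rw [val_mul, val_mul, val_mul, val_mul, mul_assoc])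
    one_mul := fun a => val_injective he (by rw [val_mul, val_one, left_id])
    mul_one := fun a => val_injective he (by rw [val_mul, val_one, right_id]) }

noncomputable instance : Algebra R (CornerAlg R he) :=
  Algebra.ofModule (fun r a b => val_injective he (by rw [val_mul, map_smul, map_smul, val_mul, smul_mul_assoc]))
    (fun r a b => val_injective he (by rw [val_mul, map_smul, map_smul, val_mul, mul_smul_comm]))

/-- `a ↦ eae` -/
noncomputable def proj : A →ₗ[R] CornerAlg R he :=
  (LinearMap.mulLeft R e ∘ₗ LinearMap.mulRight R e).rangeRestrict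

theorem val_proj (a : A) : val (R := R) he (proj he a) = e * (a * e) := rfl

theorem proj_val (b : CornerAlg R he) : proj he (val he b) = b :=
  val_injective he (by rw [val_proj, right_id, left_id])

end CornerAlg

/-- `Ae` -/
abbrev leftIdeal (R : Type u) [CommRing R] {A : Type v} [Ring A] [Algebra R A] (e : A) : Submodule R A :=
  LinearMap.range (LinearMap.mulRight R e)

theorem mem_leftIdeal {e : A} (he : IsIdempotentElem e) {x : A} : x ∈ leftIdeal R e ↔ x * e = x :=
  ⟨fun ⟨y, hy⟩ => by rw [← hy]; show y * e * e = y * e; rw [mul_assoc, he.eq], fun h => ⟨x, h⟩⟩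

variable {e : A} (he : IsIdempotentElem e)

/-- `A ⊗ (eAe)ᵒᵖ → End (Ae)` -/
noncomputable def actLeftIdeal : A ⊗[R] (CornerAlg R he)ᵐᵒᵖ →ₐ[R] Module.End R (leftIdeal R e) :=
  Algebra.TensorProduct.lift
    { toFun := fun a => (LinearMap.mulLeft R a).restrict fun x hx => (mem_leftIdeal he).mpr (by
        show a * x * e = a * x
        rw [mul_assoc, (mem_leftIdeal he).mp hx])
      map_one' := LinearMap.ext fun x => Subtype.ext (one_mul _)
      map_mul' := fun a b => LinearMap.ext fun x => Subtype.ext (mul_assoc a b _)
      map_zero' := LinearMap.ext fun x => Subtype.ext (zero_mul _)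
      map_add' := fun a b => LinearMap.ext fun x => Subtype.ext (add_mul a b _)
      commutes' := fun r => LinearMap.ext fun x => Subtype.ext (Algebra.smul_def r _).symm }
    { toFun := fun b => (LinearMap.mulRight R (CornerAlg.val he b.unop)).restrict fun x _ => (mem_leftIdeal he).mpr (by
        show x * CornerAlg.val he b.unop * e = x * CornerAlg.val he b.unop
        rw [mul_assoc, CornerAlg.right_id])
      map_one' := LinearMap.ext fun x => Subtype.ext (by
        show (x : A) * CornerAlg.val he (1 : CornerAlg R he) = x
        rw [CornerAlg.val_one]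
        exact (mem_leftIdeal he).mp x.2)
      map_mul' := fun a b => LinearMap.ext fun x => Subtype.ext (by
        show (x : A) * CornerAlg.val he (b.unop * a.unop) = x * CornerAlg.val he b.unop * CornerAlg.val he a.unop
        rw [CornerAlg.val_mul, mul_assoc])
      map_zero' := LinearMap.ext fun x => Subtype.ext (by
        show (x : A) * CornerAlg.val he (0 : CornerAlg R he) = 0
        rw [map_zero, mul_zero])
      map_add' := fun a b => LinearMap.ext fun x => Subtype.ext (by
        show (x : A) * CornerAlg.val he (a.unop + b.unop) = x * CornerAlg.val he a.unop + x * CornerAlg.val he b.unop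
        rw [map_add, mul_add])
      commutes' := fun r => LinearMap.ext fun x => Subtype.ext (by
        show (x : A) * CornerAlg.val he (algebraMap R (CornerAlg R he) r) = r • (x : A)
        rw [Algebra.algebraMap_eq_smul_one, map_smul, CornerAlg.val_one, mul_smul_comm, (mem_leftIdeal he).mp x.2]) }
    fun a b => LinearMap.ext fun x => Subtype.ext (mul_assoc a _ _).symm

theorem actLeftIdeal_tmul (a : A) (b : (CornerAlg R he)ᵐᵒᵖ) (x : leftIdeal R e) :
    ((actLeftIdeal he (a ⊗ₜ b) x : leftIdeal R e) : A) = a * (x * CornerAlg.val he b.unop) := rfl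

/-- `(eAe)ᵒᵖ → Aᵒᵖ` -/
noncomputable def incOp : (CornerAlg R he)ᵐᵒᵖ →ₗ[R] Aᵐᵒᵖ :=
  (MulOpposite.opLinearEquiv R).toLinearMap ∘ₗ CornerAlg.val he ∘ₗ (MulOpposite.opLinearEquiv R).symm.toLinearMap

/-- `Aᵒᵖ → (eAe)ᵒᵖ` -/
noncomputable def projOp : Aᵐᵒᵖ →ₗ[R] (CornerAlg R he)ᵐᵒᵖ :=
  (MulOpposite.opLinearEquiv R).toLinearMap ∘ₗ CornerAlg.proj he ∘ₗ (MulOpposite.opLinearEquiv R).symm.toLinearMap

theorem projOp_comp_incOp : projOp (R := R) he ∘ₗ incOp he = LinearMap.id :=
  LinearMap.ext fun b => MulOpposite.unop_injective (CornerAlg.proj_val he b.unop)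

theorem unop_incOp (b : (CornerAlg R he)ᵐᵒᵖ) : (incOp he b).unop = CornerAlg.val he b.unop := rfl

theorem unop_projOp (a : Aᵐᵒᵖ) : CornerAlg.val he (projOp (R := R) he a).unop = e * (a.unop * e) := rfl

variable [IsAzumaya R A]

theorem bijective_actLeftIdeal : Function.Bijective (actLeftIdeal (R := R) he) := by
  constructor
  · rw [injective_iff_map_eq_zero]
    intro z hz
    have key : ∀ (z : A ⊗[R] (CornerAlg R he)ᵐᵒᵖ) (a : A),
        AlgHom.mulLeftRight R A (LinearMap.lTensor A (incOp he) z) a = actLeftIdeal he z ⟨a * e, a, rfl⟩ := by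
      intro z a
      induction z using TensorProduct.induction_on with
      | zero => simp
      | add x y hx hy => simp only [map_add, LinearMap.add_apply, Submodule.coe_add, hx, hy]
      | tmul x b =>
        rw [LinearMap.lTensor_tmul, AlgHom.mulLeftRight_apply, actLeftIdeal_tmul, unop_incOp]
        show x * a * CornerAlg.val he b.unop = x * (a * e * CornerAlg.val he b.unop)
        rw [mul_assoc a e, CornerAlg.left_id, mul_assoc]
    have h0 : LinearMap.lTensor A (incOp he) z = 0 := (IsAzumaya.bij (R := R) (A := A)).1 (by
      rw [map_zero]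
      exact LinearMap.ext fun a => by rw [key, hz, LinearMap.zero_apply, LinearMap.zero_apply]; rfl)
    have := congrArg (LinearMap.lTensor A (projOp (R := R) he)) h0
    rwa [← LinearMap.comp_apply, ← LinearMap.lTensor_comp, projOp_comp_incOp, LinearMap.lTensor_id, LinearMap.id_apply,
      map_zero] at this
  · intro T
    obtain ⟨z, hz⟩ := (IsAzumaya.bij (R := R) (A := A)).2
      ((leftIdeal R e).subtype ∘ₗ T ∘ₗ (LinearMap.mulRight R e).rangeRestrict)
    refine ⟨LinearMap.lTensor A (projOp he) z, LinearMap.ext fun x => Subtype.ext ?_⟩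
    have key : ∀ (z : A ⊗[R] Aᵐᵒᵖ), ((actLeftIdeal he (LinearMap.lTensor A (projOp he) z) x : leftIdeal R e) : A) =
        AlgHom.mulLeftRight R A z x * e := by
      intro z
      induction z using TensorProduct.induction_on with
      | zero => simp
      | add x y hx hy => simp only [map_add, LinearMap.add_apply, Submodule.coe_add, hx, hy, add_mul]
      | tmul a b =>
        rw [LinearMap.lTensor_tmul, actLeftIdeal_tmul, AlgHom.mulLeftRight_apply, unop_projOp]
        simp only [mul_assoc]
        rw [← mul_assoc (x : A) e, (mem_leftIdeal he).mp x.2]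
    rw [key, hz]
    show (T ((LinearMap.mulRight R e).rangeRestrict x) : A) * e = _
    rw [(mem_leftIdeal he).mp (T _).2]
    congr 2
    exact Subtype.ext ((mem_leftIdeal he).mp x.2)

theorem bijective_mulLeftRight_corner : Function.Bijective (AlgHom.mulLeftRight R (CornerAlg R he)) := by
  constructor
  · rw [injective_iff_map_eq_zero]
    intro z hz
    have key : ∀ (z : CornerAlg R he ⊗[R] (CornerAlg R he)ᵐᵒᵖ) (a : A),
        AlgHom.mulLeftRight R A (TensorProduct.map (CornerAlg.val he) (incOp he) z) a =
          CornerAlg.val he (AlgHom.mulLeftRight R (CornerAlg R he) z (CornerAlg.proj he a)) := by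
      intro z a
      induction z using TensorProduct.induction_on with
      | zero => simp
      | add x y hx hy => simp only [map_add, LinearMap.add_apply, hx, hy]
      | tmul x b =>
        rw [TensorProduct.map_tmul, AlgHom.mulLeftRight_apply, AlgHom.mulLeftRight_apply, unop_incOp,
          CornerAlg.val_mul, CornerAlg.val_mul, CornerAlg.val_proj]
        simp only [← mul_assoc]
        rw [CornerAlg.right_id, mul_assoc (CornerAlg.val he x * a) e, CornerAlg.left_id]
    have h0 : TensorProduct.map (CornerAlg.val he) (incOp he) z = 0 := (IsAzumaya.bij (R := R) (A := A)).1 (by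
      rw [map_zero]
      exact LinearMap.ext fun a => by rw [key, hz, LinearMap.zero_apply, LinearMap.zero_apply, map_zero])
    have := congrArg (TensorProduct.map (CornerAlg.proj (R := R) he) (projOp (R := R) he)) h0
    rwa [← LinearMap.comp_apply, ← TensorProduct.map_comp, projOp_comp_incOp,
      show CornerAlg.proj (R := R) he ∘ₗ CornerAlg.val he = LinearMap.id from LinearMap.ext (CornerAlg.proj_val he),
      TensorProduct.map_id, LinearMap.id_apply, map_zero] at this
  · intro T
    obtain ⟨z, hz⟩ := (IsAzumaya.bij (R := R) (A := A)).2 (CornerAlg.val he ∘ₗ T ∘ₗ CornerAlg.proj he)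
    refine ⟨TensorProduct.map (CornerAlg.proj he) (projOp he) z, LinearMap.ext fun x => CornerAlg.val_injective he ?_⟩
    have key : ∀ (z : A ⊗[R] Aᵐᵒᵖ),
        CornerAlg.val he (AlgHom.mulLeftRight R (CornerAlg R he) (TensorProduct.map (CornerAlg.proj he) (projOp he) z) x) =
        e * (AlgHom.mulLeftRight R A z (CornerAlg.val he x) * e) := by
      intro z
      induction z using TensorProduct.induction_on with
      | zero => simp
      | add x y hx hy => simp only [map_add, LinearMap.add_apply, hx, hy, add_mul, mul_add]
      | tmul a b =>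
        rw [TensorProduct.map_tmul, AlgHom.mulLeftRight_apply, AlgHom.mulLeftRight_apply, CornerAlg.val_mul,
          CornerAlg.val_mul, CornerAlg.val_proj, unop_projOp]
        simp only [mul_assoc]
        rw [← mul_assoc e (CornerAlg.val he x), CornerAlg.left_id, ← mul_assoc (CornerAlg.val he x) e,
          CornerAlg.right_id]
    rw [key, hz, LinearMap.comp_apply, LinearMap.comp_apply, CornerAlg.proj_val, CornerAlg.right_id, CornerAlg.left_id]

theorem finite_projective_corner : Module.Finite R (CornerAlg R he) ∧ Module.Projective R (CornerAlg R he) :=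
  ⟨Module.Finite.of_surjective (CornerAlg.proj he) fun b => ⟨_, CornerAlg.proj_val he b⟩,
    Module.Projective.of_split (CornerAlg.val he) (CornerAlg.proj he) (LinearMap.ext (CornerAlg.proj_val he))⟩

include he in
theorem finite_projective_leftIdeal : Module.Finite R (leftIdeal R e) ∧ Module.Projective R (leftIdeal R e) :=
  ⟨Module.Finite.range _, Module.Projective.of_split (leftIdeal R e).subtype (LinearMap.mulRight R e).rangeRestrict
    (LinearMap.ext fun x => Subtype.ext ((mem_leftIdeal he).mp x.2))⟩

end Groth.Agent.CSA
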