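import Groth.Agent.CSA.Index
import Groth.Agent.CSA.IndexRank
import Mathlib.FieldTheory.Galois.Basic
import Mathlib.RingTheory.Norm.Basic
import Mathlib.RingTheory.Norm.Transitivity
import Mathlib.GroupTheory.SpecificGroups.Cyclic

/-!
# Cyclic algebras

Normal form `∑ yⁱ ι(cᵢ)`, structure, isomorphism classes and splitting.
-/

namespace Groth.Agent.CSA

set_option linter.style.haveILetI false
set_option linter.unusedSectionVars false

open scoped TensorProduct
open TensorProduct

universe u v w w'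

variable {k : Type u} [Field k] {K : Type v} [Field K] [Algebra k K] [FiniteDimensional k K]
  [IsGalois k K] {σ : K ≃ₐ[k] K}

theorem sigma_order (hσ : ∀ τ : K ≃ₐ[k] K, τ ∈ Subgroup.zpowers σ) : orderOf σ = (Module.finrank k K) :=
  (orderOf_eq_card_of_forall_mem_zpowers hσ).trans (IsGalois.card_aut_eq_finrank k K)

theorem sigma_pow_deg (hσ : ∀ τ : K ≃ₐ[k] K, τ ∈ Subgroup.zpowers σ) : σ ^ (Module.finrank k K) = 1 := by
  rw [← sigma_order hσ]; exact pow_orderOf_eq_one σ

theorem sigma_pow_injective (hσ : ∀ τ : K ≃ₐ[k] K, τ ∈ Subgroup.zpowers σ) :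
    Function.Injective (fun i : Fin (Module.finrank k K) => σ ^ (i : ℕ)) := fun i j h =>
  Fin.ext (pow_injOn_Iio_orderOf (show (i : ℕ) ∈ Set.Iio (orderOf σ) by rw [sigma_order hσ]; exact i.2)
    (show (j : ℕ) ∈ Set.Iio (orderOf σ) by rw [sigma_order hσ]; exact j.2) h)

theorem sigma_pow_bijective (hσ : ∀ τ : K ≃ₐ[k] K, τ ∈ Subgroup.zpowers σ) :
    Function.Bijective (fun i : Fin (Module.finrank k K) => σ ^ (i : ℕ)) :=
  (Fintype.bijective_iff_injective_and_card _).2 ⟨sigma_pow_injective hσ, by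
    rw [Fintype.card_fin, ← Nat.card_eq_fintype_card, IsGalois.card_aut_eq_finrank]⟩

theorem mem_range_of_sigma_fixed (hσ : ∀ τ : K ≃ₐ[k] K, τ ∈ Subgroup.zpowers σ) {x : K} (hx : σ x = x) :
    x ∈ Set.range (algebraMap k K) := by
  rw [IsGalois.mem_range_algebraMap_iff_fixed]
  have hpow : ∀ n : ℕ, (σ ^ n) x = x := by
    intro n
    induction n with
    | zero => rfl
    | succ n ih => rw [pow_succ, AlgEquiv.mul_apply, hx, ih]
  intro τ
  obtain ⟨i, rfl⟩ := (sigma_pow_bijective hσ).2 τ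
  exact hpow i

theorem prod_sigma_pow (hσ : ∀ τ : K ≃ₐ[k] K, τ ∈ Subgroup.zpowers σ) (x : K) :
    ∏ i ∈ Finset.range (Module.finrank k K), (σ ^ i) x = algebraMap k K (Algebra.norm k x) := by
  rw [Algebra.norm_eq_prod_automorphisms, ← Fin.prod_univ_eq_prod_range,
    ← Fintype.prod_bijective _ (sigma_pow_bijective hσ) (fun i => (σ ^ (i : ℕ)) x) (fun τ => τ x)
      fun i => rfl]

section normalForm

variable {A : Type w} [Ring A] [Algebra k A]

/-- The normal form map `c ↦ ∑ yⁱ ι(cᵢ)`. -/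
noncomputable def crossedMap (ι : K →ₐ[k] A) (y : A) : (Fin (Module.finrank k K) → K) →ₗ[k] A :=
  ∑ i : Fin (Module.finrank k K), (LinearMap.mulLeft k (y ^ (i : ℕ))).comp (ι.toLinearMap.comp (LinearMap.proj i))

theorem crossedMap_apply (ι : K →ₐ[k] A) (y : A) (c : Fin (Module.finrank k K) → K) :
    crossedMap ι y c = ∑ i : Fin (Module.finrank k K), y ^ (i : ℕ) * ι (c i) := by
  simp [crossedMap]

theorem crossedMap_single (ι : K →ₐ[k] A) (y : A) (i : Fin (Module.finrank k K)) (a : K) :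
    crossedMap ι y (Pi.single i a) = y ^ (i : ℕ) * ι a := by
  rw [crossedMap_apply, Finset.sum_eq_single i (fun j _ hj => by simp [hj]) (by simp)]
  simp

variable {ι : K →ₐ[k] A} {y : A} (hy : ∀ x : K, ι x * y = y * ι (σ x))
include hy

theorem map_mul_pow (x : K) (n : ℕ) : ι x * y ^ n = y ^ n * ι ((σ ^ n) x) := by
  induction n generalizing x with
  | zero => simp
  | succ n ih =>
    rw [pow_succ', ← mul_assoc, hy, mul_assoc, ih, ← mul_assoc, ← pow_succ', pow_succ σ, AlgEquiv.mul_apply]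

theorem pow_mul_map_mul (i j : ℕ) (c d : K) :
    (y ^ i * ι c) * (y ^ j * ι d) = y ^ (i + j) * ι ((σ ^ j) c * d) := by
  rw [mul_assoc, ← mul_assoc (ι c), map_mul_pow hy, mul_assoc (y ^ j), ← map_mul, ← mul_assoc, ← pow_add]

theorem mul_map_pow (d : K) (n : ℕ) :
    (y * ι d) ^ n = y ^ n * ι (∏ i ∈ Finset.range n, (σ ^ i) d) := by
  induction n with
  | zero => simp
  | succ n ih =>
    rw [pow_succ', ih]
    have := pow_mul_map_mul hy 1 n d (∏ i ∈ Finset.range n, (σ ^ i) d)
    rw [pow_one] at this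
    rw [this, Finset.prod_range_succ, add_comm, mul_comm]

/-- An additive subgroup stable under multiplication by `ι K` which contains a nonzero normal
form contains a monomial. -/
theorem exists_monomial (hσ : ∀ τ : K ≃ₐ[k] K, τ ∈ Subgroup.zpowers σ) (P : AddSubgroup A)
    (hl : ∀ x, ∀ z ∈ P, ι x * z ∈ P) (hr : ∀ x, ∀ z ∈ P, z * ι x ∈ P) (c : Fin (Module.finrank k K) → K) (hc : c ≠ 0)
    (hP : crossedMap ι y c ∈ P) : ∃ i a, a ≠ 0 ∧ y ^ ((i : Fin (Module.finrank k K)) : ℕ) * ι a ∈ P := by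
  classical
  induction hn : (Finset.univ.filter fun i => c i ≠ 0).card using Nat.strong_induction_on generalizing c with
  | _ N ih =>
    subst hn
    obtain ⟨i₀, hi₀⟩ := Function.ne_iff.1 hc
    by_cases h1 : ∀ i, c i ≠ 0 → i = i₀
    · refine ⟨i₀, c i₀, hi₀, ?_⟩
      have : c = Pi.single i₀ (c i₀) := by
        funext j
        rcases eq_or_ne j i₀ with rfl | hj
        · simp
        · rw [Pi.single_eq_of_ne hj]; by_contra h; exact hj (h1 j h)
      rw [← crossedMap_single, ← this]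
      exact hP
    push Not at h1
    obtain ⟨i₁, hi₁, hne⟩ := h1
    obtain ⟨x, hx⟩ : ∃ x, (σ ^ (i₁ : ℕ)) x ≠ (σ ^ (i₀ : ℕ)) x := by
      by_contra h
      push Not at h
      exact hne (sigma_pow_injective hσ (AlgEquiv.ext h))
    let c' : Fin (Module.finrank k K) → K := fun i => c i * ((σ ^ (i : ℕ)) x - (σ ^ (i₀ : ℕ)) x)
    have hc' : crossedMap ι y c' = ι x * crossedMap ι y c - crossedMap ι y c * ι ((σ ^ (i₀ : ℕ)) x) := by
      simp only [crossedMap_apply, Finset.mul_sum, Finset.sum_mul, ← Finset.sum_sub_distrib]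
      refine Finset.sum_congr rfl fun i _ => ?_
      rw [← mul_assoc, map_mul_pow hy, mul_assoc, mul_assoc, ← map_mul, ← map_mul, ← mul_sub, ← map_sub]
      congr 2
      simp only [c']
      ring
    refine ih _ (Finset.card_lt_card ?_) c' (Function.ne_iff.2 ⟨i₁, mul_ne_zero hi₁ (sub_ne_zero.2 hx)⟩)
      (hc' ▸ P.sub_mem (hl _ _ hP) (hr _ _ hP)) rfl
    refine Finset.ssubset_iff_of_subset (fun i hi => ?_) |>.2 ⟨i₀, ?_, ?_⟩
    · simp only [Finset.mem_filter, Finset.mem_univ, true_and, c'] at hi ⊢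
      exact left_ne_zero_of_mul hi
    · simpa using hi₀
    · simp [c']

theorem crossedMap_injective [Nontrivial A] (hσ : ∀ τ : K ≃ₐ[k] K, τ ∈ Subgroup.zpowers σ)
    (hu : IsUnit y) : Function.Injective (crossedMap ι y) := by
  rw [injective_iff_map_eq_zero]
  intro c hc
  by_contra hne
  obtain ⟨i, a, ha, h⟩ := exists_monomial hy hσ ⊥ (fun x z hz => by simp [AddSubgroup.mem_bot.1 hz])
    (fun x z hz => by simp [AddSubgroup.mem_bot.1 hz]) c hne (AddSubgroup.mem_bot.2 hc)
  exact ((hu.pow _).mul ((IsUnit.mk0 a ha).map ι)).ne_zero (AddSubgroup.mem_bot.1 h)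

variable {b : k} (hb : y ^ (Module.finrank k K) = algebraMap k A b)
include hb

theorem pow_mul_map_eq (n : ℕ) (c : K) :
    y ^ n * ι c = y ^ (n % (Module.finrank k K)) * ι (algebraMap k K (b ^ (n / (Module.finrank k K))) * c) := by
  rw [map_mul, AlgHom.commutes, ← mul_assoc, map_pow, ← hb, ← pow_mul, ← pow_add, Nat.mod_add_div]

theorem pow_mul_map_mem_range (n : ℕ) (c : K) : y ^ n * ι c ∈ LinearMap.range (crossedMap ι y) := by
  refine ⟨Pi.single ⟨n % (Module.finrank k K), Nat.mod_lt _ Module.finrank_pos⟩ (algebraMap k K (b ^ (n / (Module.finrank k K))) * c), ?_⟩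
  rw [crossedMap_single]
  exact (pow_mul_map_eq hy hb n c).symm

theorem range_crossedMap_eq :
    LinearMap.range (crossedMap ι y) = Subalgebra.toSubmodule (Algebra.adjoin k (Set.range ι ∪ {y})) := by
  let S : Subalgebra k A :=
    { carrier := LinearMap.range (crossedMap ι y)
      one_mem' := by simpa using pow_mul_map_mem_range hy hb 0 1
      mul_mem' := by
        rintro _ _ ⟨c, rfl⟩ ⟨d, rfl⟩
        rw [crossedMap_apply, crossedMap_apply, Finset.sum_mul]
        refine Submodule.sum_mem _ fun i _ => ?_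
        rw [Finset.mul_sum]
        refine Submodule.sum_mem _ fun j _ => ?_
        rw [pow_mul_map_mul hy]
        exact pow_mul_map_mem_range hy hb _ _
      zero_mem' := Submodule.zero_mem _
      add_mem' := fun h h' => Submodule.add_mem _ h h'
      algebraMap_mem' := fun r => by
        have := pow_mul_map_mem_range hy hb 0 (algebraMap k K r)
        simpa using this }
  refine le_antisymm ?_ ?_
  · rintro _ ⟨c, rfl⟩
    rw [crossedMap_apply]
    exact Subalgebra.sum_mem _ fun i _ => Subalgebra.mul_mem _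
      (Subalgebra.pow_mem _ (Algebra.subset_adjoin (R := k) (s := Set.range ι ∪ {y}) (Or.inr rfl)) _)
      (Algebra.subset_adjoin (R := k) (s := Set.range ι ∪ {y}) (Or.inl ⟨_, rfl⟩))
  · intro z hz
    have hsub : Set.range ι ∪ {y} ⊆ (S : Set A) := Set.union_subset
      (by rintro _ ⟨x, rfl⟩; simpa [S] using pow_mul_map_mem_range hy hb 0 x)
      (Set.singleton_subset_iff.2 (by simpa [S] using pow_mul_map_mem_range hy hb 1 1))
    exact Algebra.adjoin_le hsub hz

end normalForm

section structure'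

variable {A : Type w} [Ring A] [Algebra k A] {b : kˣ}

theorem isUnit_of_pow_eq {y : A} (hb : y ^ (Module.finrank k K) = algebraMap k A (b : k)) : IsUnit y :=
  (isUnit_pow_iff Module.finrank_pos.ne').1 (hb ▸ b.isUnit.map _)

/-- A presentation is recognised by its dimension. -/
theorem isCyclicAlg_of (hσ : ∀ τ : K ≃ₐ[k] K, τ ∈ Subgroup.zpowers σ) (ι : K →ₐ[k] A) (y : A)
    (hb : y ^ (Module.finrank k K) = algebraMap k A (b : k)) (hy : ∀ x : K, ι x * y = y * ι (σ x))
    (hA : Module.finrank k A = (Module.finrank k K) ^ 2) :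
    CSAGal.IsCyclicAlg k K σ b A ∧ Function.Bijective (crossedMap ι y) := by
  have hpos : 0 < Module.finrank k A := by rw [hA]; exact pow_pos Module.finrank_pos 2
  haveI := Module.finite_of_finrank_pos hpos
  haveI := Module.nontrivial_of_finrank_pos hpos
  have hinj := crossedMap_injective hy hσ (isUnit_of_pow_eq hb)
  have hbij : Function.Bijective (crossedMap ι y) := ⟨hinj,
    (LinearMap.injective_iff_surjective_of_finrank_eq_finrank (by
      rw [Module.finrank_pi_fintype, Finset.sum_const, Finset.card_univ, Fintype.card_fin, smul_eq_mul, hA, sq])).1 hinj⟩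
  refine ⟨⟨ι, y, hb, hy, ?_, Module.finrank_pos, hA⟩, hbij⟩
  apply Subalgebra.toSubmodule_injective
  rw [← range_crossedMap_eq hy hb, LinearMap.range_eq_top.2 hbij.2, Algebra.top_toSubmodule]

theorem isCyclicAlg_congr (hσ : ∀ τ : K ≃ₐ[k] K, τ ∈ Subgroup.zpowers σ) {B : Type w'} [Ring B]
    [Algebra k B] (e : A ≃ₐ[k] B) (hA : CSAGal.IsCyclicAlg k K σ b A) :
    CSAGal.IsCyclicAlg k K σ b B := by
  obtain ⟨ι, y, hb, hy, -, -, hdim⟩ := hA
  exact (isCyclicAlg_of hσ (e.toAlgHom.comp ι) (e y) (by rw [← map_pow, hb, e.commutes])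
    (fun x => by simp [← map_mul, hy]) (e.toLinearEquiv.finrank_eq ▸ hdim)).1

theorem cyclic_isCSA (hσ : ∀ τ : K ≃ₐ[k] K, τ ∈ Subgroup.zpowers σ)
    (h : CSAGal.IsCyclicAlg k K σ b A) : IsCSA k A := by
  obtain ⟨ι, y, hb, hy, -, hm, hdim⟩ := h
  obtain ⟨-, hbij⟩ := isCyclicAlg_of hσ ι y hb hy hdim
  have hpos : 0 < Module.finrank k A := by rw [hdim]; exact pow_pos Module.finrank_pos 2
  haveI := Module.finite_of_finrank_pos hpos
  haveI := Module.nontrivial_of_finrank_pos hpos
  have hu := isUnit_of_pow_eq hb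
  have hcentral : Algebra.IsCentral k A := ⟨fun z hz => by
    rw [Subalgebra.mem_center_iff] at hz
    obtain ⟨c, rfl⟩ := hbij.2 z
    let i₀ : Fin (Module.finrank k K) := ⟨0, hm⟩
    have hc0 : ∀ i, i ≠ i₀ → c i = 0 := by
      intro i hi
      obtain ⟨x, hx⟩ : ∃ x, (σ ^ (i : ℕ)) x ≠ x := by
        by_contra h
        push Not at h
        exact hi (sigma_pow_injective hσ (AlgEquiv.ext fun x => (h x).trans (by simp [i₀])))
      have h1 : crossedMap ι y (fun j => (σ ^ (j : ℕ)) x * c j) = crossedMap ι y (fun j => c j * x) := by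
        have := hz (ι x)
        rw [crossedMap_apply, Finset.mul_sum, Finset.sum_mul] at this
        simp only [← mul_assoc, map_mul_pow hy] at this
        simp only [mul_assoc, ← map_mul] at this
        rw [crossedMap_apply, crossedMap_apply]
        exact this
      have h2 := congrFun (hbij.1 h1) i
      by_contra hne
      exact hx (mul_right_cancel₀ hne (h2.trans (mul_comm _ _)))
    have hz' : crossedMap ι y c = ι (c i₀) := by
      rw [crossedMap_apply, Finset.sum_eq_single i₀ (fun i _ hi => by simp [hc0 i hi]) (by simp)]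
      simp [i₀]
    have h3 := hz y
    rw [hz', hy] at h3
    have h4 : σ (c i₀) = c i₀ := ι.injective (hu.mul_left_cancel h3.symm)
    obtain ⟨r, hr⟩ := mem_range_of_sigma_fixed hσ h4
    exact Algebra.mem_bot.2 ⟨r, by rw [hz', ← hr, AlgHom.commutes]⟩⟩
  have hsimple : IsSimpleRing A := IsSimpleRing.of_eq_bot_or_eq_top fun I => by
    by_cases hI : I = ⊥
    · exact Or.inl hI
    refine Or.inr ?_
    obtain ⟨z, hz, hz0⟩ : ∃ z, z ∈ I ∧ z ≠ 0 := by
      by_contra h
      push Not at h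
      exact hI (TwoSidedIdeal.ext fun z => ⟨fun hz => by simp [h z hz],
        fun hz => by rw [show z = 0 by simpa using hz]; exact I.zero_mem⟩)
    obtain ⟨c, rfl⟩ := hbij.2 z
    let P : AddSubgroup A :=
      { carrier := I, zero_mem' := I.zero_mem, add_mem' := I.add_mem, neg_mem' := I.neg_mem }
    obtain ⟨i, a, ha, h⟩ := exists_monomial hy hσ P (fun x z hz => I.mul_mem_left (ι x) z hz)
      (fun x z hz => I.mul_mem_right z (ι x) hz) c (fun h => hz0 (by rw [h, map_zero])) hz
    obtain ⟨v, hv⟩ := (hu.pow (i : ℕ)).mul ((IsUnit.mk0 a ha).map ι)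
    rw [← TwoSidedIdeal.one_mem_iff, ← Units.inv_mul v, hv]
    exact I.mul_mem_left _ _ h
  exact { central := hcentral, simple := hsimple }

theorem cyclic_splits (hσ : ∀ τ : K ≃ₐ[k] K, τ ∈ Subgroup.zpowers σ)
    (h : CSAGal.IsCyclicAlg k K σ b A) : Curves.Splits k A K := by
  haveI := cyclic_isCSA hσ h
  obtain ⟨ι, y, -, -, -, -, hdim⟩ := h
  obtain ⟨e⟩ := nonempty_algEquiv_matrix_of_subfield k A K ι hdim.symm
  exact ⟨_, Module.finrank_pos.ne', ⟨e⟩⟩

theorem cyclic_algEquiv (hσ : ∀ τ : K ≃ₐ[k] K, τ ∈ Subgroup.zpowers σ) {B : Type w'} [Ring B] [Algebra k B]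
    (hA : CSAGal.IsCyclicAlg k K σ b A) (hB : CSAGal.IsCyclicAlg k K σ b B) :
    Nonempty (A ≃ₐ[k] B) := by
  obtain ⟨ι, y, hb, hy, -, -, hdim⟩ := hA
  obtain ⟨ι', y', hb', hy', -, -, hdim'⟩ := hB
  obtain ⟨-, hbij⟩ := isCyclicAlg_of hσ ι y hb hy hdim
  obtain ⟨-, hbij'⟩ := isCyclicAlg_of hσ ι' y' hb' hy' hdim'
  let e₁ := LinearEquiv.ofBijective (crossedMap ι y) hbij
  let e₂ := LinearEquiv.ofBijective (crossedMap ι' y') hbij'
  let e := e₁.symm.trans e₂
  have hmon : ∀ n c, e (y ^ n * ι c) = y' ^ n * ι' c := by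
    intro n c
    rw [pow_mul_map_eq hy hb, pow_mul_map_eq hy' hb']
    have h1 : e₁.symm (y ^ (n % (Module.finrank k K)) * ι (algebraMap k K ((b : k) ^ (n / (Module.finrank k K))) * c)) =
        Pi.single ⟨n % (Module.finrank k K), Nat.mod_lt _ Module.finrank_pos⟩ (algebraMap k K ((b : k) ^ (n / (Module.finrank k K))) * c) := by
      rw [LinearEquiv.symm_apply_eq]
      change _ = crossedMap ι y _
      rw [crossedMap_single]
    change e₂ (e₁.symm _) = _
    rw [h1]
    exact crossedMap_single ι' y' _ _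
  refine ⟨AlgEquiv.ofLinearEquiv e ?_ fun z z' => ?_⟩
  · simpa using hmon 0 1
  · obtain ⟨c, rfl⟩ := hbij.2 z
    obtain ⟨c', rfl⟩ := hbij.2 z'
    simp only [crossedMap_apply, Finset.sum_mul, Finset.mul_sum, map_sum, pow_mul_map_mul hy, hmon,
      pow_mul_map_mul hy']

theorem cyclic_twist (hσ : ∀ τ : K ≃ₐ[k] K, τ ∈ Subgroup.zpowers σ) (h : CSAGal.IsCyclicAlg k K σ b A)
    (d : Kˣ) : CSAGal.IsCyclicAlg k K σ (b * Units.map (Algebra.norm k) d) A := by
  obtain ⟨ι, y, hb, hy, -, -, hdim⟩ := h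
  refine (isCyclicAlg_of hσ ι (y * ι (d : K)) ?_ (fun x => ?_) hdim).1
  · rw [mul_map_pow hy, prod_sigma_pow hσ, hb, AlgHom.commutes, ← map_mul]
    rfl
  · rw [← mul_assoc, hy, mul_assoc, mul_assoc, ← map_mul, ← map_mul, mul_comm (σ x)]

end structure'

section model

variable (hσ : ∀ τ : K ≃ₐ[k] K, τ ∈ Subgroup.zpowers σ)
include hσ

theorem end_relation (x : K) :
    Algebra.lmul k K x * σ.symm.toLinearMap = σ.symm.toLinearMap * Algebra.lmul k K (σ x) := by
  refine LinearMap.ext fun z => ?_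
  change x * σ.symm z = σ.symm (σ x * z)
  rw [map_mul, AlgEquiv.symm_apply_apply]

theorem end_pow : (σ.symm.toLinearMap : Module.End k K) ^ (Module.finrank k K) = 1 := by
  have hpow : ∀ n : ℕ, (σ.symm.toLinearMap : Module.End k K) ^ n = (σ.symm ^ n).toLinearMap := by
    intro n
    induction n with
    | zero => rfl
    | succ n ih => rw [pow_succ, ih, pow_succ]; rfl
  have h : σ.symm ^ (Module.finrank k K) = 1 := by
    rw [show σ.symm = σ⁻¹ from rfl, inv_pow, sigma_pow_deg hσ, inv_one]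
  rw [hpow, h]
  rfl

theorem end_isCyclicAlg : CSAGal.IsCyclicAlg k K σ 1 (Module.End k K) :=
  (isCyclicAlg_of hσ (Algebra.lmul k K) σ.symm.toLinearMap
    (by rw [end_pow hσ, Units.val_one, map_one]) (end_relation hσ)
    (by rw [Module.finrank_linearMap, sq])).1

theorem end_brEq : BrEq k (Module.End k K) k :=
  BrEq.of_exists_matrix Module.finrank_pos.ne' (algEquivMatrix (Module.finBasis k K))

/-- A cyclic algebra splits exactly when its parameter is a norm. -/
theorem cyclic_brEq_one_iff {A : Type w} [Ring A] [Algebra k A] {b : kˣ}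
    (h : CSAGal.IsCyclicAlg k K σ b A) : BrEq k A k ↔ ∃ x : K, Algebra.norm k x = (b : k) := by
  haveI := cyclic_isCSA hσ h
  constructor
  · intro hA
    haveI : IsCSA k (Module.End k K) := cyclic_isCSA hσ (end_isCyclicAlg hσ)
    obtain ⟨ι, y, hb, hy, -, -, hdim⟩ := h
    obtain ⟨e⟩ := (hA.trans (end_brEq hσ).symm).algEquiv_of_finrank_eq
      (hdim.trans (by rw [Module.finrank_linearMap, sq]))
    obtain ⟨u, hu⟩ := skolem_noether k (e.toAlgHom.comp ι) (Algebra.lmul k K)
    let y₂ : Module.End k K := (u : Module.End k K) * e y * (u⁻¹ : (Module.End k K)ˣ)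
    have hy₂ : ∀ x, Algebra.lmul k K x * y₂ = y₂ * Algebra.lmul k K (σ x) := fun x => by
      rw [hu x, hu (σ x)]
      simp only [y₂, AlgHom.comp_apply, AlgEquiv.coe_toAlgHom, mul_assoc,
        Units.inv_mul_cancel_left]
      rw [← mul_assoc (e _) (e y), ← map_mul, hy, map_mul, mul_assoc]
    have hb₂ : y₂ ^ (Module.finrank k K) = algebraMap k _ (b : k) := by
      change ((u : Module.End k K) * e y * (u⁻¹ : (Module.End k K)ˣ)) ^ _ = _
      rw [Units.conj_pow, ← map_pow, hb, e.commutes, ← Algebra.commutes, mul_assoc, Units.mul_inv, mul_one]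
    have hform : y₂ = σ.symm.toLinearMap * Algebra.lmul k K (σ (y₂ 1)) := by
      refine LinearMap.ext fun z => ?_
      have := LinearMap.congr_fun (hy₂ (σ.symm z)) 1
      change σ.symm z * y₂ 1 = y₂ (σ (σ.symm z) * 1) at this
      rw [mul_one, AlgEquiv.apply_symm_apply] at this
      rw [← this]
      change _ = σ.symm (σ (y₂ 1) * z)
      rw [map_mul, AlgEquiv.symm_apply_apply, mul_comm]
    refine ⟨σ (y₂ 1), ?_⟩
    rw [hform, mul_map_pow (end_relation hσ), prod_sigma_pow hσ, end_pow hσ, one_mul, AlgHom.commutes] at hb₂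
    haveI : Nontrivial (Module.End k K) := IsSimpleRing.instNontrivial
    exact (algebraMap k (Module.End k K)).injective hb₂
  · rintro ⟨x, hx⟩
    have hx0 : x ≠ 0 := by rintro rfl; exact b.ne_zero (by rw [← hx, Algebra.norm_zero])
    have h' := cyclic_twist hσ (end_isCyclicAlg hσ) (Units.mk0 x hx0)
    rw [show (1 : kˣ) * Units.map (Algebra.norm k) (Units.mk0 x hx0) = b from Units.ext (by simpa using hx)] at h'
    obtain ⟨e⟩ := cyclic_algEquiv hσ h h'
    exact (BrEq.of_algEquiv k e).trans (end_brEq hσ)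

/-- An algebra of degree `[K : k]` containing `K` is cyclic. -/
theorem exists_isCyclicAlg_of_subfield {A : Type w} [Ring A] [Algebra k A] [IsCSA k A] (ι : K →ₐ[k] A)
    (hdim : Module.finrank k A = (Module.finrank k K) ^ 2) :
    ∃ (y : Aˣ) (b : kˣ), (∀ x, ι x * y = y * ι (σ x)) ∧ (y : A) ^ (Module.finrank k K) = algebraMap k A (b : k) ∧
      CSAGal.IsCyclicAlg k K σ b A := by
  obtain ⟨u, hu⟩ := skolem_noether k (ι.comp σ.toAlgHom) ι
  have hy : ∀ x, ι x * (u : A) = (u : A) * ι (σ x) := fun x => by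
    rw [hu x, mul_assoc, mul_assoc, Units.inv_mul, mul_one]
    rfl
  haveI : Nontrivial A := IsSimpleRing.instNontrivial
  have hinj := crossedMap_injective hy hσ u.isUnit
  have hsurj : Function.Surjective (crossedMap ι (u : A)) :=
    (LinearMap.injective_iff_surjective_of_finrank_eq_finrank (by
      rw [Module.finrank_pi_fintype, Finset.sum_const, Finset.card_univ, Fintype.card_fin, smul_eq_mul, hdim, sq])).1 hinj
  have hcomm : ∀ x, Commute (ι x) ((u : A) ^ (Module.finrank k K)) := fun x => by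
    have := map_mul_pow hy x (Module.finrank k K)
    rwa [sigma_pow_deg hσ, AlgEquiv.one_apply] at this
  have hcen : (u : A) ^ (Module.finrank k K) ∈ Subalgebra.center k A := by
    refine Subalgebra.mem_center_iff.2 fun z => ?_
    obtain ⟨c, rfl⟩ := hsurj z
    rw [crossedMap_apply]
    exact Commute.sum_left _ _ _ fun i _ => (Commute.pow_pow_self _ _ _).mul_left (hcomm _)
  rw [Algebra.IsCentral.center_eq_bot] at hcen
  obtain ⟨r, hr⟩ := Algebra.mem_bot.1 hcen
  have hr0 : r ≠ 0 := by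
    rintro rfl
    exact (u.isUnit.pow (Module.finrank k K)).ne_zero (by rw [← hr, map_zero])
  exact ⟨u, Units.mk0 r hr0, hy, hr.symm, (isCyclicAlg_of hσ ι (u : A) (b := Units.mk0 r hr0) hr.symm hy hdim).1⟩

end model

section companion

theorem fin_mod_lt (m : ℕ) (j : Fin m) (n : ℕ) : (j + n) % m < m := Nat.mod_lt _ j.pos

/-- The companion matrix of `X ^ m - b`. -/
noncomputable def cyclicGen (b : k) : Matrix (Fin (Module.finrank k K)) (Fin (Module.finrank k K)) K :=
  Matrix.of fun i j => if (i : ℕ) = ((j : ℕ) + 1) % (Module.finrank k K) then algebraMap k K b ^ (((j : ℕ) + 1) / (Module.finrank k K)) else 0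

theorem cyclicGen_pow (b : k) (n : ℕ) (i j : Fin (Module.finrank k K)) :
    ((cyclicGen b : Matrix (Fin (Module.finrank k K)) (Fin (Module.finrank k K)) K) ^ n) i j =
      if (i : ℕ) = ((j : ℕ) + n) % (Module.finrank k K) then algebraMap k K b ^ (((j : ℕ) + n) / (Module.finrank k K)) else 0 := by
  induction n generalizing i with
  | zero =>
    rw [pow_zero, Matrix.one_apply, Nat.add_zero, Nat.mod_eq_of_lt j.2, Nat.div_eq_of_lt j.2, pow_zero]
    simp [Fin.ext_iff]
  | succ n ih =>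
    rw [pow_succ', Matrix.mul_apply, Finset.sum_eq_single ⟨((j : ℕ) + n) % (Module.finrank k K), fin_mod_lt _ j n⟩
      (fun l _ hl => by rw [ih, if_neg (fun h => hl (Fin.ext h)), mul_zero]) (by simp),
      ih, if_pos rfl]
    simp only [cyclicGen, Matrix.of_apply, Nat.mod_add_mod, ← add_assoc]
    split_ifs with h
    · rw [← pow_add]
      congr 1
      have hm : 0 < (Module.finrank k K) := Module.finrank_pos
      conv_rhs => rw [← Nat.mod_add_div ((j : ℕ) + n) (Module.finrank k K), show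
        ((j : ℕ) + n) % (Module.finrank k K) + (Module.finrank k K) * (((j : ℕ) + n) / (Module.finrank k K)) + 1 =
          ((j : ℕ) + n) % (Module.finrank k K) + 1 + (Module.finrank k K) * (((j : ℕ) + n) / (Module.finrank k K)) by omega,
        Nat.add_mul_div_left _ _ hm]
    · rw [zero_mul]

theorem cyclicGen_pow_deg (b : k) :
    (cyclicGen b : Matrix (Fin (Module.finrank k K)) (Fin (Module.finrank k K)) K) ^ (Module.finrank k K) = algebraMap k _ b := by
  ext i j
  rw [cyclicGen_pow, Matrix.algebraMap_matrix_apply, Nat.add_mod_right, Nat.mod_eq_of_lt j.2,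
    Nat.add_div_right _ Module.finrank_pos, Nat.div_eq_of_lt j.2, pow_one]
  simp [Fin.ext_iff]

/-- The twisted diagonal embedding. -/
noncomputable def cyclicEmb (σ : K ≃ₐ[k] K) : K →ₐ[k] Matrix (Fin (Module.finrank k K)) (Fin (Module.finrank k K)) K :=
  (Matrix.diagonalAlgHom k).comp (AlgHom.pi fun i => (σ ^ (i : ℕ)).toAlgHom)

theorem cyclicEmb_apply (σ : K ≃ₐ[k] K) (x : K) :
    cyclicEmb σ x = Matrix.diagonal fun i : Fin (Module.finrank k K) => (σ ^ (i : ℕ)) x := rfl

theorem cyclicGen_relation (hσ : ∀ τ : K ≃ₐ[k] K, τ ∈ Subgroup.zpowers σ) (b : k) (x : K) :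
    cyclicEmb σ x * cyclicGen b = cyclicGen b * cyclicEmb σ (σ x) := by
  ext i j
  rw [cyclicEmb_apply, cyclicEmb_apply, Matrix.diagonal_mul, Matrix.mul_diagonal]
  simp only [cyclicGen, Matrix.of_apply]
  split_ifs with h
  · have : (σ ^ (i : ℕ)) x = (σ ^ (j : ℕ)) (σ x) := by
      rw [h, ← AlgEquiv.mul_apply, ← pow_succ, ← pow_mod_orderOf σ ((j : ℕ) + 1), sigma_order hσ]
    rw [this, mul_comm]
  · rw [mul_zero, zero_mul]

/-- The model cyclic algebra inside the matrices over `K`. -/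
noncomputable def cyclicModel (σ : K ≃ₐ[k] K) (b : k) :
    Subalgebra k (Matrix (Fin (Module.finrank k K)) (Fin (Module.finrank k K)) K) :=
  Algebra.adjoin k (Set.range (cyclicEmb σ) ∪ {cyclicGen b})

theorem cyclicModel_isCyclicAlg (hσ : ∀ τ : K ≃ₐ[k] K, τ ∈ Subgroup.zpowers σ) (b : kˣ) :
    CSAGal.IsCyclicAlg k K σ b (cyclicModel σ (b : k)) := by
  let B := cyclicModel σ (b : k)
  let ι : K →ₐ[k] B := (cyclicEmb σ).codRestrict B fun x => Algebra.subset_adjoin (Or.inl ⟨x, rfl⟩)
  let y : B := ⟨cyclicGen (b : k), Algebra.subset_adjoin (Or.inr rfl)⟩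
  haveI : Nonempty (Fin (Module.finrank k K)) := ⟨⟨0, Module.finrank_pos⟩⟩
  refine (isCyclicAlg_of hσ ι y (Subtype.ext ?_) (fun x => Subtype.ext (cyclicGen_relation hσ _ x)) ?_).1
  · exact cyclicGen_pow_deg (b : k)
  · have h := range_crossedMap_eq (ι := cyclicEmb σ) (y := cyclicGen (b : k)) (cyclicGen_relation hσ _)
      (cyclicGen_pow_deg (b : k))
    change Module.finrank k (Subalgebra.toSubmodule B) = _
    rw [show Subalgebra.toSubmodule B = LinearMap.range (crossedMap (cyclicEmb σ) (cyclicGen (b : k))) from h.symm,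
      LinearMap.finrank_range_of_inj (crossedMap_injective (cyclicGen_relation hσ _) hσ
        (isUnit_of_pow_eq (cyclicGen_pow_deg (b : k)))),
      Module.finrank_pi_fintype, Finset.sum_const, Finset.card_univ, Fintype.card_fin, smul_eq_mul, sq]

end companion

section tensor

variable (hσ : ∀ τ : K ≃ₐ[k] K, τ ∈ Subgroup.zpowers σ)
include hσ

/-- `K ⊗ K ≅ K^Gal`. -/
theorem galoisSplit_bijective :
    Function.Bijective (AlgHom.pi fun τ : K ≃ₐ[k] K =>
      Algebra.TensorProduct.lift (AlgHom.id k K) τ.toAlgHom fun _ _ => Commute.all _ _ : K ⊗[k] K →ₐ[k] _) := by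
  classical
  let Ψ : K ⊗[k] K →ₐ[k] ((K ≃ₐ[k] K) → K) := AlgHom.pi fun τ : K ≃ₐ[k] K =>
    Algebra.TensorProduct.lift (AlgHom.id k K) τ.toAlgHom fun _ _ => Commute.all _ _
  have hΨ : ∀ (l : K) z, Ψ ((l ⊗ₜ 1) * z) = l • Ψ z := fun l z => by
    funext τ
    simp [Ψ]
  have hsurj : Function.Surjective Ψ := by
    let R : Submodule K ((K ≃ₐ[k] K) → K) :=
      { carrier := Set.range Ψ
        zero_mem' := ⟨0, map_zero _⟩
        add_mem' := by rintro _ _ ⟨a, rfl⟩ ⟨b, rfl⟩; exact ⟨a + b, map_add _ _ _⟩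
        smul_mem' := by rintro l _ ⟨a, rfl⟩; exact ⟨(l ⊗ₜ 1) * a, hΨ l a⟩ }
    suffices R = ⊤ by
      intro f
      exact (show f ∈ R by rw [this]; exact Submodule.mem_top)
    by_contra hne
    obtain ⟨φ, hφ0, hφ⟩ := Submodule.exists_dual_map_eq_bot_of_lt_top (lt_top_iff_ne_top.2 hne) inferInstance
    have hli : LinearIndependent K fun τ : K ≃ₐ[k] K => (τ.toAlgHom.toLinearMap : K →ₗ[k] K) :=
      (linearIndependent_toLinearMap k K K).comp AlgEquiv.toAlgHom fun a b h =>
        AlgEquiv.ext fun x => DFunLike.congr_fun h x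
    have hsum : ∑ τ, φ (Pi.single τ 1) • (τ.toAlgHom.toLinearMap : K →ₗ[k] K) = 0 := by
      refine LinearMap.ext fun z => ?_
      have h1 : φ (Ψ (1 ⊗ₜ z)) = 0 :=
        (Submodule.mem_bot K).1 (hφ ▸ Submodule.mem_map_of_mem (show Ψ (1 ⊗ₜ z) ∈ R from ⟨_, rfl⟩))
      rw [pi_eq_sum_univ (Ψ (1 ⊗ₜ z)), map_sum] at h1
      refine Eq.trans ?_ h1
      rw [LinearMap.sum_apply]
      refine Finset.sum_congr rfl fun τ _ => ?_
      rw [map_smul, LinearMap.smul_apply, smul_eq_mul, smul_eq_mul, mul_comm]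
      congr 1
      · simp [Ψ]
      · congr 1
        funext j
        simp [Pi.single_apply, eq_comm]
    refine hφ0 (LinearMap.ext fun f => ?_)
    rw [pi_eq_sum_univ f, map_sum, map_sum]
    refine Finset.sum_congr rfl fun τ _ => ?_
    rw [map_smul, map_smul, LinearMap.zero_apply, smul_zero]
    convert smul_zero (f τ)
    rw [show (fun j => if τ = j then (1 : K) else 0) = Pi.single τ 1 from funext fun j => by
      simp [Pi.single_apply, eq_comm]]
    exact Fintype.linearIndependent_iff.1 hli (fun τ => φ (Pi.single τ 1)) hsum τ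
  have hfin : Module.finrank k (K ⊗[k] K) = Module.finrank k ((K ≃ₐ[k] K) → K) := by
    rw [Module.finrank_tensorProduct, Module.finrank_pi_fintype, Finset.sum_const, Finset.card_univ,
      smul_eq_mul, ← Nat.card_eq_fintype_card, IsGalois.card_aut_eq_finrank]
  have hinj : Function.Injective Ψ.toLinearMap :=
    (LinearMap.injective_iff_surjective_of_finrank_eq_finrank hfin (f := Ψ.toLinearMap)).2 hsurj
  exact ⟨hinj, hsurj⟩

omit [FiniteDimensional k K] [IsGalois k K] hσ in
/-- Orthogonal idempotents as many as the size have rank one. -/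
theorem rank_one_of_orthogonal {L : Type*} [Field L] {n : Type*} [Fintype n] [DecidableEq n] {I : Type*}
    [Fintype I] [DecidableEq I] (hcard : Fintype.card I = Fintype.card n) (E : I → Matrix n n L)
    (hE : ∀ i, E i * E i = E i) (horth : ∀ i j, i ≠ j → E i * E j = 0) (hsum : ∑ i, E i = 1)
    (hne : ∀ i, E i ≠ 0) (i : I) : Module.finrank L (LinearMap.range (E i).vecMulLinear) = 1 := by
  let Φ : (n → L) →ₗ[L] Π i, LinearMap.range (E i).vecMulLinear :=
    LinearMap.pi fun i => (E i).vecMulLinear.rangeRestrict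
  have hinj : Function.Injective Φ := by
    rw [injective_iff_map_eq_zero]
    intro v hv
    have h : ∀ i, Matrix.vecMul v (E i) = 0 := fun i => congrArg Subtype.val (congrFun hv i)
    rw [← Matrix.vecMul_one v, ← hsum, Matrix.vecMul_sum]
    exact Finset.sum_eq_zero fun i _ => h i
  have hsurj : Function.Surjective Φ := by
    intro r
    choose z hz using fun i => (r i).2
    refine ⟨∑ j, Matrix.vecMul (z j) (E j), funext fun i => Subtype.ext ?_⟩
    change Matrix.vecMul (∑ j, Matrix.vecMul (z j) (E j)) (E i) = _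
    rw [Matrix.sum_vecMul, Finset.sum_eq_single i (fun j _ hj => by
      rw [Matrix.vecMul_vecMul, horth j i hj, Matrix.vecMul_zero]) (by simp), Matrix.vecMul_vecMul, hE i]
    exact hz i
  have htot := (LinearEquiv.ofBijective Φ ⟨hinj, hsurj⟩).finrank_eq
  rw [Module.finrank_fintype_fun_eq_card, Module.finrank_pi_fintype, ← hcard] at htot
  have hpos : ∀ j, 1 ≤ Module.finrank L (LinearMap.range (E j).vecMulLinear) := fun j => by
    rw [Nat.one_le_iff_ne_zero, ne_eq, Submodule.finrank_eq_zero, LinearMap.range_eq_bot]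
    intro h
    refine hne j (Matrix.ext fun a c => ?_)
    have := congrFun (LinearMap.congr_fun h (Pi.single a 1)) c
    rw [Matrix.vecMulLinear_apply, Matrix.single_one_vecMul] at this
    exact this
  exact ((Finset.sum_eq_sum_iff_of_le fun j _ => hpos j).1 (by simpa using htot) i (Finset.mem_univ i)).symm

/-- The product of two cyclic algebras. -/
theorem cyclic_tensor {A : Type w} [Ring A] [Algebra k A] {A' : Type w'} [Ring A'] [Algebra k A']
    {A'' : Type*} [Ring A''] [Algebra k A''] {b b' : kˣ} (hA : CSAGal.IsCyclicAlg k K σ b A)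
    (hA' : CSAGal.IsCyclicAlg k K σ b' A') (hA'' : CSAGal.IsCyclicAlg k K σ (b * b') A'') :
    BrEq k (A ⊗[k] A') A'' := by
  classical
  haveI := cyclic_isCSA hσ hA
  haveI := cyclic_isCSA hσ hA'
  haveI := cyclic_isCSA hσ hA''
  obtain ⟨ι, y, hb, hy, -, hm, hdim⟩ := hA
  obtain ⟨ι', y', hb', hy', -, -, hdim'⟩ := hA'
  let T := A ⊗[k] A'
  haveI : Nontrivial T := IsSimpleRing.instNontrivial
  let j : K →ₐ[k] T := Algebra.TensorProduct.includeLeft.comp ι
  let z : T := y ⊗ₜ y'
  have hz : ∀ x, j x * z = z * j (σ x) := fun x => by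
    change (ι x ⊗ₜ[k] (1 : A') : A ⊗[k] A') * (y ⊗ₜ[k] y') = (y ⊗ₜ[k] y') * (ι (σ x) ⊗ₜ[k] (1 : A'))
    rw [Algebra.TensorProduct.tmul_mul_tmul, Algebra.TensorProduct.tmul_mul_tmul, one_mul, mul_one, hy]
  have hzb : z ^ (Module.finrank k K) = algebraMap k T ((b * b' : kˣ) : k) := by
    change (y ⊗ₜ[k] y' : A ⊗[k] A') ^ _ = algebraMap k (A ⊗[k] A') _
    rw [Algebra.TensorProduct.tmul_pow, hb, hb', Units.val_mul, Algebra.TensorProduct.algebraMap_apply,
      map_mul, Algebra.algebraMap_eq_smul_one (b' : k), Algebra.algebraMap_eq_smul_one (b' : k),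
      TensorProduct.tmul_smul, Algebra.mul_smul_comm, mul_one, TensorProduct.smul_tmul']
  let S : Subalgebra k T := Algebra.adjoin k (Set.range j ∪ {z})
  have hSdim : Module.finrank k S = (Module.finrank k K) ^ 2 := by
    change Module.finrank k (Subalgebra.toSubmodule S) = _
    rw [← range_crossedMap_eq hz hzb, LinearMap.finrank_range_of_inj
      (crossedMap_injective hz hσ (isUnit_of_pow_eq hzb)), Module.finrank_pi_fintype, Finset.sum_const,
      Finset.card_univ, Fintype.card_fin, smul_eq_mul, sq]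
  have hScyc : CSAGal.IsCyclicAlg k K σ (b * b') S :=
    (isCyclicAlg_of hσ (j.codRestrict S fun x => Algebra.subset_adjoin (Or.inl ⟨x, rfl⟩))
      (⟨z, Algebra.subset_adjoin (Or.inr rfl)⟩ : S) (Subtype.ext hzb) (fun x => Subtype.ext (hz x)) hSdim).1
  haveI := cyclic_isCSA hσ hScyc
  obtain ⟨eS⟩ := cyclic_algEquiv hσ hScyc hA''
  obtain ⟨hC, hbr⟩ := centralizer_isCSA S
  obtain ⟨-, hCdim⟩ := centralizer_simple_and_finrank k S
  haveI := hC
  let C := Subalgebra.centralizer k (S : Set T)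
  have hCdim' : Module.finrank k C = (Module.finrank k K) ^ 2 := by
    rw [hSdim, Module.finrank_tensorProduct, hdim, hdim'] at hCdim
    exact Nat.eq_of_mul_eq_mul_left (pow_pos hm 2) hCdim
  -- the idempotents of `K ⊗ K` lie in the centraliser
  let ψ : K ⊗[k] K →ₐ[k] T := Algebra.TensorProduct.map ι ι'
  have hψinj : Function.Injective ψ := by
    haveI : Nontrivial A := IsSimpleRing.instNontrivial
    haveI : Nontrivial A' := IsSimpleRing.instNontrivial
    exact TensorProduct.map_injective_of_flat_flat' ι.toLinearMap ι'.toLinearMap ι.injective ι'.injective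
  let Ψ : K ⊗[k] K ≃ₐ[k] ((K ≃ₐ[k] K) → K) := AlgEquiv.ofBijective _ (galoisSplit_bijective hσ)
  have hΨ : ∀ x x' τ, Ψ (x ⊗ₜ x') τ = x * τ x' := fun x x' τ => by simp [Ψ]
  let s : K ⊗[k] K →ₐ[k] K ⊗[k] K := Algebra.TensorProduct.map σ.toAlgHom σ.toAlgHom
  have hs : ∀ p τ, Ψ (s p) τ = σ (Ψ p τ) := by
    intro p τ
    induction p using TensorProduct.induction_on with
    | zero => simp
    | tmul x x' =>
      obtain ⟨i, rfl⟩ := (sigma_pow_bijective hσ).2 τ
      simp only [s, Algebra.TensorProduct.map_tmul, hΨ, map_mul, AlgEquiv.coe_toAlgHom]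
      rw [← AlgEquiv.mul_apply, ← pow_succ, ← AlgEquiv.mul_apply σ, ← pow_succ']
    | add p q hp hq => simp only [map_add, Pi.add_apply, hp, hq]
  have hψz : ∀ p, ψ p * z = z * ψ (s p) := by
    intro p
    induction p using TensorProduct.induction_on with
    | zero => simp
    | tmul x x' =>
      change (ι x ⊗ₜ[k] ι' x' : A ⊗[k] A') * (y ⊗ₜ[k] y') = (y ⊗ₜ[k] y') * (ι (σ x) ⊗ₜ[k] ι' (σ x'))
      rw [Algebra.TensorProduct.tmul_mul_tmul, Algebra.TensorProduct.tmul_mul_tmul, hy, hy']
    | add p q hp hq => simp only [map_add, add_mul, mul_add, hp, hq]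
  let e : (K ≃ₐ[k] K) → K ⊗[k] K := fun τ => Ψ.symm (Pi.single τ 1)
  have hse : ∀ τ, s (e τ) = e τ := fun τ => by
    refine Ψ.injective (funext fun τ' => ?_)
    rw [hs, AlgEquiv.apply_symm_apply]
    by_cases h : τ' = τ
    · subst h; simp
    · simp [h]
  have hmem : ∀ τ, ψ (e τ) ∈ C := by
    intro τ
    have hle : S ≤ Subalgebra.centralizer k ({ψ (e τ)} : Set T) := by
      refine Algebra.adjoin_le (Set.union_subset ?_ ?_)
      · rintro _ ⟨x, rfl⟩
        rw [SetLike.mem_coe, Subalgebra.mem_centralizer_iff]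
        rintro _ rfl
        have : j x = ψ (x ⊗ₜ 1) := by
          change (ι x ⊗ₜ[k] (1 : A') : A ⊗[k] A') = ι x ⊗ₜ[k] ι' 1
          rw [map_one]
        rw [this, ← map_mul, ← map_mul, mul_comm]
      · rw [Set.singleton_subset_iff, SetLike.mem_coe, Subalgebra.mem_centralizer_iff]
        rintro _ rfl
        rw [hψz, hse]
    intro g hg
    exact (Subalgebra.mem_centralizer_iff k).1 (hle hg) _ rfl |>.symm
  obtain ⟨L, _, _, _, _, ⟨f⟩⟩ := exists_galois_rep k C (n := (Module.finrank k K)) hCdim'.symm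
  let E : (K ≃ₐ[k] K) → C := fun τ => ⟨ψ (e τ), hmem τ⟩
  have hfinj : Function.Injective f := by
    haveI : Nonempty (Fin (Module.finrank k K)) := ⟨⟨0, hm⟩⟩
    exact RingHom.injective f.toRingHom
  have hcard : Fintype.card (K ≃ₐ[k] K) = Fintype.card (Fin (Module.finrank k K)) := by
    rw [← Nat.card_eq_fintype_card, IsGalois.card_aut_eq_finrank, Fintype.card_fin]
  have hone : Module.finrank L (LinearMap.range (f (E 1)).vecMulLinear) = 1 := by
    refine rank_one_of_orthogonal hcard (fun τ => f (E τ)) (fun τ => ?_) (fun τ τ' h => ?_) ?_ (fun τ h => ?_) 1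
    · rw [← map_mul]
      congr 1
      refine Subtype.ext ?_
      change ψ (e τ) * ψ (e τ) = ψ (e τ)
      rw [← map_mul, ← map_mul, ← Pi.single_mul, mul_one]
    · rw [← map_mul, show E τ * E τ' = 0 from Subtype.ext ?_, map_zero]
      change ψ (e τ) * ψ (e τ') = 0
      rw [← map_mul, ← map_mul, show (Pi.single τ (1 : K) * Pi.single τ' 1 : (K ≃ₐ[k] K) → K) = 0 from
        funext fun ρ => by by_cases h1 : ρ = τ <;> by_cases h2 : ρ = τ' <;> simp_all, map_zero, map_zero]
    · rw [← map_sum, show ∑ τ, E τ = 1 from Subtype.ext ?_, map_one]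
      rw [AddSubmonoidClass.coe_finsetSum]
      change ∑ τ, ψ (e τ) = 1
      rw [← map_sum, ← map_sum, Finset.univ_sum_single, ← Pi.one_def, map_one, map_one]
    · have h1 : ψ (e τ) = 0 := congrArg Subtype.val (hfinj (h.trans (map_zero f).symm))
      have h2 : e τ = 0 := hψinj (h1.trans (map_zero ψ).symm)
      simpa [e] using congrFun (congrArg Ψ h2) τ
  obtain ⟨d, hd⟩ := exists_isIndex (k := k) C
  have hd1 : d ∣ 1 := hone ▸ isIndex_dvd_rank f (by rw [Fintype.card_fin]; exact hCdim'.symm) (E 1) hd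
  obtain rfl := Nat.dvd_one.1 hd1
  have hCk : BrEq k C k := isIndex_one_iff.1 hd
  exact hbr.symm.trans (((BrEq.of_algEquiv k eS).tensor hCk).trans (BrEq.tensor_one A''))

theorem cyclic_tpow {A : Type w} [Ring A] [Algebra k A] {b : kˣ} (hA : CSAGal.IsCyclicAlg k K σ b A) :
    ∀ e : ℕ, BrEq k (TPow k A e) (cyclicModel σ ((b ^ e : kˣ) : k))
  | 0 => (BrEq.of_algEquiv k (tpowZero k A)).trans
      ((cyclic_brEq_one_iff hσ (cyclicModel_isCyclicAlg hσ (b ^ 0))).2 ⟨1, by simp⟩).symm
  | e + 1 => (BrEq.tpow_succ A e).trans (((cyclic_tpow hA e).tensor_right A).trans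
      (cyclic_tensor hσ (cyclicModel_isCyclicAlg hσ (b ^ e)) hA
        ((pow_succ b e).symm ▸ cyclicModel_isCyclicAlg hσ (b ^ (e + 1)))))

theorem cyclic_tpow_brEq_one_iff {A : Type w} [Ring A] [Algebra k A] {b : kˣ}
    (hA : CSAGal.IsCyclicAlg k K σ b A) (e : ℕ) :
    BrEq k (TPow k A e) k ↔ ∃ x : K, Algebra.norm k x = (b : k) ^ e := by
  rw [← Units.val_pow_eq_pow_val, ← cyclic_brEq_one_iff hσ (cyclicModel_isCyclicAlg hσ (b ^ e))]
  exact ⟨fun h => (cyclic_tpow hσ hA e).symm.trans h, fun h => (cyclic_tpow hσ hA e).trans h⟩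

end tensor

end Groth.Agent.CSA
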