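import Mathlib
import Groth.Agent.CSA.Azumaya
import Groth.Agent.S5720

/-!
# A faithfully flat splitting of an Azumaya algebra of constant rank
-/

set_option autoImplicit false

universe u

open scoped TensorProduct

namespace Groth.Agent.CSA

set_option linter.style.haveILetI false

theorem exists_global_splitting (R : Type u) [CommRing R] (A : Type u) [Ring A] [Algebra R A] [IsAzumaya R A] (n : ℕ)
    (hrk : ∀ p : PrimeSpectrum R, Module.rankAtStalk (R := R) A p = n ^ 2) :
    ∃ (R' : Type u) (_ : CommRing R') (_ : Algebra R R'), Module.FaithfullyFlat R R' ∧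
      Nonempty ((R' ⊗[R] A) ≃ₐ[R'] Matrix (Fin n) (Fin n) R') := by
  classical
  have hloc : ∀ p : PrimeSpectrum R, ∃ f : R, f ∉ p.asIdeal ∧ ∃ (R' : Type u) (_ : CommRing R') (_ : Algebra R R'),
      Module.Flat R R' ∧ (∀ q : PrimeSpectrum R, f ∉ q.asIdeal → q ∈ Set.range (PrimeSpectrum.comap (algebraMap R R'))) ∧
      Nonempty ((R' ⊗[R] A) ≃ₐ[R'] Matrix (Fin n) (Fin n) R') := by
    intro p
    obtain ⟨f, hf, R', _, _, _, _, _, _, _, r, hr, ⟨e⟩⟩ := Groth.Agent.S5720.result R A p.asIdeal
    haveI : Module.Flat R R' := Module.Flat.trans R (Localization.Away f) R'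
    have hcov : ∀ q : PrimeSpectrum R, f ∉ q.asIdeal → q ∈ Set.range (PrimeSpectrum.comap (algebraMap R R')) := by
      intro q hq
      have hq' : q ∈ Set.range (PrimeSpectrum.comap (algebraMap R (Localization.Away f))) := by
        rw [PrimeSpectrum.localization_away_comap_range (Localization.Away f) f]; exact hq
      obtain ⟨q₁, rfl⟩ := hq'
      obtain ⟨q₂, rfl⟩ := PrimeSpectrum.comap_surjective_of_faithfullyFlat (A := Localization.Away f) (B := R') q₁
      exact ⟨q₂, by rw [IsScalarTower.algebraMap_eq R (Localization.Away f) R', PrimeSpectrum.comap_comp]; rfl⟩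
    obtain ⟨P, hP⟩ := hcov p hf
    haveI : Nontrivial R' := nontrivial_of_ne (1 : R') 0 fun h =>
      P.isPrime.ne_top ((Ideal.eq_top_iff_one _).mpr (h ▸ P.asIdeal.zero_mem))
    have hrn : r = n := by
      have h1 := Module.rankAtStalk_baseChange (R := R) (M := A) (S := R') P
      rw [hrk, congrFun (Module.rankAtStalk_eq_of_equiv e.toLinearEquiv) P, Module.rankAtStalk_eq_finrank_of_free,
        Pi.natCast_apply, Nat.cast_id, Module.finrank_matrix, Module.finrank_self, Fintype.card_fin, mul_one, ← sq] at h1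
      exact Nat.pow_left_injective two_ne_zero h1
    subst hrn
    exact ⟨f, hf, R', inferInstance, inferInstance, inferInstance, hcov, ⟨e⟩⟩
  choose f hf R' inst₁ inst₂ hflat hcov he using hloc
  obtain ⟨t, ht⟩ := CompactSpace.isCompact_univ.elim_finite_subcover (fun p => (PrimeSpectrum.basicOpen (f p) : Set (PrimeSpectrum R)))
    (fun p => (PrimeSpectrum.basicOpen (f p)).isOpen) fun p _ => Set.mem_iUnion.mpr ⟨p, hf p⟩
  let S : t → Type u := fun i => R' i.1
  haveI : ∀ i : t, Module.Flat R (S i) := fun i => hflat i.1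
  haveI : Module.Flat R (Π i, S i) := Module.Flat.of_linearEquiv (DirectSum.linearEquivFunOnFintype R t S).symm
  refine ⟨Π i, S i, inferInstance, inferInstance, Module.FaithfullyFlat.of_comap_surjective fun q => ?_, ?_⟩
  · obtain ⟨i, hi, hqi⟩ : ∃ i ∈ t, f i ∉ q.asIdeal := by
      simpa using ht (Set.mem_univ q)
    obtain ⟨q', rfl⟩ := hcov i q hqi
    exact ⟨PrimeSpectrum.comap (Pi.evalRingHom (fun j : t => S j) ⟨i, hi⟩) q', rfl⟩
  let e : ∀ i : t, (S i ⊗[R] A) ≃ₐ[S i] Matrix (Fin n) (Fin n) (S i) := fun i => (he i.1).some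
  let g : A →ₐ[R] Matrix (Fin n) (Fin n) (Π i, S i) :=
    { toFun := fun a => Matrix.of fun j k i => e i ((1 : S i) ⊗ₜ[R] a) j k
      map_one' := by
        ext j k i
        show e i ((1 : S i) ⊗ₜ[R] (1 : A)) j k = _
        rw [← Algebra.TensorProduct.one_def, map_one, Matrix.one_apply, Matrix.one_apply]
        split_ifs <;> rfl
      map_mul' := fun a b => by
        ext j k i
        show e i ((1 : S i) ⊗ₜ[R] (a * b)) j k = _
        rw [Matrix.mul_apply, Finset.sum_apply]
        conv_lhs => rw [← one_mul (1 : S i), ← Algebra.TensorProduct.tmul_mul_tmul, map_mul, Matrix.mul_apply]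
        rfl
      map_zero' := by ext j k i; simp
      map_add' := fun a b => by ext j k i; simp [TensorProduct.tmul_add]
      commutes' := fun r => by
        ext j k i
        show e i ((1 : S i) ⊗ₜ[R] algebraMap R A r) j k = _
        rw [show (1 : S i) ⊗ₜ[R] algebraMap R A r = algebraMap R (S i ⊗[R] A) r from
          (Algebra.TensorProduct.includeRight.commutes r), IsScalarTower.algebraMap_apply R (S i) (S i ⊗[R] A),
          AlgEquiv.commutes, Matrix.algebraMap_matrix_apply, Matrix.algebraMap_matrix_apply]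
        split_ifs <;> rfl }
  let F : (Π i, S i) ⊗[R] A →ₐ[Π i, S i] Matrix (Fin n) (Fin n) (Π i, S i) :=
    Algebra.TensorProduct.lift (Algebra.ofId _ _) g fun s a => Algebra.commutes s _
  refine ⟨AlgEquiv.ofBijective F ?_⟩
  let T : (Π i, Matrix (Fin n) (Fin n) (S i)) ≃ Matrix (Fin n) (Fin n) (Π i, S i) :=
    { toFun := fun m => Matrix.of fun j k i => m i j k
      invFun := fun m i => Matrix.of fun j k => m j k i
      left_inv := fun _ => rfl
      right_inv := fun _ => rfl }
  have hF : ⇑F = T ∘ (fun z i => e i (z i)) ∘ (TensorProduct.piLeft (R := R) (M := S) (N := A)) := by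
    funext z
    induction z using TensorProduct.induction_on with
    | zero => ext j k i; simp [T] <;> rfl
    | add x y hx hy =>
      rw [map_add, hx, hy]
      ext j k i
      simp [T] <;> rfl
    | tmul s a =>
      rw [show F (s ⊗ₜ a) = _ from Algebra.TensorProduct.lift_tmul _ _ _ _ _, Algebra.ofId_apply, ← Algebra.smul_def]
      ext j k i
      show s i * e i ((1 : S i) ⊗ₜ[R] a) j k = e i (s i ⊗ₜ[R] a) j k
      rw [show s i ⊗ₜ[R] a = s i • ((1 : S i) ⊗ₜ[R] a) by rw [TensorProduct.smul_tmul', smul_eq_mul, mul_one],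
        map_smul, Matrix.smul_apply, smul_eq_mul]
  rw [hF]
  exact T.bijective.comp ((Function.Bijective.piMap fun i => (e i).bijective).comp (LinearEquiv.bijective _))

end Groth.Agent.CSA
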