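import Mathlib
import Groth.Agent.CSA.Azumaya
import Groth.Agent.HenselLib.Idem

/-!
# Lifting isomorphisms of Azumaya algebras over henselian local rings
-/

universe u

open scoped TensorProduct
open IsLocalRing Polynomial

namespace Groth.Agent.CSA

set_option linter.style.haveILetI false

theorem ker_mk_eq_smul_top {R M : Type u} [CommRing R] [IsLocalRing R] [AddCommGroup M] [Module R M] {x : M}
    (h : (1 : ResidueField R) ⊗ₜ[R] x = 0) : x ∈ (maximalIdeal R • ⊤ : Submodule R M) := by
  have := congrArg (TensorProduct.quotTensorEquivQuotSMul M (maximalIdeal R)) h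
  have h2 := (TensorProduct.quotTensorEquivQuotSMul_mk_tmul (maximalIdeal R) 1 x).symm.trans
    (this.trans (map_zero _))
  rw [one_smul] at h2
  exact (Submodule.Quotient.mk_eq_zero _).mp h2

theorem one_tmul_eq_zero_of_mem {R M : Type u} [CommRing R] [IsLocalRing R] [AddCommGroup M] [Module R M] {x : M}
    (h : x ∈ (maximalIdeal R • ⊤ : Submodule R M)) : (1 : ResidueField R) ⊗ₜ[R] x = 0 := by
  refine Submodule.smul_induction_on h (fun r hr m _ => ?_) (fun a b ha hb => ?_)
  · rw [TensorProduct.tmul_smul, TensorProduct.smul_tmul',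
      show r • (1 : ResidueField R) = 0 by
        rw [Algebra.smul_def, mul_one]
        exact (residue_eq_zero_iff r).mpr hr,
      TensorProduct.zero_tmul]
  · rw [TensorProduct.tmul_add, ha, hb, add_zero]

theorem surjective_of_residue {R M N : Type u} [CommRing R] [IsLocalRing R] [AddCommGroup M] [Module R M]
    [AddCommGroup N] [Module R N] [Module.Finite R N] (f : M →ₗ[R] N)
    (h : ∀ x, ∃ b, x - f b ∈ (maximalIdeal R • ⊤ : Submodule R N)) : Function.Surjective f := by
  rw [← LinearMap.range_eq_top, eq_top_iff]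
  refine Submodule.le_of_le_smul_of_le_jacobson_bot Module.Finite.fg_top (maximalIdeal_le_jacobson ⊥) ?_
  intro x _
  obtain ⟨b, hb⟩ := h x
  exact Submodule.mem_sup.mpr ⟨f b, ⟨b, rfl⟩, x - f b, hb, add_sub_cancel _ _⟩

theorem injective_of_residue {R M N : Type u} [CommRing R] [IsLocalRing R] [AddCommGroup M] [Module R M]
    [Module.Finite R M] [AddCommGroup N] [Module R N] [Module.Projective R N] (f : M →ₗ[R] N)
    (hf : Function.Surjective f) (h : ∀ b, f b = 0 → b ∈ (maximalIdeal R • ⊤ : Submodule R M)) :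
    Function.Injective f := by
  obtain ⟨s, hs⟩ := Module.projective_lifting_property f LinearMap.id hf
  let π := LinearMap.id - s ∘ₗ f
  have hπ : ∀ z, f (π z) = 0 := fun z => by
    simp only [π, LinearMap.sub_apply, LinearMap.id_apply, LinearMap.comp_apply, map_sub]
    rw [← LinearMap.comp_apply f s, hs, LinearMap.id_apply, sub_self]
  have hker : LinearMap.ker f = LinearMap.range π := le_antisymm
    (fun b hb => ⟨b, by simp [π, LinearMap.mem_ker.mp hb]⟩) (by
    rintro _ ⟨z, rfl⟩
    exact hπ z)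
  have hK : LinearMap.ker f ≤ maximalIdeal R • LinearMap.ker f := fun b hb => by
    have hm := Submodule.mem_map_of_mem (f := π) (h b hb)
    rw [Submodule.map_smul'', show π b = b by simp [π, LinearMap.mem_ker.mp hb]] at hm
    refine Submodule.smul_mono le_rfl ?_ hm
    rintro _ ⟨z, -, rfl⟩
    exact hπ z
  rw [← LinearMap.ker_eq_bot]
  refine Submodule.eq_bot_of_le_smul_of_le_jacobson_bot _ _ ?_ hK (maximalIdeal_le_jacobson ⊥)
  rw [hker, LinearMap.range_eq_map]
  exact Module.Finite.fg_top.map π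

theorem exists_idempotent_adjoinRoot {R : Type u} [CommRing R] [HenselianLocalRing R] (p : R[X]) (hp : p.Monic)
    (hpc : ∀ i, i < p.natDegree → p.coeff i ∈ maximalIdeal R) :
    ∃ e : AdjoinRoot (p.comp (X ^ 2 - X)), IsIdempotentElem e ∧
      ∃ m : ℕ, (e - AdjoinRoot.root _) ^ m ∈ (maximalIdeal R).map (algebraMap R (AdjoinRoot (p.comp (X ^ 2 - X)))) := by
  set f := p.comp (X ^ 2 - X)
  have hf : f.Monic := by
    refine hp.comp ?_ ?_
    · exact monic_X_pow_sub (by rw [degree_X]; norm_num)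
    · rw [natDegree_sub_eq_left_of_natDegree_lt (by rw [natDegree_X_pow]; exact natDegree_X_le.trans_lt one_lt_two),
        natDegree_X_pow]
      norm_num
  haveI := hf.finite_adjoinRoot
  haveI : Algebra.IsIntegral R (AdjoinRoot f) := Algebra.IsIntegral.of_finite R _
  set I := (maximalIdeal R).map (algebraMap R (AdjoinRoot f))
  set y := AdjoinRoot.root f ^ 2 - AdjoinRoot.root f
  have hy : y ^ p.natDegree ∈ I := by
    have h : aeval y p = 0 := by
      rw [show y = aeval (AdjoinRoot.root f) (X ^ 2 - X : R[X]) by simp [y], ← aeval_comp, AdjoinRoot.aeval_eq]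
      exact AdjoinRoot.mk_self
    rw [aeval_eq_sum_range, Finset.sum_range_succ, hp.coeff_natDegree, one_smul, add_eq_zero_iff_eq_neg'] at h
    rw [h]
    refine neg_mem (sum_mem fun i hi => ?_)
    rw [Algebra.smul_def]
    exact Ideal.mul_mem_right _ _ (Ideal.mem_map_of_mem _ (hpc i (Finset.mem_range.mp hi)))
  let π := Ideal.Quotient.mk I
  let J : Ideal (AdjoinRoot f ⧸ I) := Ideal.span {π y}
  have hJ : ∀ x ∈ RingHom.ker (Ideal.Quotient.mk J), IsNilpotent x := fun x hx => by
    rw [Ideal.mk_ker, Ideal.mem_span_singleton] at hx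
    obtain ⟨d, rfl⟩ := hx
    exact ⟨p.natDegree, by rw [mul_pow, ← map_pow, Ideal.Quotient.eq_zero_iff_mem.mpr hy, zero_mul]⟩
  obtain ⟨g, hg, hgc⟩ := exists_isIdempotentElem_eq_of_ker_isNilpotent (Ideal.Quotient.mk J) hJ
    (Ideal.Quotient.mk J (π (AdjoinRoot.root f))) ⟨_, rfl⟩ (by
      show _ * _ = _
      rw [← map_mul, Ideal.Quotient.mk_eq_mk_iff_sub_mem, ← map_mul, ← map_sub, ← sq]
      exact Ideal.mem_span_singleton_self _)
  obtain ⟨b, rfl⟩ := Ideal.Quotient.mk_surjective g
  obtain ⟨e, he, heb⟩ := Groth.Agent.HenselLib.exists_idempotent (maximalIdeal R) b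
    ((Ideal.Quotient.mk_eq_mk_iff_sub_mem _ _).mp (by rw [map_mul]; exact hg))
  obtain ⟨m, hm⟩ := hJ (π (b - AdjoinRoot.root f)) (by
    rw [RingHom.mem_ker, map_sub π, map_sub, sub_eq_zero]
    exact hgc)
  refine ⟨e, he, m, ?_⟩
  rw [← Ideal.Quotient.eq_zero_iff_mem, map_pow]
  rw [show π (b - AdjoinRoot.root f) = π (e - AdjoinRoot.root f) by
    rw [map_sub, map_sub, (Ideal.Quotient.mk_eq_mk_iff_sub_mem e b).mpr heb]] at hm
  exact hm

/-- Idempotents of the special fibre of a finite (non-commutative) algebra over a henselian local ring lift. -/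
theorem exists_idempotent_lift_of_henselian {R C : Type u} [CommRing R] [HenselianLocalRing R] [Ring C] [Algebra R C]
    [Module.Finite R C] (c : C) (hc : c * c - c ∈ (maximalIdeal R • ⊤ : Submodule R C)) :
    ∃ ε : C, IsIdempotentElem ε ∧ ε - c ∈ (maximalIdeal R • ⊤ : Submodule R C) := by
  classical
  let ρ : C →ₐ[R] ResidueField R ⊗[R] C := Algebra.TensorProduct.includeRight
  obtain ⟨p, hp, -, hpc, hpy⟩ := LinearMap.exists_monic_and_natDegree_eq_and_coeff_mem_pow_and_aeval_eq_zero R
    (LinearMap.mulLeft R (c * c - c)) (maximalIdeal R) (by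
      rintro _ ⟨z, rfl⟩
      have := Submodule.mem_map_of_mem (f := LinearMap.mulRight R z) hc
      rw [Submodule.map_smul''] at this
      exact Submodule.smul_mono le_rfl le_top this)
  have hpy' : aeval c (p.comp (X ^ 2 - X)) = 0 := by
    have h1 : aeval (LinearMap.mulLeft R (c * c - c)) p = LinearMap.mulLeft R (aeval (c * c - c) p) :=
      aeval_algHom_apply (Algebra.lmul R C) (c * c - c) p
    rw [hpy] at h1
    have h2 := LinearMap.congr_fun h1 (1 : C)
    rw [LinearMap.zero_apply, LinearMap.mulLeft_apply, mul_one] at h2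
    rw [aeval_comp]
    simpa [sq] using h2.symm
  obtain ⟨e, he, m, hem⟩ := exists_idempotent_adjoinRoot p hp
    (fun i hi => Ideal.pow_le_self (by omega) (hpc i))
  let φ : AdjoinRoot (p.comp (X ^ 2 - X)) →ₐ[R] C :=
    Ideal.Quotient.liftₐ (Ideal.span {p.comp (X ^ 2 - X)}) (aeval c) (fun a ha => by
      obtain ⟨d, rfl⟩ := Ideal.mem_span_singleton.mp ha
      rw [map_mul, hpy', zero_mul])
  have hφ : φ (AdjoinRoot.root _) = c := aeval_X c
  refine ⟨φ e, he.map φ, ker_mk_eq_smul_top ?_⟩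
  have hI : ∀ x ∈ (maximalIdeal R).map (algebraMap R (AdjoinRoot (p.comp (X ^ 2 - X)))), ρ (φ x) = 0 := by
    have : (maximalIdeal R).map (algebraMap R (AdjoinRoot (p.comp (X ^ 2 - X)))) ≤ RingHom.ker (ρ.comp φ).toRingHom :=
      Ideal.map_le_iff_le_comap.mpr fun r hr => by
        show (ρ.comp φ) (algebraMap R _ r) = 0
        rw [AlgHom.commutes, IsScalarTower.algebraMap_apply R (ResidueField R),
          show algebraMap R (ResidueField R) r = 0 from (residue_eq_zero_iff r).mpr hr, map_zero]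
    exact fun x hx => this hx
  have hm : (ρ (φ e) - ρ c) ^ m = 0 := by
    have := hI _ hem
    rwa [map_pow, map_pow, map_sub, map_sub, hφ] at this
  have hcc : ρ c * ρ c = ρ c := by
    have := one_tmul_eq_zero_of_mem hc
    rw [TensorProduct.tmul_sub, sub_eq_zero] at this
    rw [← map_mul]; exact this
  have he' : ρ (φ e) * ρ (φ e) = ρ (φ e) := by rw [← map_mul, ← map_mul, he.eq]
  have hcom : ρ c * ρ (φ e) = ρ (φ e) * ρ c := by
    rw [← hφ, ← map_mul, ← map_mul, ← map_mul, ← map_mul, mul_comm]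
  have h3 : (ρ (φ e) - ρ c) ^ 3 = ρ (φ e) - ρ c := by
    simp only [pow_succ, pow_zero, one_mul, sub_mul, mul_sub, hcom, he', hcc, mul_assoc]
    rw [← mul_assoc (ρ (φ e)) (ρ (φ e)) (ρ c), he']
    abel
  rw [TensorProduct.tmul_sub]
  show ρ (φ e) - ρ c = 0
  have hiter : ∀ j, (ρ (φ e) - ρ c) ^ (2 * j + 1) = ρ (φ e) - ρ c := by
    intro j
    induction j with
    | zero => simp
    | succ j ih => rw [show 2 * (j + 1) + 1 = (2 * j + 1) + 2 by ring, pow_add, ih, ← pow_succ', h3]
  rw [← hiter m]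
  exact pow_eq_zero_of_le (by omega) hm

variable {R A B : Type u} [CommRing R] [Ring A] [Algebra R A] [Ring B] [Algebra R B]

/-- `c ↦` the endomorphism `x ↦ e₀(a) x b` of the special fibre, for `c = a ⊗ b`. -/
noncomputable def twistedAction [IsLocalRing R]
    (e₀ : (ResidueField R ⊗[R] A) →ₐ[ResidueField R] (ResidueField R ⊗[R] B)) :
    A ⊗[R] Bᵐᵒᵖ →ₐ[R] Module.End (ResidueField R) (ResidueField R ⊗[R] B) :=
  Algebra.TensorProduct.lift
    (((Algebra.lmul (ResidueField R) (ResidueField R ⊗[R] B)).comp e₀).restrictScalars R |>.comp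
      Algebra.TensorProduct.includeRight)
    { toFun := fun b => LinearMap.mulRight (ResidueField R) ((1 : ResidueField R) ⊗ₜ[R] b.unop)
      map_one' := LinearMap.ext fun x => by
        rw [MulOpposite.unop_one, LinearMap.mulRight_apply, ← Algebra.TensorProduct.one_def, mul_one]
        rfl
      map_mul' := fun b b' => LinearMap.ext fun x => by
        rw [Module.End.mul_apply, LinearMap.mulRight_apply, LinearMap.mulRight_apply, LinearMap.mulRight_apply,
          MulOpposite.unop_mul, mul_assoc, Algebra.TensorProduct.tmul_mul_tmul, one_mul]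
      map_zero' := LinearMap.ext fun x => by simp
      map_add' := fun b b' => LinearMap.ext fun x => by simp [TensorProduct.tmul_add, mul_add]
      commutes' := fun r => LinearMap.ext fun x => by
        rw [LinearMap.mulRight_apply, MulOpposite.algebraMap_apply, MulOpposite.unop_op, Algebra.algebraMap_eq_smul_one,
          TensorProduct.tmul_smul, ← Algebra.TensorProduct.one_def, mul_smul_comm, mul_one]
        rfl }
    (fun a b => LinearMap.ext fun x => (mul_assoc _ x _).symm)

theorem twistedAction_tmul [IsLocalRing R]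
    (e₀ : (ResidueField R ⊗[R] A) →ₐ[ResidueField R] (ResidueField R ⊗[R] B)) (a : A) (b : Bᵐᵒᵖ)
    (x : ResidueField R ⊗[R] B) :
    twistedAction e₀ (a ⊗ₜ b) x = e₀ ((1 : ResidueField R) ⊗ₜ[R] a) * (x * ((1 : ResidueField R) ⊗ₜ[R] b.unop)) := rfl

theorem twistedAction_surjective [IsLocalRing R] [IsAzumaya R B]
    (e₀ : (ResidueField R ⊗[R] A) ≃ₐ[ResidueField R] (ResidueField R ⊗[R] B)) :
    Function.Surjective (twistedAction e₀.toAlgHom) := by
  intro T
  haveI : IsAzumaya (ResidueField R) (ResidueField R ⊗[R] B) := isAzumaya_baseChange _ B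
  obtain ⟨z, rfl⟩ := (IsAzumaya.bij (R := ResidueField R) (A := ResidueField R ⊗[R] B)).2 T
  induction z using TensorProduct.induction_on with
  | zero => exact ⟨0, by simp⟩
  | add a b ha hb =>
    obtain ⟨u, hu⟩ := ha; obtain ⟨v, hv⟩ := hb
    exact ⟨u + v, by rw [map_add, map_add, hu, hv]⟩
  | tmul x y =>
    obtain ⟨a, ha⟩ := TensorProduct.mk_surjective R A (ResidueField R) residue_surjective (e₀.symm x)
    obtain ⟨b, hb⟩ := TensorProduct.mk_surjective R B (ResidueField R) residue_surjective y.unop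
    refine ⟨a ⊗ₜ MulOpposite.op b, LinearMap.ext fun w => ?_⟩
    rw [twistedAction_tmul, AlgHom.mulLeftRight_apply, MulOpposite.unop_op, TensorProduct.mk_apply] at *
    rw [ha, hb]
    simp [mul_assoc]

theorem twistedAction_ker [IsLocalRing R] [IsAzumaya R A] [IsAzumaya R B]
    (e₀ : (ResidueField R ⊗[R] A) ≃ₐ[ResidueField R] (ResidueField R ⊗[R] B)) {c : A ⊗[R] Bᵐᵒᵖ}
    (hc : twistedAction e₀.toAlgHom c = 0) : c ∈ (maximalIdeal R • ⊤ : Submodule R (A ⊗[R] Bᵐᵒᵖ)) := by
  haveI : Module.Free R A := Module.free_of_flat_of_isLocalRing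
  haveI : Module.Free R B := Module.free_of_flat_of_isLocalRing
  haveI : Module.Free R Bᵐᵒᵖ := Module.Free.of_equiv (MulOpposite.opLinearEquiv R)
  haveI : Module.Finite R Bᵐᵒᵖ := Module.Finite.equiv (MulOpposite.opLinearEquiv R)
  set k := ResidueField R
  let Ψk : k ⊗[R] (A ⊗[R] Bᵐᵒᵖ) →ₐ[k] Module.End k (k ⊗[R] B) :=
    Algebra.TensorProduct.lift (Algebra.ofId _ _) (twistedAction e₀.toAlgHom) (fun r a => Algebra.commutes r _)
  have hΨk : Function.Surjective Ψk := fun T => by
    obtain ⟨d, hd⟩ := twistedAction_surjective e₀ T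
    exact ⟨1 ⊗ₜ d, (Algebra.TensorProduct.lift_tmul _ _ _ _ _).trans (by rw [map_one, one_mul, hd])⟩
  have hinj : Function.Injective Ψk.toLinearMap :=
    (LinearMap.injective_iff_surjective_of_finrank_eq_finrank (by
      rw [Module.finrank_baseChange, Module.finrank_tensorProduct, ← (MulOpposite.opLinearEquiv R).finrank_eq,
        Module.finrank_linearMap, Module.finrank_baseChange, ← Module.finrank_baseChange (R := k) (S := R) (M' := A),
        e₀.toLinearEquiv.finrank_eq, Module.finrank_baseChange])).mpr hΨk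
  apply ker_mk_eq_smul_top
  apply hinj
  rw [map_zero, AlgHom.toLinearMap_apply]
  exact (Algebra.TensorProduct.lift_tmul _ _ _ _ _).trans (by rw [map_one, one_mul, hc])

/-- An isomorphism of the special fibres of Azumaya algebras over a henselian local ring lifts. -/
theorem exists_algEquiv_lift [HenselianLocalRing R] [IsAzumaya R A] [IsAzumaya R B]
    (e₀ : (ResidueField R ⊗[R] A) ≃ₐ[ResidueField R] (ResidueField R ⊗[R] B)) :
    ∃ e : A ≃ₐ[R] B, ∀ a : A, e₀ ((1 : ResidueField R) ⊗ₜ[R] a) = (1 : ResidueField R) ⊗ₜ[R] (e a) := by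
  classical
  haveI : Module.Free R A := Module.free_of_flat_of_isLocalRing
  haveI : Module.Free R B := Module.free_of_flat_of_isLocalRing
  haveI : Module.Free R Bᵐᵒᵖ := Module.Free.of_equiv (MulOpposite.opLinearEquiv R)
  haveI : Module.Finite R Bᵐᵒᵖ := Module.Finite.equiv (MulOpposite.opLinearEquiv R)
  set k := ResidueField R
  let Ψ := twistedAction e₀.toAlgHom
  haveI : Nontrivial (k ⊗[R] B) := by
    haveI : IsAzumaya k (k ⊗[R] B) := isAzumaya_baseChange k B
    exact (FaithfulSMul.algebraMap_injective k (k ⊗[R] B)).nontrivial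
  obtain ⟨ℓ, hℓ⟩ : ∃ ℓ : (k ⊗[R] B) →ₗ[k] k, ℓ 1 = 1 := by
    haveI : IsAzumaya k (k ⊗[R] B) := isAzumaya_baseChange k B
    exact exists_retraction_of_isAzumaya (R := k) (k ⊗[R] B)
  obtain ⟨c, hc⟩ := twistedAction_surjective e₀ (ℓ.smulRight (1 : k ⊗[R] B))
  obtain ⟨ε, hε, hεc⟩ := exists_idempotent_lift_of_henselian c (twistedAction_ker e₀ (by
    rw [map_sub, map_mul, hc, sub_eq_zero]
    exact LinearMap.ext fun x => by simp [hℓ]))
  have hΨ0 : ∀ d ∈ (maximalIdeal R • ⊤ : Submodule R (A ⊗[R] Bᵐᵒᵖ)), Ψ d = 0 := fun d hd => by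
    refine Submodule.smul_induction_on hd (fun r hr m _ => ?_) (fun a b ha hb => ?_)
    · rw [map_smul]
      refine LinearMap.ext fun x => ?_
      rw [LinearMap.smul_apply, ← algebraMap_smul k r, show algebraMap R k r = 0 from (residue_eq_zero_iff r).mpr hr,
        zero_smul, LinearMap.zero_apply]
    · rw [map_add, ha, hb, add_zero]
  have hΨε : Ψ ε = ℓ.smulRight (1 : k ⊗[R] B) := by
    have := hΨ0 _ hεc
    rwa [map_sub, sub_eq_zero, hc] at this
  let P := LinearMap.range (LinearMap.mulRight R ε : A ⊗[R] Bᵐᵒᵖ →ₗ[R] A ⊗[R] Bᵐᵒᵖ)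
  have hP : ∀ x ∈ P, x * ε = x := by
    rintro _ ⟨y, rfl⟩
    rw [LinearMap.mulRight_apply, mul_assoc, hε.eq]
  haveI : Module.Projective R P := Module.Projective.of_split P.subtype (LinearMap.mulRight R ε).rangeRestrict
    (LinearMap.ext fun x => Subtype.ext (hP x.1 x.2))
  haveI : Module.Finite R P := Module.Finite.range _
  let θ : B →ₗ[R] P := (LinearMap.mulRight R ε).rangeRestrict ∘ₗ
    (Algebra.TensorProduct.includeRight : Bᵐᵒᵖ →ₐ[R] A ⊗[R] Bᵐᵒᵖ).toLinearMap ∘ₗ (MulOpposite.opLinearEquiv R).toLinearMap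
  have hθval : ∀ b, (θ b : A ⊗[R] Bᵐᵒᵖ) = ((1 : A) ⊗ₜ[R] MulOpposite.op b) * ε := fun b => rfl
  have hev : ∀ b, Ψ (θ b) 1 = (1 : k) ⊗ₜ[R] b := fun b => by
    rw [hθval, map_mul, Module.End.mul_apply, hΨε, LinearMap.smulRight_apply, hℓ, one_smul, twistedAction_tmul,
      MulOpposite.unop_op, one_mul, ← Algebra.TensorProduct.one_def]
    simp
  have hsurj : Function.Surjective θ := by
    refine surjective_of_residue (M := B) (N := ↥P) θ fun x => ?_
    obtain ⟨b, hb⟩ := TensorProduct.mk_surjective R B k residue_surjective (Ψ x 1)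
    refine ⟨b, ?_⟩
    have hd : Ψ ((x - θ b : P) : A ⊗[R] Bᵐᵒᵖ) = 0 := LinearMap.ext fun w => by
      rw [← hP _ (x - θ b).2, map_mul, Module.End.mul_apply, hΨε, LinearMap.smulRight_apply, map_smul,
        AddSubgroupClass.coe_sub, map_sub, LinearMap.sub_apply, hev, ← hb, TensorProduct.mk_apply, sub_self, smul_zero,
        LinearMap.zero_apply]
    have hm := Submodule.mem_map_of_mem (f := (LinearMap.mulRight R ε).rangeRestrict) (twistedAction_ker e₀ hd)
    rw [Submodule.map_smul''] at hm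
    refine Submodule.smul_mono le_rfl le_top (?_ : x - θ b ∈ maximalIdeal R • Submodule.map
      (LinearMap.mulRight R ε).rangeRestrict ⊤)
    convert hm using 1
    exact Subtype.ext (hP _ (x - θ b).2).symm
  have hinj : Function.Injective θ := injective_of_residue (M := B) (N := ↥P) θ hsurj fun b hb => ker_mk_eq_smul_top (by
    rw [← hev, hb]; simp)
  let θe := LinearEquiv.ofBijective θ ⟨hinj, hsurj⟩
  let φ : A → B := fun a => θe.symm ((LinearMap.mulRight R ε).rangeRestrict (a ⊗ₜ[R] 1))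
  have hφ : ∀ a, ((1 : A) ⊗ₜ[R] MulOpposite.op (φ a)) * ε = (a ⊗ₜ[R] (1 : Bᵐᵒᵖ)) * ε := fun a => by
    rw [← hθval, show θ (φ a) = θe (φ a) from rfl, θe.apply_symm_apply]; rfl
  have hchar : ∀ a b, ((1 : A) ⊗ₜ[R] MulOpposite.op b) * ε = (a ⊗ₜ[R] (1 : Bᵐᵒᵖ)) * ε → φ a = b := fun a b h =>
    hinj (Subtype.ext (by rw [hθval, hθval, hφ, h]))
  let φh : A →ₐ[R] B :=
    { toFun := φ
      map_one' := hchar 1 1 (by rw [MulOpposite.op_one])
      map_mul' := fun a a' => hchar (a * a') (φ a * φ a') (by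
        rw [show ((a * a') ⊗ₜ[R] (1 : Bᵐᵒᵖ)) = (a ⊗ₜ[R] 1) * (a' ⊗ₜ[R] 1) by
          rw [Algebra.TensorProduct.tmul_mul_tmul, mul_one], mul_assoc, ← hφ a', ← mul_assoc,
          Algebra.TensorProduct.tmul_mul_tmul, mul_one, one_mul,
          show (a ⊗ₜ[R] MulOpposite.op (φ a')) = ((1 : A) ⊗ₜ[R] MulOpposite.op (φ a')) * (a ⊗ₜ[R] (1 : Bᵐᵒᵖ)) by
            rw [Algebra.TensorProduct.tmul_mul_tmul, mul_one, one_mul],
          mul_assoc, ← hφ a, ← mul_assoc, Algebra.TensorProduct.tmul_mul_tmul, one_mul, ← MulOpposite.op_mul])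
      map_zero' := hchar 0 0 (by rw [MulOpposite.op_zero, TensorProduct.tmul_zero, TensorProduct.zero_tmul])
      map_add' := fun a a' => hchar (a + a') (φ a + φ a') (by
        rw [MulOpposite.op_add, TensorProduct.tmul_add, add_mul, hφ, hφ, ← add_mul, TensorProduct.add_tmul])
      commutes' := fun r => hchar _ (algebraMap R B r) (by
        rw [Algebra.algebraMap_eq_smul_one (A := A), Algebra.algebraMap_eq_smul_one (A := B), MulOpposite.op_smul,
          MulOpposite.op_one, TensorProduct.smul_tmul]) }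
  have hred : ∀ a : A, e₀ ((1 : k) ⊗ₜ[R] a) = (1 : k) ⊗ₜ[R] (φ a) := fun a => by
    rw [← hev, hθval, hφ, map_mul, Module.End.mul_apply, hΨε, LinearMap.smulRight_apply, hℓ, one_smul,
      twistedAction_tmul]
    simp [← Algebra.TensorProduct.one_def]
  have hφs : Function.Surjective φh.toLinearMap := by
    rw [← LinearMap.range_eq_top, ← IsLocalRing.map_tensorProduct_mk_eq_top, eq_top_iff]
    intro z _
    obtain ⟨a, ha⟩ := TensorProduct.mk_surjective R A k residue_surjective (e₀.symm z)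
    refine ⟨φ a, ⟨a, rfl⟩, ?_⟩
    rw [TensorProduct.mk_apply, ← hred, ← TensorProduct.mk_apply, ha, e₀.apply_symm_apply]
  let ψ := LinearEquiv.ofFinrankEq (R := R) B A (by
    rw [← Module.finrank_baseChange (R := k) (S := R) (M' := B), ← e₀.toLinearEquiv.finrank_eq, Module.finrank_baseChange])
  have hb := OrzechProperty.bijective_of_surjective_endomorphism (ψ.toLinearMap ∘ₗ φh.toLinearMap) (ψ.surjective.comp hφs)
  exact ⟨AlgEquiv.ofBijective φh ⟨Function.Injective.of_comp (f := ψ) hb.1, hφs⟩, hred⟩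

end Groth.Agent.CSA
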