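import Mathlib
import Groth.Agent.CSA.Azumaya
import Groth.Agent.CSA.SkolemNoether
import Groth.Agent.LGLib.Basic
import Groth.Agent.S19587

/-!
# Projective modules over Azumaya algebras over LG-rings; cancellation
-/

set_option autoImplicit false

universe u v w w'

open scoped TensorProduct

namespace Groth.Agent.CSA

set_option linter.style.haveILetI false

variable {R : Type u} [CommRing R]

theorem finite_hom {A : Type v} [Ring A] [Algebra R A] {M : Type w} [AddCommGroup M] [Module A M]
    [Module.Finite A M] [Module.Projective A M] {N : Type w'} [AddCommGroup N] [Module A N] [Module R N]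
    [IsScalarTower R A N] [Module.Finite R N] : Module.Finite R (M →ₗ[A] N) := by
  classical
  obtain ⟨n, π, hπ⟩ := Module.Finite.exists_fin' A M
  obtain ⟨s, hs⟩ := Module.projective_lifting_property π LinearMap.id hπ
  let e : (Fin n → N) →ₗ[R] (M →ₗ[A] N) :=
    { toFun := fun v => (∑ i, (LinearMap.toSpanSingleton A N (v i)).comp (LinearMap.proj i)) ∘ₗ s
      map_add' := fun v v' => LinearMap.ext fun x => by simp [smul_add, Finset.sum_add_distrib]
      map_smul' := fun r v => LinearMap.ext fun x => by simp [Finset.smul_sum, smul_comm r] }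
  refine Module.Finite.of_surjective e fun f => ⟨fun i => f (π (Pi.single i 1)), LinearMap.ext fun x => ?_⟩
  show (∑ i, (LinearMap.toSpanSingleton A N (f (π (Pi.single i 1)))).comp (LinearMap.proj i)) (s x) = f x
  rw [LinearMap.sum_apply]
  conv_rhs => rw [← LinearMap.id_apply (R := A) x, ← hs, LinearMap.comp_apply, pi_eq_sum_univ' (s x), map_sum, map_sum]
  exact Finset.sum_congr rfl fun i _ => by simp

theorem projective_restrict {A : Type v} [Ring A] [Algebra R A] [Module.Finite R A] [Module.Projective R A]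
    (M : Type w) [AddCommGroup M] [Module A M] [Module R M] [IsScalarTower R A M] [Module.Finite A M]
    [Module.Projective A M] : Module.Finite R M ∧ Module.Projective R M := by
  obtain ⟨n, π, hπ⟩ := Module.Finite.exists_fin' A M
  obtain ⟨s, hs⟩ := Module.projective_lifting_property π LinearMap.id hπ
  haveI : Module.Projective R (Fin n → A) := Module.Projective.of_equiv (DFinsupp.linearEquivFunOnFintype (R := R) (M := fun _ : Fin n => A))
  exact ⟨Module.Finite.of_surjective (π.restrictScalars R) hπ,
    Module.Projective.of_split (s.restrictScalars R) (π.restrictScalars R) (LinearMap.ext fun x => LinearMap.congr_fun hs x)⟩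

theorem rankAtStalk_end (P : Type w) [AddCommGroup P] [Module R P] [Module.Finite R P] [Module.Projective R P]
    (p : PrimeSpectrum R) :
    Module.rankAtStalk (R := R) (Module.End R P) p = Module.rankAtStalk (R := R) P p * Module.rankAtStalk (R := R) P p := by
  obtain ⟨_, _⟩ := finite_projective_linearMap (R := R) P P
  haveI : Module.Finite R (Module.End R P) := ‹_›
  haveI : Module.Projective R (Module.End R P) := ‹_›
  let S := Localization.AtPrime p.asIdeal
  haveI : Module.Free S (S ⊗[R] P) := Module.free_of_flat_of_isLocalRing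
  let e := LinearEquiv.ofBijective _ (liftBaseChange_baseChangeHom_bijective (R := R) S P P)
  rw [Module.rankAtStalk_eq_finrank_tensorProduct, Module.rankAtStalk_eq_finrank_tensorProduct,
    e.finrank_eq, Module.finrank_linearMap]

/-- From residual split surjections to a split surjection over an LG-ring. -/
theorem exists_bijective_comp_of_residual (hR : LGRing.IsLGRing R) {A : Type v} [Ring A] [Algebra R A]
    [Module.Finite R A] [Module.Projective R A]
    (M : Type w) [AddCommGroup M] [Module A M] [Module R M] [IsScalarTower R A M] [Module.Finite A M]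
    [Module.Projective A M] (N : Type w') [AddCommGroup N] [Module A N] [Module R N] [IsScalarTower R A N]
    [Module.Finite A N] [Module.Projective A N]
    (h : ∀ m : Ideal R, m.IsMaximal → ∃ (f : M →ₗ[A] N) (g : N →ₗ[A] M),
      ∀ y, f (g y) - y ∈ (m • ⊤ : Submodule R N)) :
    ∃ (f : M →ₗ[A] N) (g : N →ₗ[A] M), Function.Bijective (f ∘ g) := by
  classical
  haveI := (projective_restrict (R := R) (A := A) M).1
  obtain ⟨hN₁, hN₂⟩ := projective_restrict (R := R) (A := A) N
  haveI : Module.Finite R (M →ₗ[A] N) := finite_hom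
  haveI : Module.Finite R (N →ₗ[A] M) := finite_hom
  obtain ⟨a, F, hF⟩ := Module.Finite.exists_fin' R (M →ₗ[A] N)
  obtain ⟨b, G, hG⟩ := Module.Finite.exists_fin' R (N →ₗ[A] M)
  obtain ⟨n, π, σ, hπσ⟩ := LGLib.exists_retract (R := R) N
  let θ : (Fin a → R) → (Fin b → R) → Module.End R N := fun s t =>
    ((F s).restrictScalars R) ∘ₗ ((G t).restrictScalars R)
  let mat : Module.End R N → Matrix (Fin n) (Fin n) R := fun φ =>
    LinearMap.toMatrix' (σ ∘ₗ φ ∘ₗ π + LinearMap.id - σ ∘ₗ π)
  let e : Fin a → Fin b → Matrix (Fin n) (Fin n) R := fun k l =>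
    LinearMap.toMatrix' (σ ∘ₗ θ (Pi.single k 1) (Pi.single l 1) ∘ₗ π)
  let P := MvPolynomial (Fin a ⊕ Fin b) R
  let Φ : Matrix (Fin n) (Fin n) P :=
    ∑ k, ∑ l, (MvPolynomial.X (Sum.inl k) * MvPolynomial.X (Sum.inr l) : P) • (e k l).map (algebraMap R P) +
      (1 - (LinearMap.toMatrix' (σ ∘ₗ π)).map (algebraMap R P))
  have hev : ∀ {S : Type u} [CommRing S] [Algebra R S] (w : Fin a ⊕ Fin b → R),
      MvPolynomial.aeval (fun x => algebraMap R S (w x)) Φ.det =
        algebraMap R S (mat (θ (w ∘ Sum.inl) (w ∘ Sum.inr))).det := by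
    intro S _ _ w
    have hθ : θ (w ∘ Sum.inl) (w ∘ Sum.inr) =
        ∑ k, ∑ l, (w (Sum.inl k) * w (Sum.inr l)) • θ (Pi.single k 1) (Pi.single l 1) := by
      refine LinearMap.ext fun x => ?_
      simp only [θ, LinearMap.sum_apply, LinearMap.smul_apply, LinearMap.comp_apply, LinearMap.restrictScalars_apply]
      conv_lhs => rw [pi_eq_sum_univ' (w ∘ Sum.inl), pi_eq_sum_univ' (w ∘ Sum.inr)]
      simp only [map_sum, map_smul, LinearMap.sum_apply, LinearMap.smul_apply, Finset.smul_sum, smul_smul,
        Function.comp_apply, LinearMap.map_smul_of_tower]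
      rw [Finset.sum_comm]
    have hm : mat (θ (w ∘ Sum.inl) (w ∘ Sum.inr)) =
        ∑ k, ∑ l, (w (Sum.inl k) * w (Sum.inr l)) • e k l + (1 - LinearMap.toMatrix' (σ ∘ₗ π)) := by
      let Lm : Module.End R N →ₗ[R] Matrix (Fin n) (Fin n) R :=
        LinearMap.toMatrix'.toLinearMap ∘ₗ LinearMap.llcomp R (Fin n → R) N (Fin n → R) σ ∘ₗ LinearMap.lcomp R N π
      have hL : ∀ φ, Lm φ = LinearMap.toMatrix' (σ ∘ₗ φ ∘ₗ π) := fun φ => rfl
      simp only [mat, map_sub, map_add, LinearMap.toMatrix'_id, add_sub_assoc, e, ← hL, hθ, map_sum, map_smul]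
    set χ : P →ₐ[R] S := MvPolynomial.aeval fun x => algebraMap R S (w x)
    rw [AlgHom.map_det, RingHom.map_det, hm]
    congr 1
    refine Matrix.ext fun i j => ?_
    have hχC : ∀ r : R, χ (algebraMap R P r) = algebraMap R S r := χ.commutes
    have hχX : ∀ x, χ (MvPolynomial.X x) = algebraMap R S (w x) := MvPolynomial.aeval_X _
    simp [Φ, hχC, hχX, Matrix.sum_apply, Matrix.one_apply, apply_ite (algebraMap R S), map_sum]
  obtain ⟨w, hw⟩ := LGLib.representsUnit hR Φ.det fun m hm => by
    obtain ⟨f, g, hfg⟩ := h m hm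
    obtain ⟨s, rfl⟩ := hF f
    obtain ⟨t, rfl⟩ := hG g
    refine ⟨fun x => algebraMap R (R ⧸ m) (Sum.elim s t x), ?_⟩
    rw [hev (Sum.elim s t), Sum.elim_comp_inl, Sum.elim_comp_inr, RingHom.map_det]
    have hone : (algebraMap R (R ⧸ m)).mapMatrix (mat (θ s t)) = 1 := by
      refine Matrix.ext fun i j => ?_
      rw [RingHom.mapMatrix_apply, Matrix.map_apply, Ideal.Quotient.algebraMap_eq]
      have hmem : ∀ (x : N), x ∈ (m • ⊤ : Submodule R N) → ∀ i, σ x i ∈ m := fun x hx i => by
        refine Submodule.smul_induction_on hx (fun r hr z _ => ?_) fun y z hy hz => ?_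
        · rw [map_smul, Pi.smul_apply, smul_eq_mul]
          exact m.mul_mem_right _ hr
        · rw [map_add, Pi.add_apply]
          exact m.add_mem hy hz
      rw [show (1 : Matrix (Fin n) (Fin n) (R ⧸ m)) i j =
          Ideal.Quotient.mk m ((1 : Matrix (Fin n) (Fin n) R) i j) by
        rw [Matrix.one_apply, Matrix.one_apply]; split_ifs <;> simp, Ideal.Quotient.mk_eq_mk_iff_sub_mem]
      have h1 := hmem _ (hfg (π (Pi.single j 1))) i
      rw [map_sub, Pi.sub_apply] at h1
      have hentry : mat (θ s t) i j - (1 : Matrix (Fin n) (Fin n) R) i j =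
          σ (F s (G t (π (Pi.single j 1)))) i - σ (π (Pi.single j 1)) i := by
        simp only [mat, θ, LinearMap.toMatrix'_apply, LinearMap.sub_apply, LinearMap.add_apply, LinearMap.comp_apply,
          LinearMap.restrictScalars_apply, LinearMap.id_apply, Pi.sub_apply, Pi.add_apply, Matrix.one_apply,
          Pi.single_apply]
        split_ifs <;> ring
      rw [hentry]
      exact h1
    rw [hone, Matrix.det_one]
    letI := Ideal.Quotient.field m
    exact one_ne_zero
  have hdet : IsUnit (mat (θ (w ∘ Sum.inl) (w ∘ Sum.inr))).det := by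
    have := hev (S := R) w
    simp only [Algebra.algebraMap_self, RingHom.id_apply] at this
    rw [← this]; exact hw
  set s := w ∘ Sum.inl
  set t := w ∘ Sum.inr
  have hΘ : Function.Bijective ⇑(σ ∘ₗ θ s t ∘ₗ π + LinearMap.id - σ ∘ₗ π : (Fin n → R) →ₗ[R] (Fin n → R)) := by
    rw [← Module.End.isUnit_iff, ← LinearMap.isUnit_toMatrix'_iff, Matrix.isUnit_iff_isUnit_det]
    exact hdet
  refine ⟨F s, G t, ⟨fun x y hxy => ?_, fun y => ?_⟩⟩
  · have h0 : θ s t (x - y) = 0 := by
      show F s (G t (x - y)) = 0
      rw [map_sub, map_sub]; exact sub_eq_zero.mpr hxy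
    have h1 : σ (x - y) = 0 := hΘ.1 (by simp [hπσ, h0])
    have h2 := congrArg π h1
    rw [hπσ, map_zero] at h2
    exact sub_eq_zero.mp h2
  · obtain ⟨v, hv⟩ := hΘ.2 (σ y)
    refine ⟨π v, ?_⟩
    have h1 := congrArg π hv
    simpa [hπσ, θ] using h1

theorem exists_residual_aux {A : Type v} [Ring A] [Algebra R A] [IsAzumaya R A]
    (M : Type w) [AddCommGroup M] [Module A M] [Module R M] [IsScalarTower R A M] [Module.Finite A M]
    [Module.Projective A M] (N : Type w') [AddCommGroup N] [Module A N] [Module R N] [IsScalarTower R A N]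
    [Module.Finite A N] [Module.Projective A N]
    (h : ∀ p : PrimeSpectrum R, Module.rankAtStalk N p ≤ Module.rankAtStalk M p)
    (k : Type u) [Field k] [Algebra R k] (hs : Function.Surjective (algebraMap R k)) :
    ∃ (f : M →ₗ[A] N) (g : N →ₗ[A] M), ∀ y, (1 : k) ⊗ₜ[R] f (g y) = (1 : k) ⊗ₜ[R] y := by
  classical
  obtain ⟨hM₁, hM₂⟩ := projective_restrict (R := R) (A := A) M
  obtain ⟨hN₁, hN₂⟩ := projective_restrict (R := R) (A := A) N
  haveI : IsAzumaya k (k ⊗[R] A) := isAzumaya_baseChange (R := R) k A
  obtain ⟨_, _⟩ := (isAzumaya_iff_centralSimple (k := k) (k ⊗[R] A)).mp inferInstance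
  have hdim : Module.finrank k (k ⊗[R] N) ≤ Module.finrank k (k ⊗[R] M) := by
    let q : PrimeSpectrum k := ⟨⊥, Ideal.isPrime_bot⟩
    have e1 := Module.rankAtStalk_baseChange (R := R) (M := N) (S := k) q
    have e2 := Module.rankAtStalk_baseChange (R := R) (M := M) (S := k) q
    rw [Module.rankAtStalk_eq_finrank_of_free] at e1 e2
    exact (e1.le.trans (h _)).trans e2.ge
  let actM : k ⊗[R] A →ₐ[k] Module.End k (k ⊗[R] M) :=
    Algebra.TensorProduct.lift (Algebra.ofId _ _) ((Module.End.baseChangeHom R k M).comp (Algebra.lsmul R R M))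
      fun c a => Algebra.commutes c _
  let actN : k ⊗[R] A →ₐ[k] Module.End k (k ⊗[R] N) :=
    Algebra.TensorProduct.lift (Algebra.ofId _ _) ((Module.End.baseChangeHom R k N).comp (Algebra.lsmul R R N))
      fun c a => Algebra.commutes c _
  letI : Module (k ⊗[R] A) (k ⊗[R] M) := Module.compHom _ actM.toRingHom
  letI : Module (k ⊗[R] A) (k ⊗[R] N) := Module.compHom _ actN.toRingHom
  haveI : IsScalarTower k (k ⊗[R] A) (k ⊗[R] M) := ⟨fun c l x => by
    show actM (c • l) x = c • actM l x
    rw [map_smul]; rfl⟩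
  haveI : IsScalarTower k (k ⊗[R] A) (k ⊗[R] N) := ⟨fun c l x => by
    show actN (c • l) x = c • actN l x
    rw [map_smul]; rfl⟩
  have hactM : ∀ (a : A) (c : k) (x : M), ((1 : k) ⊗ₜ[R] a) • (c ⊗ₜ[R] x) = c ⊗ₜ[R] (a • x) := fun a c x => by
    show actM _ _ = _
    rw [show actM ((1 : k) ⊗ₜ[R] a) = _ from Algebra.TensorProduct.lift_tmul _ _ _ _ _, map_one, one_mul]
    rfl
  have hactN : ∀ (a : A) (c : k) (x : N), ((1 : k) ⊗ₜ[R] a) • (c ⊗ₜ[R] x) = c ⊗ₜ[R] (a • x) := fun a c x => by
    show actN _ _ = _
    rw [show actN ((1 : k) ⊗ₜ[R] a) = _ from Algebra.TensorProduct.lift_tmul _ _ _ _ _, map_one, one_mul]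
    rfl
  haveI : IsArtinianRing (k ⊗[R] A) := IsArtinianRing.of_finite k _
  obtain ⟨I, hI⟩ := IsAtomic.exists_atom (Ideal (k ⊗[R] A))
  haveI : IsSimpleModule (k ⊗[R] A) I := isSimpleModule_iff_isAtom.2 hI
  haveI : Module.Finite (k ⊗[R] A) (k ⊗[R] M) := Module.Finite.of_restrictScalars_finite k _ _
  haveI : Module.Finite (k ⊗[R] A) (k ⊗[R] N) := Module.Finite.of_restrictScalars_finite k _ _
  haveI : FiniteDimensional k I := Module.Finite.equiv (LinearEquiv.refl k (I.restrictScalars k))
  obtain ⟨i, ⟨ei⟩⟩ := (isIsotypicOfType (P := k ⊗[R] M) I).linearEquiv_fun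
  obtain ⟨j, ⟨ej⟩⟩ := (isIsotypicOfType (P := k ⊗[R] N) I).linearEquiv_fun
  have hji : j ≤ i := by
    have hpos : 0 < Module.finrank k I := by
      haveI : Nontrivial I := IsSimpleModule.nontrivial (k ⊗[R] A) I
      exact Module.finrank_pos
    rw [(ei.restrictScalars k).finrank_eq, (ej.restrictScalars k).finrank_eq] at hdim
    simp only [Module.finrank_pi_fintype, Finset.sum_const, Finset.card_univ, Fintype.card_fin, smul_eq_mul] at hdim
    exact Nat.le_of_mul_le_mul_right hdim hpos
  let fb : (k ⊗[R] M) →ₗ[k ⊗[R] A] (k ⊗[R] N) :=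
    ej.symm.toLinearMap ∘ₗ LinearMap.funLeft (k ⊗[R] A) I (Fin.castLE hji) ∘ₗ ei.toLinearMap
  let gb : (k ⊗[R] N) →ₗ[k ⊗[R] A] (k ⊗[R] M) :=
    ei.symm.toLinearMap ∘ₗ LinearMap.pi (fun x : Fin i => if hx : x.val < j then LinearMap.proj ⟨x.val, hx⟩ else 0) ∘ₗ
      ej.toLinearMap
  have hfg : ∀ y, fb (gb y) = y := fun y => by
    simp only [fb, gb, LinearMap.comp_apply, LinearEquiv.coe_coe, LinearEquiv.apply_symm_apply]
    rw [LinearEquiv.symm_apply_eq]
    funext x
    simp [LinearMap.funLeft_apply, LinearMap.pi_apply]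
  letI : Module A (k ⊗[R] M) := Module.compHom _ (Algebra.TensorProduct.includeRight : A →ₐ[R] k ⊗[R] A).toRingHom
  letI : Module A (k ⊗[R] N) := Module.compHom _ (Algebra.TensorProduct.includeRight : A →ₐ[R] k ⊗[R] A).toRingHom
  let pM : M →ₗ[A] k ⊗[R] M :=
    { toFun := fun x => (1 : k) ⊗ₜ[R] x
      map_add' := TensorProduct.tmul_add 1
      map_smul' := fun a x => (hactM a 1 x).symm }
  let pN : N →ₗ[A] k ⊗[R] N :=
    { toFun := fun x => (1 : k) ⊗ₜ[R] x
      map_add' := TensorProduct.tmul_add 1
      map_smul' := fun a x => (hactN a 1 x).symm }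
  let fA : (k ⊗[R] M) →ₗ[A] (k ⊗[R] N) :=
    { toFun := fb, map_add' := fb.map_add, map_smul' := fun a x => fb.map_smul _ x }
  let gA : (k ⊗[R] N) →ₗ[A] (k ⊗[R] M) :=
    { toFun := gb, map_add' := gb.map_add, map_smul' := fun a x => gb.map_smul _ x }
  have hpM : Function.Surjective pM := TensorProduct.mk_surjective R M k hs
  have hpN : Function.Surjective pN := TensorProduct.mk_surjective R N k hs
  obtain ⟨f, hf⟩ := Module.projective_lifting_property pN (fA ∘ₗ pM) hpN
  obtain ⟨g, hg⟩ := Module.projective_lifting_property pM (gA ∘ₗ pN) hpM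
  refine ⟨f, g, fun y => ?_⟩
  show (1 : k) ⊗ₜ[R] (f (g y)) = (1 : k) ⊗ₜ[R] y
  have h1 : (1 : k) ⊗ₜ[R] (f (g y)) = fb ((1 : k) ⊗ₜ[R] g y) := LinearMap.congr_fun hf (g y)
  have h2 : (1 : k) ⊗ₜ[R] g y = gb ((1 : k) ⊗ₜ[R] y) := LinearMap.congr_fun hg y
  rw [h1, h2, hfg]

/-- Residual split surjections from the rank inequality. -/
theorem exists_residual_of_rank_le {A : Type v} [Ring A] [Algebra R A] [IsAzumaya R A]
    (M : Type w) [AddCommGroup M] [Module A M] [Module R M] [IsScalarTower R A M] [Module.Finite A M]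
    [Module.Projective A M] (N : Type w') [AddCommGroup N] [Module A N] [Module R N] [IsScalarTower R A N]
    [Module.Finite A N] [Module.Projective A N]
    (h : ∀ p : PrimeSpectrum R, Module.rankAtStalk N p ≤ Module.rankAtStalk M p)
    (m : Ideal R) (hm : m.IsMaximal) :
    ∃ (f : M →ₗ[A] N) (g : N →ₗ[A] M), ∀ y, f (g y) - y ∈ (m • ⊤ : Submodule R N) := by
  letI : Field (R ⧸ m) := Ideal.Quotient.field m
  obtain ⟨f, g, hfg⟩ := exists_residual_aux (R := R) (A := A) M N h (R ⧸ m) Ideal.Quotient.mk_surjective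
  refine ⟨f, g, fun y => ?_⟩
  have hy := hfg y
  rw [← Submodule.Quotient.eq]
  have h2 := congrArg (TensorProduct.quotTensorEquivQuotSMul N m) hy
  have e1 := TensorProduct.quotTensorEquivQuotSMul_mk_tmul m 1 (f (g y))
  have e2 := TensorProduct.quotTensorEquivQuotSMul_mk_tmul m 1 y
  rw [one_smul] at e1 e2
  exact e1.symm.trans (h2.trans e2)

/-- Over an LG-ring: a projective module of smaller rank is a direct summand. -/
theorem exists_split_surjective (hR : LGRing.IsLGRing R) {A : Type v} [Ring A] [Algebra R A] [IsAzumaya R A]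
    (M : Type w) [AddCommGroup M] [Module A M] [Module R M] [IsScalarTower R A M] [Module.Finite A M]
    [Module.Projective A M] (N : Type w') [AddCommGroup N] [Module A N] [Module R N] [IsScalarTower R A N]
    [Module.Finite A N] [Module.Projective A N]
    (h : ∀ p : PrimeSpectrum R, Module.rankAtStalk N p ≤ Module.rankAtStalk M p) :
    ∃ (f : M →ₗ[A] N) (g : N →ₗ[A] M), f ∘ₗ g = LinearMap.id := by
  obtain ⟨f, g, hb⟩ := exists_bijective_comp_of_residual hR (A := A) M N (exists_residual_of_rank_le (R := R) (A := A) M N h)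
  let e : N ≃ₗ[A] N := LinearEquiv.ofBijective (f ∘ₗ g) hb
  exact ⟨f, g ∘ₗ e.symm.toLinearMap, LinearMap.ext fun y => e.apply_symm_apply y⟩

theorem nonempty_linearEquiv_of_rank (hR : LGRing.IsLGRing R) {A : Type v} [Ring A] [Algebra R A] [IsAzumaya R A]
    (M : Type w) [AddCommGroup M] [Module A M] [Module R M] [IsScalarTower R A M] [Module.Finite A M]
    [Module.Projective A M] (N : Type w') [AddCommGroup N] [Module A N] [Module R N] [IsScalarTower R A N]
    [Module.Finite A N] [Module.Projective A N]
    (h : ∀ p : PrimeSpectrum R, Module.rankAtStalk N p = Module.rankAtStalk M p) :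
    Nonempty (M ≃ₗ[A] N) := by
  haveI := (projective_restrict (R := R) (A := A) M).1
  obtain ⟨f, g, hfg⟩ := exists_split_surjective hR (A := A) M N fun p => (h p).le
  obtain ⟨f', g', hfg'⟩ := exists_split_surjective hR (A := A) N M fun p => (h p).ge
  have hf : Function.Surjective f := fun y => ⟨g y, LinearMap.congr_fun hfg y⟩
  have hf' : Function.Surjective f' := fun y => ⟨g' y, LinearMap.congr_fun hfg' y⟩
  have hb := OrzechProperty.bijective_of_surjective_endomorphism ((f' ∘ₗ f).restrictScalars R) (hf'.comp hf)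
  exact ⟨LinearEquiv.ofBijective f ⟨Function.Injective.of_comp (f := f') hb.1, hf⟩⟩

section cancellation

variable {A : Type v} [Ring A] [Algebra R A] {B : Type v} [Ring B] [Algebra R B]
  {P : Type w} [AddCommGroup P] [Module R P] {Q : Type w'} [AddCommGroup Q] [Module R Q]

variable (R A P) in
/-- The action of `A ⊗ End P` on `A ⊗ P`. -/
noncomputable def bimodAct : A ⊗[R] Module.End R P →ₐ[R] Module.End R (A ⊗[R] P) :=
  Algebra.TensorProduct.lift ((Module.End.rTensorAlgHom R A P).comp (Algebra.lmul R A))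
    (Module.End.lTensorAlgHom R P A) fun a g => TensorProduct.ext' fun x p => rfl

theorem bimodAct_tmul (a x : A) (g : Module.End R P) (p : P) :
    bimodAct R A P (a ⊗ₜ g) (x ⊗ₜ p) = (a * x) ⊗ₜ g p := rfl

theorem exists_trace_one (P : Type w) [AddCommGroup P] [Module R P] [Module.Finite R P] [Module.Projective R P]
    [FaithfulSMul R P] : ∃ (n : ℕ) (q : Fin n → P) (l : Fin n → P →ₗ[R] R), ∑ i, l i (q i) = 1 := by
  classical
  obtain ⟨n, x, f, hf⟩ := exists_dual_basis (R := R) P
  let J : Ideal R := Ideal.span (Set.range fun p : Fin n × Fin n => f p.1 (x p.2))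
  have hJ : J = ⊤ := by
    by_contra hne
    have hle : (⊤ : Submodule R P) ≤ J • ⊤ := fun p _ => by
      rw [← hf p]
      refine Submodule.sum_mem _ fun i _ => Submodule.smul_mem_smul ?_ trivial
      rw [← hf p, map_sum]
      exact Ideal.sum_mem _ fun j _ => by
        rw [map_smul, smul_eq_mul]
        exact Ideal.mul_mem_left _ _ (Ideal.subset_span ⟨(i, j), rfl⟩)
    obtain ⟨r, hr1, hr2⟩ := Submodule.exists_sub_one_mem_and_smul_eq_zero_of_fg_of_le_smul J ⊤ Module.Finite.fg_top hle
    have : r = 0 := eq_of_smul_eq_smul (α := P) fun p => by rw [hr2 p trivial, zero_smul]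
    rw [this, zero_sub, neg_mem_iff] at hr1
    exact hne ((Ideal.eq_top_iff_one J).mpr hr1)
  obtain ⟨c, hc⟩ := Submodule.mem_span_range_iff_exists_fun R |>.mp
    (show (1 : R) ∈ J by rw [hJ]; exact Submodule.mem_top)
  refine ⟨n, x, fun j => ∑ i, c (i, j) • f i, ?_⟩
  rw [← hc, Fintype.sum_prod_type, Finset.sum_comm]
  exact Finset.sum_congr rfl fun j _ => by simp [LinearMap.sum_apply]

/-- Cancellation: Azumaya algebras of the same rank with the same Brauer class over an LG-ring are isomorphic. -/
theorem nonempty_algEquiv_of_brauer (hR : LGRing.IsLGRing R) [IsAzumaya R A] [IsAzumaya R B]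
    [Module.Finite R P] [Module.Projective R P] [FaithfulSMul R P]
    [Module.Finite R Q] [Module.Projective R Q] [FaithfulSMul R Q]
    (hdeg : ∀ p : PrimeSpectrum R, Module.rankAtStalk A p = Module.rankAtStalk B p)
    (e : A ⊗[R] Module.End R P ≃ₐ[R] B ⊗[R] Module.End R Q) : Nonempty (A ≃ₐ[R] B) := by
  classical
  haveI := isAzumaya_moduleEnd (R := R) P
  haveI := isAzumaya_moduleEnd (R := R) Q
  set L := A ⊗[R] Module.End R P
  haveI : IsAzumaya R L := Groth.Agent.S19587.result R A (Module.End R P)
  letI : Module L (A ⊗[R] P) := Module.compHom _ (bimodAct R A P).toRingHom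
  letI : Module L (B ⊗[R] Q) := Module.compHom _ ((bimodAct R B Q).comp e.toAlgHom).toRingHom
  haveI : IsScalarTower R L (A ⊗[R] P) := ⟨fun c l x => by
    show bimodAct R A P (c • l) x = c • bimodAct R A P l x
    rw [map_smul]; rfl⟩
  haveI : IsScalarTower R L (B ⊗[R] Q) := ⟨fun c l x => by
    show bimodAct R B Q (e (c • l)) x = c • bimodAct R B Q (e l) x
    rw [map_smul, map_smul]; rfl⟩
  obtain ⟨n, q, l, hql⟩ := exists_trace_one (R := R) P
  obtain ⟨n', q', l', hql'⟩ := exists_trace_one (R := R) Q
  -- projectivity and finiteness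
  have hP : Module.Finite L (A ⊗[R] P) ∧ Module.Projective L (A ⊗[R] P) := by
    let π : (Fin n → L) →ₗ[L] A ⊗[R] P :=
      ∑ i, (LinearMap.toSpanSingleton L _ ((1 : A) ⊗ₜ[R] q i)).comp (LinearMap.proj i)
    let s₀ : Fin n → (A ⊗[R] P →ₗ[R] L) := fun i =>
      LinearMap.lTensor A ((LinearMap.smulRightₗ (l i) : P →ₗ[R] Module.End R P))
    have hs₀ : ∀ i a p, s₀ i (a ⊗ₜ p) = a ⊗ₜ (l i).smulRight p := fun i a p => rfl
    let s : A ⊗[R] P →ₗ[L] (Fin n → L) :=
      { toFun := fun x i => s₀ i x
        map_add' := fun x y => funext fun i => map_add _ x y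
        map_smul' := fun t x => funext fun i => by
          show s₀ i (bimodAct R A P t x) = t * s₀ i x
          induction t using TensorProduct.induction_on with
          | zero => simp
          | add t t' ht ht' => rw [map_add, LinearMap.add_apply, map_add, ht, ht', add_mul]
          | tmul a g =>
            induction x using TensorProduct.induction_on with
            | zero => simp
            | add x y hx hy => rw [map_add, map_add, hx, hy, map_add, mul_add]
            | tmul b p =>
              rw [bimodAct_tmul, hs₀, hs₀, Algebra.TensorProduct.tmul_mul_tmul]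
              congr 1
              exact LinearMap.ext fun z => by simp }
    have hπs : π ∘ₗ s = LinearMap.id := LinearMap.ext fun x => by
      induction x using TensorProduct.induction_on with
      | zero => simp
      | add x y hx hy => rw [map_add, hx, hy, map_add]
      | tmul a p =>
        show (∑ i, (LinearMap.toSpanSingleton L _ ((1 : A) ⊗ₜ[R] q i)).comp (LinearMap.proj i)) (fun i => s₀ i (a ⊗ₜ p)) = _
        rw [LinearMap.sum_apply]
        show ∑ i, bimodAct R A P (s₀ i (a ⊗ₜ p)) ((1 : A) ⊗ₜ q i) = a ⊗ₜ p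
        simp only [hs₀, bimodAct_tmul, mul_one, LinearMap.smulRight_apply]
        rw [← TensorProduct.tmul_sum, ← Finset.sum_smul, hql, one_smul]
    exact ⟨Module.Finite.of_surjective π fun x => ⟨s x, LinearMap.congr_fun hπs x⟩, Module.Projective.of_split s π hπs⟩
  have hQ : Module.Finite L (B ⊗[R] Q) ∧ Module.Projective L (B ⊗[R] Q) := by
    let π : (Fin n' → L) →ₗ[L] B ⊗[R] Q :=
      ∑ i, (LinearMap.toSpanSingleton L _ ((1 : B) ⊗ₜ[R] q' i)).comp (LinearMap.proj i)
    let s₀ : Fin n' → (B ⊗[R] Q →ₗ[R] B ⊗[R] Module.End R Q) := fun i =>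
      LinearMap.lTensor B ((LinearMap.smulRightₗ (l' i) : Q →ₗ[R] Module.End R Q))
    have hs₀ : ∀ i a p, s₀ i (a ⊗ₜ p) = a ⊗ₜ (l' i).smulRight p := fun i a p => rfl
    let s : B ⊗[R] Q →ₗ[L] (Fin n' → L) :=
      { toFun := fun x i => e.symm (s₀ i x)
        map_add' := fun x y => funext fun i => by simp
        map_smul' := fun t x => funext fun i => by
          show e.symm (s₀ i (bimodAct R B Q (e t) x)) = t * e.symm (s₀ i x)
          conv_rhs => rw [← e.symm_apply_apply t, ← map_mul]
          congr 1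
          generalize e t = t'
          induction t' using TensorProduct.induction_on with
          | zero => simp
          | add t t' ht ht' => rw [map_add, LinearMap.add_apply, map_add, ht, ht', add_mul]
          | tmul a g =>
            induction x using TensorProduct.induction_on with
            | zero => simp
            | add x y hx hy => rw [map_add, map_add, hx, hy, map_add, mul_add]
            | tmul b p =>
              rw [bimodAct_tmul, hs₀, hs₀, Algebra.TensorProduct.tmul_mul_tmul]
              congr 1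
              exact LinearMap.ext fun z => by simp }
    have hπs : π ∘ₗ s = LinearMap.id := LinearMap.ext fun x => by
      induction x using TensorProduct.induction_on with
      | zero => simp
      | add x y hx hy => rw [map_add, hx, hy, map_add]
      | tmul a p =>
        show (∑ i, (LinearMap.toSpanSingleton L _ ((1 : B) ⊗ₜ[R] q' i)).comp (LinearMap.proj i))
          (fun i => e.symm (s₀ i (a ⊗ₜ p))) = _
        rw [LinearMap.sum_apply]
        show ∑ i, bimodAct R B Q (e (e.symm (s₀ i (a ⊗ₜ p)))) ((1 : B) ⊗ₜ q' i) = a ⊗ₜ p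
        simp only [e.apply_symm_apply, hs₀, bimodAct_tmul, mul_one, LinearMap.smulRight_apply]
        rw [← TensorProduct.tmul_sum, ← Finset.sum_smul, hql', one_smul]
    exact ⟨Module.Finite.of_surjective π fun x => ⟨s x, LinearMap.congr_fun hπs x⟩, Module.Projective.of_split s π hπs⟩
  haveI := hP.1
  haveI := hP.2
  haveI := hQ.1
  haveI := hQ.2
  -- ranks
  have hrk : ∀ p : PrimeSpectrum R, Module.rankAtStalk (B ⊗[R] Q) p = Module.rankAtStalk (A ⊗[R] P) p := by
    intro p
    have h1 := congrFun (Module.rankAtStalk_eq_of_equiv e.toLinearEquiv) p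
    simp only [Module.rankAtStalk_tensorProduct, Pi.mul_apply, rankAtStalk_end] at h1
    simp only [Module.rankAtStalk_tensorProduct, Pi.mul_apply]
    rw [hdeg p] at h1 ⊢
    have hB : Module.rankAtStalk (R := R) B p ≠ 0 := by
      rw [Ne, Module.rankAtStalk_eq_zero_iff_notMem_support, not_not, Module.support_eq_zeroLocus,
        PrimeSpectrum.mem_zeroLocus, Module.annihilator_eq_bot.mpr inferInstance]
      intro x hx
      rw [show x = 0 from hx]
      exact p.asIdeal.zero_mem
    exact (congrArg (Module.rankAtStalk (R := R) B p * ·)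
      (Nat.mul_self_inj.mp (Nat.eq_of_mul_eq_mul_left (Nat.pos_of_ne_zero hB) h1))).symm
  obtain ⟨φ⟩ := nonempty_linearEquiv_of_rank hR (A := L) (A ⊗[R] P) (B ⊗[R] Q) hrk
  -- endomorphisms commuting with `L` are right multiplications
  have hA : ∀ T : (A ⊗[R] P) →ₗ[L] (A ⊗[R] P), ∃ u : A, ∀ a p, T (a ⊗ₜ p) = (a * u) ⊗ₜ p := by
    intro T
    let c : Fin n → (A ⊗[R] P →ₗ[R] A) := fun i => (TensorProduct.rid R A).toLinearMap ∘ₗ LinearMap.lTensor A (l i)
    refine ⟨∑ i, c i (T ((1 : A) ⊗ₜ q i)), fun a p => ?_⟩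
    have hTl : ∀ (t : L) x, T (bimodAct R A P t x) = bimodAct R A P t (T x) := fun t x => T.map_smul t x
    have hp : a ⊗ₜ[R] p = ∑ i, bimodAct R A P (a ⊗ₜ (l i).smulRight p) ((1 : A) ⊗ₜ q i) := by
      simp only [bimodAct_tmul, mul_one, LinearMap.smulRight_apply]
      rw [← TensorProduct.tmul_sum, ← Finset.sum_smul, hql, one_smul]
    rw [hp, map_sum, Finset.mul_sum, TensorProduct.sum_tmul]
    refine Finset.sum_congr rfl fun i _ => ?_
    rw [hTl]
    induction T ((1 : A) ⊗ₜ q i) using TensorProduct.induction_on with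
    | zero => simp
    | add x y hx hy => rw [map_add, hx, hy, map_add, mul_add, TensorProduct.add_tmul]
    | tmul b r =>
      rw [bimodAct_tmul, LinearMap.smulRight_apply]
      simp only [c, LinearMap.comp_apply, LinearEquiv.coe_coe, LinearMap.lTensor_tmul, TensorProduct.rid_tmul]
      rw [mul_smul_comm, TensorProduct.smul_tmul]
  have hB : ∀ T : (B ⊗[R] Q) →ₗ[L] (B ⊗[R] Q), ∃ u : B, ∀ a p, T (a ⊗ₜ p) = (a * u) ⊗ₜ p := by
    intro T
    let c : Fin n' → (B ⊗[R] Q →ₗ[R] B) := fun i => (TensorProduct.rid R B).toLinearMap ∘ₗ LinearMap.lTensor B (l' i)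
    refine ⟨∑ i, c i (T ((1 : B) ⊗ₜ q' i)), fun a p => ?_⟩
    have hTl : ∀ (t : B ⊗[R] Module.End R Q) x, T (bimodAct R B Q t x) = bimodAct R B Q t (T x) := fun t x => by
      have h0 : T (bimodAct R B Q (e (e.symm t)) x) = bimodAct R B Q (e (e.symm t)) (T x) := T.map_smul (e.symm t) x
      rwa [e.apply_symm_apply] at h0
    have hp : a ⊗ₜ[R] p = ∑ i, bimodAct R B Q (a ⊗ₜ (l' i).smulRight p) ((1 : B) ⊗ₜ q' i) := by
      simp only [bimodAct_tmul, mul_one, LinearMap.smulRight_apply]
      rw [← TensorProduct.tmul_sum, ← Finset.sum_smul, hql', one_smul]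
    rw [hp, map_sum, Finset.mul_sum, TensorProduct.sum_tmul]
    refine Finset.sum_congr rfl fun i _ => ?_
    rw [hTl]
    induction T ((1 : B) ⊗ₜ q' i) using TensorProduct.induction_on with
    | zero => simp
    | add x y hx hy => rw [map_add, hx, hy, map_add, mul_add, TensorProduct.add_tmul]
    | tmul b r =>
      rw [bimodAct_tmul, LinearMap.smulRight_apply]
      simp only [c, LinearMap.comp_apply, LinearEquiv.coe_coe, LinearMap.lTensor_tmul, TensorProduct.rid_tmul]
      rw [mul_smul_comm, TensorProduct.smul_tmul]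
  let RA : A → (A ⊗[R] P) →ₗ[L] (A ⊗[R] P) := fun u =>
    { toFun := LinearMap.rTensor P (LinearMap.mulRight R u)
      map_add' := map_add _
      map_smul' := fun t x => by
        show LinearMap.rTensor P (LinearMap.mulRight R u) (bimodAct R A P t x) =
          bimodAct R A P t (LinearMap.rTensor P (LinearMap.mulRight R u) x)
        induction t using TensorProduct.induction_on with
        | zero => simp
        | add t t' ht ht' => rw [map_add, LinearMap.add_apply, map_add, ht, ht', LinearMap.add_apply]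
        | tmul a g =>
          induction x using TensorProduct.induction_on with
          | zero => simp
          | add x y hx hy => rw [map_add, map_add, hx, hy, map_add, map_add]
          | tmul b p => simp [bimodAct_tmul, mul_assoc] }
  let RB : B → (B ⊗[R] Q) →ₗ[L] (B ⊗[R] Q) := fun u =>
    { toFun := LinearMap.rTensor Q (LinearMap.mulRight R u)
      map_add' := map_add _
      map_smul' := fun t x => by
        show LinearMap.rTensor Q (LinearMap.mulRight R u) (bimodAct R B Q (e t) x) =
          bimodAct R B Q (e t) (LinearMap.rTensor Q (LinearMap.mulRight R u) x)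
        generalize e t = t'
        induction t' using TensorProduct.induction_on with
        | zero => simp
        | add t t' ht ht' => rw [map_add, LinearMap.add_apply, map_add, ht, ht', LinearMap.add_apply]
        | tmul a g =>
          induction x using TensorProduct.induction_on with
          | zero => simp
          | add x y hx hy => rw [map_add, map_add, hx, hy, map_add, map_add]
          | tmul b p => simp [bimodAct_tmul, mul_assoc] }
  have hRAi : Function.Injective RA := fun u u' h => by
    have h1 : ∀ i, u ⊗ₜ[R] q i = u' ⊗ₜ[R] q i := fun i => by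
      have h0 : LinearMap.rTensor P (LinearMap.mulRight R u) ((1 : A) ⊗ₜ q i) =
          LinearMap.rTensor P (LinearMap.mulRight R u') ((1 : A) ⊗ₜ q i) := LinearMap.congr_fun h ((1 : A) ⊗ₜ q i)
      simpa using h0
    have h2 := fun i => congrArg (fun z => TensorProduct.rid R A (LinearMap.lTensor A (l i) z)) (h1 i)
    simp only [LinearMap.lTensor_tmul, TensorProduct.rid_tmul] at h2
    rw [← one_smul R u, ← one_smul R u', ← hql, Finset.sum_smul, Finset.sum_smul]
    exact Finset.sum_congr rfl fun i _ => h2 i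
  have hRBi : Function.Injective RB := fun u u' h => by
    have h1 : ∀ i, u ⊗ₜ[R] q' i = u' ⊗ₜ[R] q' i := fun i => by
      have h0 : LinearMap.rTensor Q (LinearMap.mulRight R u) ((1 : B) ⊗ₜ q' i) =
          LinearMap.rTensor Q (LinearMap.mulRight R u') ((1 : B) ⊗ₜ q' i) := LinearMap.congr_fun h ((1 : B) ⊗ₜ q' i)
      simpa using h0
    have h2 := fun i => congrArg (fun z => TensorProduct.rid R B (LinearMap.lTensor B (l' i) z)) (h1 i)
    simp only [LinearMap.lTensor_tmul, TensorProduct.rid_tmul] at h2
    rw [← one_smul R u, ← one_smul R u', ← hql', Finset.sum_smul, Finset.sum_smul]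
    exact Finset.sum_congr rfl fun i _ => h2 i
  choose η hη using fun b : B => hA (φ.symm.toLinearMap ∘ₗ RB b ∘ₗ φ.toLinearMap)
  have hη' : ∀ b x, φ (RA (η b) x) = RB b (φ x) := fun b x => by
    rw [← φ.apply_symm_apply (RB b (φ x))]
    congr 1
    show LinearMap.rTensor P (LinearMap.mulRight R (η b)) x = _
    induction x using TensorProduct.induction_on with
    | zero => simp
    | add x y hx hy => simp [map_add, hx, hy]
    | tmul a p => rw [LinearMap.rTensor_tmul, LinearMap.mulRight_apply]; exact (hη b a p).symm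
  have hRBmul : ∀ b b' x, RB (b * b') x = RB b' (RB b x) := fun b b' x => by
    show LinearMap.rTensor Q (LinearMap.mulRight R (b * b')) x = _
    rw [LinearMap.mulRight_mul, LinearMap.rTensor_comp]; rfl
  have hRAmul : ∀ b b' x, RA (b * b') x = RA b' (RA b x) := fun b b' x => by
    show LinearMap.rTensor P (LinearMap.mulRight R (b * b')) x = _
    rw [LinearMap.mulRight_mul, LinearMap.rTensor_comp]; rfl
  have hchar : ∀ b u, (∀ x, φ (RA u x) = RB b (φ x)) → η b = u := fun b u h => hRAi (LinearMap.ext fun x =>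
    φ.injective ((hη' b x).trans (h x).symm))
  have hRA1 : ∀ (r : R) x, RA (algebraMap R A r) x = r • x := fun r x => by
    show LinearMap.rTensor P (LinearMap.mulRight R (algebraMap R A r)) x = _
    rw [show LinearMap.mulRight R (algebraMap R A r) = r • LinearMap.id from LinearMap.ext fun a => by
      simp [Algebra.smul_def, Algebra.commutes], LinearMap.rTensor_smul, LinearMap.rTensor_id]; rfl
  have hRB1 : ∀ (r : R) x, RB (algebraMap R B r) x = r • x := fun r x => by
    show LinearMap.rTensor Q (LinearMap.mulRight R (algebraMap R B r)) x = _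
    rw [show LinearMap.mulRight R (algebraMap R B r) = r • LinearMap.id from LinearMap.ext fun a => by
      simp [Algebra.smul_def, Algebra.commutes], LinearMap.rTensor_smul, LinearMap.rTensor_id]; rfl
  have hφR : ∀ (r : R) x, φ (r • x) = r • φ x := fun r x => φ.toLinearMap.map_smul_of_tower r x
  let h : B →ₐ[R] A :=
    { toFun := η
      map_one' := hchar _ _ fun x => by
        rw [← map_one (algebraMap R A), ← map_one (algebraMap R B), hRA1, hRB1, hφR]
      map_mul' := fun b b' => hchar _ _ fun x => by rw [hRAmul, hη', hη', hRBmul]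
      map_zero' := hchar _ _ fun x => by
        rw [← map_zero (algebraMap R A), ← map_zero (algebraMap R B), hRA1, hRB1, hφR]
      map_add' := fun b b' => hchar _ _ fun x => by
        show φ (LinearMap.rTensor P (LinearMap.mulRight R (η b + η b')) x) =
          LinearMap.rTensor Q (LinearMap.mulRight R (b + b')) (φ x)
        rw [show LinearMap.mulRight R (η b + η b') = LinearMap.mulRight R (η b) + LinearMap.mulRight R (η b') from
          LinearMap.ext fun z => mul_add z _ _, show LinearMap.mulRight R (b + b') = LinearMap.mulRight R b +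
          LinearMap.mulRight R b' from LinearMap.ext fun z => mul_add z _ _, LinearMap.rTensor_add, LinearMap.rTensor_add,
          LinearMap.add_apply, LinearMap.add_apply, map_add]
        exact congrArg₂ (· + ·) (hη' b x) (hη' b' x)
      commutes' := fun r => hchar _ _ fun x => by rw [hRA1, hRB1, hφR] }
  refine ⟨(AlgEquiv.ofBijective h ⟨fun b b' hb => hRBi (LinearMap.ext fun y => ?_), fun u => ?_⟩).symm⟩
  · obtain ⟨x, rfl⟩ := φ.surjective y
    rw [← hη', ← hη', show η b = η b' from hb]
  · obtain ⟨b, hb⟩ := hB (φ.toLinearMap ∘ₗ RA u ∘ₗ φ.symm.toLinearMap)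
    refine ⟨b, hchar _ _ fun x => ?_⟩
    have h1 : RB b (φ x) = φ (RA u (φ.symm (φ x))) := by
      generalize φ x = y
      show LinearMap.rTensor Q (LinearMap.mulRight R b) y = _
      induction y using TensorProduct.induction_on with
      | zero => simp
      | add x y hx hy => simp [map_add, hx, hy]
      | tmul a p => rw [LinearMap.rTensor_tmul, LinearMap.mulRight_apply]; exact (hb a p).symm
    rw [h1, φ.symm_apply_apply]

end cancellation

end Groth.Agent.CSA
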