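import Groth.Agent.CSA.Centralizer
import Mathlib.FieldTheory.SeparableDegree
import Mathlib.FieldTheory.IntermediateField.Adjoin.Algebra
import Mathlib.RingTheory.Adjoin.Basic

/-!
# Separable maximal subfields of division algebras
-/

namespace Groth.Agent.CSA

set_option linter.style.haveILetI false
set_option linter.deprecated false

variable (k : Type*) [Field k]

section

variable {D : Type*} [DivisionRing D] [Algebra k D] [FiniteDimensional k D]

/-- Degree of the subalgebra generated by a primitive element of an embedded field. -/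
theorem finrank_adjoin_image {M : Type*} [Field M] [Algebra k M] [FiniteDimensional k M]
    (f : M →ₐ[k] D) {z : M} (hz : IntermediateField.adjoin k {z} = ⊤) :
    Algebra.adjoin k ({f z} : Set D) = f.range := by
  have h : Algebra.adjoin k ({z} : Set M) = ⊤ := by
    rw [← IntermediateField.adjoin_simple_toSubalgebra_of_isAlgebraic (Algebra.IsAlgebraic.isAlgebraic z),
      hz, IntermediateField.top_toSubalgebra]
  rw [← Algebra.map_top, ← h, AlgHom.map_adjoin, Set.image_singleton]

/-- A separable element lies in a separable maximal subfield. -/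
theorem exists_separable_maximal_containing [Algebra.IsCentral k D] (x₀ : D) (hx₀ : IsSeparable k x₀) :
    ∃ x : D, IsSeparable k x ∧ x₀ ∈ Algebra.adjoin k ({x} : Set D) ∧
      Module.finrank k (Algebra.adjoin k ({x} : Set D)) ^ 2 = Module.finrank k D := by
  classical
  let S := {d : ℕ | ∃ x : D, IsSeparable k x ∧ x₀ ∈ Algebra.adjoin k ({x} : Set D) ∧
    Module.finrank k (Algebra.adjoin k ({x} : Set D)) = d}
  have hne : S.Nonempty := ⟨_, x₀, hx₀, Algebra.self_mem_adjoin_singleton k x₀, rfl⟩
  have hbdd : BddAbove S := ⟨Module.finrank k D, by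
    rintro d ⟨x, -, -, rfl⟩
    exact Submodule.finrank_le (Subalgebra.toSubmodule (Algebra.adjoin k ({x} : Set D)))⟩
  obtain ⟨x, hxsep, hxmem, hxmax⟩ := Nat.sSup_mem hne hbdd
  let L := Algebra.adjoin k ({x} : Set D)
  letI : CommRing L := Algebra.adjoinCommRingOfComm k (by rintro a rfl b rfl; rfl)
  letI : Field L := fieldOfFiniteDimensional k L
  haveI : IsSimpleRing L := inferInstance
  obtain ⟨hCsimple, hdim⟩ := centralizer_simple_and_finrank k L
  let C := Subalgebra.centralizer k (L : Set D)
  have hLC : L ≤ C := by
    intro a ha b hb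
    exact congrArg Subtype.val (mul_comm (⟨b, hb⟩ : L) ⟨a, ha⟩)
  rcases hLC.eq_or_lt with heq | hlt
  · refine ⟨x, hxsep, hxmem, ?_⟩
    rw [sq]
    have : Module.finrank k C = Module.finrank k L := by rw [← heq]
    calc _ = Module.finrank k L * Module.finrank k C := by rw [this]
      _ = _ := hdim
  exfalso
  letI : DivisionRing C := divisionRingOfFiniteDimensional k C
  letI : Algebra L C := (Subalgebra.inclusion hLC).toRingHom.toAlgebra' fun c z =>
    Subtype.ext (z.2 c c.2)
  haveI : IsScalarTower k L C := IsScalarTower.of_algebraMap_eq fun r => Subtype.ext rfl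
  haveI : FiniteDimensional L C := Module.Finite.of_restrictScalars_finite k L C
  haveI : Algebra.IsCentral L C := by
    refine ⟨fun z hz => ?_⟩
    have hz' : (z : D) ∈ L := by
      rw [← centralizer_centralizer_eq k L, Subalgebra.mem_centralizer_iff]
      intro c hc
      exact congrArg Subtype.val (Subalgebra.mem_center_iff.1 hz ⟨c, hc⟩)
    exact Algebra.mem_bot.2 ⟨⟨z, hz'⟩, Subtype.ext rfl⟩
  have hbot : (⊥ : Subalgebra L C) ≠ ⊤ := by
    intro h
    obtain ⟨c, hcC, hcL⟩ := SetLike.exists_of_lt hlt
    have hc : (⟨c, hcC⟩ : C) ∈ (⊥ : Subalgebra L C) := h ▸ Algebra.mem_top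
    obtain ⟨l, hl⟩ := Algebra.mem_bot.1 hc
    have e : (l : D) = c := congrArg Subtype.val hl
    exact hcL (e ▸ l.2)
  obtain ⟨y, hy, hysep⟩ := JacobsonNoether.exists_separable_and_not_isCentral' (L := L) (D := C) hbot
  have hxy : (y : D) * x = x * y := (y.2 x (Algebra.self_mem_adjoin_singleton k x)).symm
  let M := Algebra.adjoin k ({x, (y : D)} : Set D)
  letI : CommRing M := Algebra.adjoinCommRingOfComm k (by
    rintro a (rfl | rfl) b (rfl | rfl)
    · rfl
    · exact hxy.symm
    · exact hxy
    · rfl)
  letI : Field M := fieldOfFiniteDimensional k M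
  have hLM : L ≤ M := Algebra.adjoin_mono (Set.singleton_subset_iff.2 (Set.mem_insert _ _))
  letI : Algebra L M := (Subalgebra.inclusion hLM).toRingHom.toAlgebra
  haveI : IsScalarTower k L M := IsScalarTower.of_algebraMap_eq fun r => Subtype.ext rfl
  have hMC : M ≤ C := Algebra.adjoin_le (Set.insert_subset (hLC (Algebra.self_mem_adjoin_singleton k x))
    (Set.singleton_subset_iff.2 y.2))
  let x' : M := ⟨x, Algebra.subset_adjoin (Set.mem_insert _ _)⟩
  let y' : M := ⟨y, Algebra.subset_adjoin (Set.mem_insert_of_mem _ rfl)⟩
  haveI hLsep : Algebra.IsSeparable k L := by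
    let xL : L := ⟨x, Algebra.self_mem_adjoin_singleton k x⟩
    have hgen : IntermediateField.adjoin k {xL} = ⊤ := by
      apply IntermediateField.toSubalgebra_injective
      rw [IntermediateField.adjoin_simple_toSubalgebra_of_isAlgebraic (Algebra.IsAlgebraic.isAlgebraic _),
        IntermediateField.top_toSubalgebra]
      apply Subalgebra.map_injective (f := L.val) Subtype.val_injective
      rw [AlgHom.map_adjoin, Set.image_singleton, Algebra.map_top, Subalgebra.range_val]
      rfl
    have hs : IsSeparable k xL := by
      unfold IsSeparable at hxsep ⊢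
      rwa [← minpoly.algHom_eq L.val Subtype.val_injective xL]
    have := (IntermediateField.isSeparable_adjoin_simple_iff_isSeparable k L).2 hs
    rw [hgen] at this
    exact Algebra.IsSeparable.of_algHom k _ (IntermediateField.topEquiv.symm.toAlgHom)
  have hy' : IsSeparable k y' := by
    refine IsSeparable.of_algebra_isSeparable_of_isSeparable k (E := L) ?_
    let ι : M →ₐ[L] C :=
      { (Subalgebra.inclusion hMC).toRingHom with commutes' := fun l => Subtype.ext rfl }
    unfold IsSeparable at hysep ⊢
    rwa [← minpoly.algHom_eq ι (fun a b h => Subtype.ext (congrArg Subtype.val h :)) y']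
  have hx' : IsSeparable k x' := by
    unfold IsSeparable at hxsep ⊢
    rwa [← minpoly.algHom_eq M.val Subtype.val_injective x']
  have hMgen : IntermediateField.adjoin k {x', y'} = ⊤ := by
    apply IntermediateField.toSubalgebra_injective
    rw [IntermediateField.adjoin_toSubalgebra_of_isAlgebraic (fun z _ => Algebra.IsAlgebraic.isAlgebraic z),
      IntermediateField.top_toSubalgebra]
    apply Subalgebra.map_injective (f := M.val) Subtype.val_injective
    rw [AlgHom.map_adjoin, Set.image_pair, Algebra.map_top, Subalgebra.range_val]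
    rfl
  haveI : Algebra.IsSeparable k M := by
    have := (IntermediateField.isSeparable_adjoin_iff_isSeparable k M).2
      (fun z hz => by rcases hz with rfl | rfl <;> assumption : ∀ z ∈ ({x', y'} : Set M), IsSeparable k z)
    rw [hMgen] at this
    exact Algebra.IsSeparable.of_algHom k _ (IntermediateField.topEquiv.symm.toAlgHom)
  obtain ⟨z, hz⟩ := Field.exists_primitive_element k M
  have hzsep : IsSeparable k (M.val z) := by
    unfold IsSeparable
    rw [minpoly.algHom_eq M.val Subtype.val_injective z]
    exact Algebra.IsSeparable.isSeparable k z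
  have hlt' : L < M := lt_of_le_of_ne hLM fun h => hy <| by
    refine Algebra.mem_bot.2 ⟨⟨y, ?_⟩, Subtype.ext rfl⟩
    rw [h]
    exact y'.2
  have hrange : Algebra.adjoin k ({M.val z} : Set D) = M := by
    rw [finrank_adjoin_image k M.val hz, Subalgebra.range_val]
  have hmem : Module.finrank k M ∈ S := ⟨M.val z, hzsep, by rw [hrange]; exact hLM hxmem, by rw [hrange]⟩
  have h1 : Module.finrank k M ≤ sSup S := le_csSup hbdd hmem
  have h2 : Module.finrank k L < Module.finrank k M :=
    Submodule.finrank_lt_finrank_of_lt (s := Subalgebra.toSubmodule L) (t := Subalgebra.toSubmodule M) hlt'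
  exact absurd (hxmax ▸ h2) (not_lt.2 h1)

/-- A central division algebra contains a separable element generating a maximal subfield. -/
theorem exists_separable_maximal [Algebra.IsCentral k D] :
    ∃ x : D, IsSeparable k x ∧
      Module.finrank k (Algebra.adjoin k ({x} : Set D)) ^ 2 = Module.finrank k D := by
  obtain ⟨x, h1, -, h2⟩ := exists_separable_maximal_containing k (algebraMap k D 1) (isSeparable_algebraMap _)
  exact ⟨x, h1, h2⟩

end

end Groth.Agent.CSA
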