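import Groth.Agent.CSA.ReducedNorm
import Mathlib.LinearAlgebra.Matrix.Transvection
import Mathlib.LinearAlgebra.Matrix.Swap
import Mathlib.GroupTheory.Commutator.Basic
import Mathlib.RingTheory.Polynomial.Resultant.Basic
import Mathlib.Algebra.MvPolynomial.Funext
import Mathlib.FieldTheory.IsAlgClosed.AlgebraicClosure
import Mathlib.FieldTheory.Separable

/-!
# Separable elements of prescribed reduced norm

Over an infinite field a product of commutators moves any unit to one with separable reduced
characteristic polynomial, up to a scalar: the condition is open and can be met over an algebraic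
closure, where the commutators fill the special linear group.
-/

namespace Groth.Agent.CSA

set_option linter.style.haveILetI false
set_option linter.unusedSectionVars false

open scoped TensorProduct commutatorElement
open TensorProduct Polynomial

universe u v

section commutators

variable {L : Type*} [Field L] {n : Type*} [Fintype n] [DecidableEq n]

/-- Matrices which are products of commutators of invertible matrices. -/
def IsCommProd (M : Matrix n n L) : Prop :=
  ∃ l : List ((Matrix n n L)ˣ × (Matrix n n L)ˣ),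
    (((l.map fun p => ⁅p.1, p.2⁆).prod : (Matrix n n L)ˣ) : Matrix n n L) = M

theorem IsCommProd.mul {M N : Matrix n n L} (hM : IsCommProd M) (hN : IsCommProd N) :
    IsCommProd (M * N) := by
  obtain ⟨l, rfl⟩ := hM
  obtain ⟨l', rfl⟩ := hN
  exact ⟨l ++ l', by simp⟩

theorem isCommProd_one : IsCommProd (1 : Matrix n n L) := ⟨[], by simp⟩

theorem isCommProd_of_eq {M A B : Matrix n n L} (hA : IsUnit A) (hB : IsUnit B) (h : M * (B * A) = A * B) :
    IsCommProd M := by
  obtain ⟨a, rfl⟩ := hA
  obtain ⟨b, rfl⟩ := hB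
  refine ⟨[(a, b)], ?_⟩
  have h2 : M = ((a * b : (Matrix n n L)ˣ) : Matrix n n L) * (((b * a)⁻¹ : (Matrix n n L)ˣ) : Matrix n n L) := by
    rw [Units.val_mul a b, ← h, mul_assoc, ← Units.val_mul b a, ← Units.val_mul, mul_inv_cancel, Units.val_one, mul_one]
  rw [h2, ← Units.val_mul]
  simp [commutatorElement_def, mul_assoc]

variable [Infinite L]

theorem isCommProd_transvection {i j : n} (hij : i ≠ j) (c : L) :
    IsCommProd (Matrix.transvection i j c) := by
  classical
  obtain ⟨a, ha⟩ := Infinite.exists_notMem_finset ({0, 1} : Finset L)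
  simp only [Finset.mem_insert, Finset.mem_singleton, not_or] at ha
  have hT : ∀ e : L, IsUnit (Matrix.transvection i j e) := fun e =>
    (Matrix.isUnit_iff_isUnit_det _).2 (by rw [Matrix.det_transvection_of_ne i j hij]; exact isUnit_one)
  refine isCommProd_of_eq (A := Matrix.diagonal (Function.update (1 : n → L) i a)) (B := Matrix.transvection i j (c / (a - 1)))
    ?_ (hT _) ?_
  · refine (Matrix.isUnit_iff_isUnit_det _).2 ?_
    rw [Matrix.det_diagonal]
    refine isUnit_iff_ne_zero.2 (Finset.prod_ne_zero_iff.2 fun b _ => ?_)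
    rcases eq_or_ne b i with rfl | hb
    · simp [ha.1]
    · simp [hb]
  · rw [← mul_assoc, Matrix.transvection_mul_transvection_same i j hij]
    ext p q
    rw [Matrix.mul_diagonal, Matrix.diagonal_mul]
    simp only [Matrix.transvection, Matrix.add_apply]
    by_cases hpq : p = q
    · subst hpq
      have hne : ¬(i = p ∧ j = p) := fun h => hij (h.1.trans h.2.symm)
      simp [hne, mul_comm]
    · rw [Matrix.one_apply_ne hpq, zero_add, zero_add]
      by_cases h : i = p ∧ j = q
      · obtain ⟨rfl, rfl⟩ := h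
        have : a - 1 ≠ 0 := sub_ne_zero.2 ha.2
        simp [hij.symm]
        field_simp
        ring
      · simp [h]

theorem isCommProd_swap_diag (i i' : n) (a : L) (ha : a ≠ 0) :
    IsCommProd (Matrix.diagonal (Function.update (1 : n → L) i a * Function.update (1 : n → L) i' a⁻¹)) := by
  classical
  refine isCommProd_of_eq (A := Matrix.diagonal (Function.update (1 : n → L) i a)) (B := Matrix.swap L i i')
    ?_ ⟨⟨_, _, Matrix.swap_mul_self i i', Matrix.swap_mul_self i i'⟩, rfl⟩ ?_
  · refine (Matrix.isUnit_iff_isUnit_det _).2 ?_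
    rw [Matrix.det_diagonal]
    refine isUnit_iff_ne_zero.2 (Finset.prod_ne_zero_iff.2 fun b _ => ?_)
    rcases eq_or_ne b i with rfl | hb
    · simp [ha]
    · simp [hb]
  · ext p q
    simp only [Matrix.swap, Equiv.Perm.permMatrix, Matrix.diagonal_mul, Matrix.mul_diagonal,
      PEquiv.toMatrix_apply, Equiv.toPEquiv_apply, Option.mem_def, Option.some.injEq, Pi.mul_apply]
    by_cases h : Equiv.swap i i' p = q
    · rw [if_pos h]
      subst h
      rcases eq_or_ne p i with rfl | hpi
      · rcases eq_or_ne p i' with rfl | hpi'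
        · simp [ha, Equiv.swap_apply_def]
        · simp [hpi', Ne.symm hpi']
      · rcases eq_or_ne p i' with rfl | hpi'
        · simp [hpi, ha]
        · simp [hpi, hpi', Equiv.swap_apply_of_ne_of_ne]
    · rw [if_neg h]; simp

theorem isCommProd_of_det_eq_one (M : Matrix n n L) (hM : M.det = 1) : IsCommProd M := by
  classical
  have hprod : ∀ l : List (Matrix n n L), (∀ N ∈ l, IsCommProd N) → IsCommProd l.prod := by
    intro l
    induction l with
    | nil => exact fun _ => by simpa using isCommProd_one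
    | cons N l ih =>
      intro h
      rw [List.prod_cons]
      exact (h N (List.mem_cons_self ..)).mul (ih fun N' hN' => h N' (List.mem_cons_of_mem _ hN'))
  have htr : ∀ L' : List (Matrix.TransvectionStruct n L),
      IsCommProd (L'.map Matrix.TransvectionStruct.toMatrix).prod := fun L' =>
    hprod _ fun N hN => by
      obtain ⟨t, -, rfl⟩ := List.mem_map.1 hN
      exact isCommProd_transvection t.hij t.c
  obtain ⟨L₁, L₂, d, rfl⟩ := Matrix.Pivot.exists_list_transvec_mul_diagonal_mul_list_transvec M
  refine ((htr L₁).mul ?_).mul (htr L₂)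
  rw [Matrix.det_mul, Matrix.det_mul, Matrix.TransvectionStruct.det_toMatrix_prod,
    Matrix.TransvectionStruct.det_toMatrix_prod, Matrix.det_diagonal, one_mul, mul_one] at hM
  rcases isEmpty_or_nonempty n with hn | ⟨⟨i₀⟩⟩
  · rw [Subsingleton.elim (Matrix.diagonal d) 1]; exact isCommProd_one
  have hd : ∀ i, d i ≠ 0 := fun i => Finset.prod_ne_zero_iff.1 (hM ▸ one_ne_zero) i (Finset.mem_univ i)
  have hdec : ∀ s : Finset n, IsCommProd
      (Matrix.diagonal (∏ i ∈ s, Function.update (1 : n → L) i (d i) * Function.update (1 : n → L) i₀ (d i)⁻¹)) := by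
    intro s
    induction s using Finset.induction with
    | empty => simpa using isCommProd_one
    | insert i s his ih =>
      rw [Finset.prod_insert his]
      convert (isCommProd_swap_diag i i₀ (d i) (hd i)).mul ih using 1
      exact (Matrix.diagonal_mul_diagonal _ _).symm
  convert hdec Finset.univ using 2
  funext p
  rw [Finset.prod_apply]
  simp only [Pi.mul_apply, Finset.prod_mul_distrib]
  rw [Finset.prod_eq_single p (fun b _ hb => by simp [Ne.symm hb]) (by simp)]
  rcases eq_or_ne p i₀ with rfl | hp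
  · simp [Finset.prod_inv_distrib, hM]
  · simp [hp]

theorem exists_separable_mul_commProd (M : Matrix n n L) (hM : M.det ≠ 0) :
    ∃ S, IsCommProd S ∧ (M * S).charpoly.Separable := by
  classical
  rcases isEmpty_or_nonempty n with hn | ⟨⟨i₀⟩⟩
  · exact ⟨1, isCommProd_one, by rw [Matrix.charpoly, Matrix.det_isEmpty]; exact separable_one⟩
  let σ : n ↪ ℕ := (Fintype.equivFin n).toEmbedding.trans Fin.valEmbedding
  let N := ∑ p ∈ Finset.univ.erase i₀, (σ p + 1)
  -- avoid finitely many bad values
  let P : L[X] := Polynomial.X * (∏ p, ∏ q ∈ Finset.univ.erase p,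
      (Polynomial.X ^ (σ p + 1) - Polynomial.X ^ (σ q + 1))) *
    ∏ p, (Polynomial.X ^ (N + σ p + 1) - Polynomial.C M.det)
  have hP : P ≠ 0 := by
    refine mul_ne_zero (mul_ne_zero X_ne_zero (Finset.prod_ne_zero_iff.2 fun p _ =>
      Finset.prod_ne_zero_iff.2 fun q hq => ?_)) (Finset.prod_ne_zero_iff.2 fun p _ => ?_)
    · refine sub_ne_zero.2 fun h => (Finset.mem_erase.1 hq).1 (σ.injective ?_)
      have := congrArg natDegree h
      simp at this
      exact congrArg σ this.symm
    · exact X_pow_sub_C_ne_zero (by omega) _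
  obtain ⟨s, hs⟩ : ∃ s, eval s P ≠ 0 := by
    by_contra hne
    push Not at hne
    exact hP (Polynomial.funext fun s => by simp [hne s])
  simp only [P, eval_mul, eval_prod, eval_sub, eval_pow, eval_X, eval_C, mul_ne_zero_iff,
    Finset.prod_ne_zero_iff, sub_ne_zero] at hs
  obtain ⟨⟨hs0, hs1⟩, hs2⟩ := hs
  let t : n → L := fun p => if p = i₀ then M.det / s ^ N else s ^ (σ p + 1)
  have htinj : Function.Injective t := by
    intro p q hpq
    by_contra hne
    simp only [t] at hpq
    by_cases hp : p = i₀
    · rw [if_pos hp, if_neg (fun h => hne (hp.trans h.symm))] at hpq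
      refine hs2 q (Finset.mem_univ _) ?_
      rw [add_assoc, pow_add, ← hpq, mul_div_cancel₀ _ (pow_ne_zero _ hs0)]
    · by_cases hq : q = i₀
      · rw [if_neg hp, if_pos hq] at hpq
        refine hs2 p (Finset.mem_univ _) ?_
        rw [add_assoc, pow_add, hpq, mul_div_cancel₀ _ (pow_ne_zero _ hs0)]
      · rw [if_neg hp, if_neg hq] at hpq
        exact hs1 p (Finset.mem_univ _) q (Finset.mem_erase.2 ⟨Ne.symm hne, Finset.mem_univ _⟩) hpq
  have htdet : ∏ p, t p = M.det := by
    rw [← Finset.mul_prod_erase _ _ (Finset.mem_univ i₀)]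
    rw [Finset.prod_congr rfl fun p hp => show t p = s ^ (σ p + 1) from if_neg (Finset.mem_erase.1 hp).1,
      Finset.prod_pow_eq_pow_sum]
    simp only [t, if_true]
    exact div_mul_cancel₀ _ (pow_ne_zero _ hs0)
  refine ⟨M⁻¹ * Matrix.diagonal t, isCommProd_of_det_eq_one _ ?_, ?_⟩
  · rw [Matrix.det_mul, Matrix.det_nonsing_inv, Ring.inverse_eq_inv', Matrix.det_diagonal, htdet,
      inv_mul_cancel₀ hM]
  · rw [← mul_assoc, Matrix.mul_nonsing_inv _ (isUnit_iff_ne_zero.2 hM), one_mul, Matrix.charpoly_diagonal]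
    exact separable_prod_X_sub_C_iff.2 htinj

end commutators

section scaling

variable {L : Type*} [Field L] {d : ℕ}

theorem adjugate_coe_units (u : (Matrix (Fin d) (Fin d) L)ˣ) :
    (u : Matrix (Fin d) (Fin d) L).adjugate =
      (u : Matrix (Fin d) (Fin d) L).det • ((u⁻¹ : (Matrix (Fin d) (Fin d) L)ˣ) : Matrix (Fin d) (Fin d) L) := by
  calc (u : Matrix (Fin d) (Fin d) L).adjugate
      = ((u⁻¹ : (Matrix (Fin d) (Fin d) L)ˣ) : Matrix (Fin d) (Fin d) L) *
          ((u : Matrix (Fin d) (Fin d) L) * (u : Matrix (Fin d) (Fin d) L).adjugate) := by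
        rw [← mul_assoc, Units.inv_mul, one_mul]
    _ = _ := by rw [Matrix.mul_adjugate, mul_smul_comm, mul_one]

theorem prod_adjugate_commutator : ∀ {N : ℕ} (x y : Fin N → (Matrix (Fin d) (Fin d) L)ˣ),
    (List.ofFn fun i => (x i : Matrix (Fin d) (Fin d) L) * y i * (x i : Matrix (Fin d) (Fin d) L).adjugate *
        (y i : Matrix (Fin d) (Fin d) L).adjugate).prod =
      (∏ i, (x i : Matrix (Fin d) (Fin d) L).det * (y i : Matrix (Fin d) (Fin d) L).det) •
        (((List.ofFn fun i => ⁅x i, y i⁆).prod : (Matrix (Fin d) (Fin d) L)ˣ) : Matrix (Fin d) (Fin d) L)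
  | 0, _, _ => by simp
  | N + 1, x, y => by
    simp only [List.ofFn_succ, List.prod_cons, Fin.prod_univ_succ, Units.val_mul,
      prod_adjugate_commutator (fun i => x i.succ) (fun i => y i.succ)]
    rw [adjugate_coe_units (x 0), adjugate_coe_units (y 0)]
    simp only [mul_smul_comm, smul_mul_assoc, smul_smul, commutatorElement_def, Units.val_mul]
    congr 1
    ring

theorem separable_charpoly_smul {M : Matrix (Fin d) (Fin d) L} {c : L} (hc : c ≠ 0)
    (hM : M.charpoly.Separable) : (c • M).charpoly.Separable := by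
  have h : (c • M).charpoly = Polynomial.C (c ^ d) * M.charpoly.comp (Polynomial.C c⁻¹ * Polynomial.X) := by
    have hmat : Matrix.charmatrix (c • M) =
        Polynomial.C c • (Polynomial.compRingHom (Polynomial.C c⁻¹ * Polynomial.X)).mapMatrix (Matrix.charmatrix M) := by
      ext1 p q
      rcases eq_or_ne p q with rfl | hpq
      · rw [Matrix.charmatrix_apply_eq, Matrix.smul_apply, Matrix.smul_apply, RingHom.mapMatrix_apply,
          Matrix.map_apply, Matrix.charmatrix_apply_eq, Polynomial.coe_compRingHom_apply, sub_comp, X_comp,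
          C_comp, smul_eq_mul, smul_eq_mul, mul_sub, ← mul_assoc, ← Polynomial.C_mul, ← Polynomial.C_mul,
          mul_inv_cancel₀ hc, Polynomial.C_1, one_mul]
      · rw [Matrix.charmatrix_apply_ne _ _ _ hpq, Matrix.smul_apply, Matrix.smul_apply, RingHom.mapMatrix_apply,
          Matrix.map_apply, Matrix.charmatrix_apply_ne _ _ _ hpq, Polynomial.coe_compRingHom_apply, neg_comp,
          C_comp, smul_eq_mul, smul_eq_mul, mul_neg, ← Polynomial.C_mul]
    rw [Matrix.charpoly, hmat, Matrix.det_smul, ← RingHom.map_det, Fintype.card_fin, map_pow]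
    rfl
  rw [h, Polynomial.separable_def, derivative_C_mul, derivative_comp]
  have h2 : IsCoprime (M.charpoly.comp (Polynomial.C c⁻¹ * Polynomial.X))
      ((derivative M.charpoly).comp (Polynomial.C c⁻¹ * Polynomial.X)) :=
    ((Polynomial.separable_def _).1 hM).map (Polynomial.compRingHom (Polynomial.C c⁻¹ * Polynomial.X))
  rw [derivative_C_mul_X]
  have hu : IsUnit (Polynomial.C (c ^ d) : L[X]) := isUnit_C.2 (IsUnit.mk0 _ (pow_ne_zero _ hc))
  have hu' : IsUnit (Polynomial.C c⁻¹ : L[X]) := isUnit_C.2 (IsUnit.mk0 _ (inv_ne_zero hc))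
  rw [← mul_assoc, isCoprime_mul_unit_left_left hu, isCoprime_mul_unit_left_right (hu.mul hu')]
  exact h2

end scaling

variable {k : Type u} [Field k] {A : Type v} [Ring A] [Algebra k A] [IsCSA k A]

theorem aeval_rcharpoly (a : A) : Polynomial.aeval a (rcharpoly k a) = 0 := by
  obtain ⟨K, _, _, _, _, ⟨f⟩⟩ := exists_galois_rep k A (deg_sq k A)
  haveI : Nonempty (Fin (deg k A)) := ⟨⟨0, deg_pos k A⟩⟩
  have hf : Function.Injective f := RingHom.injective f.toRingHom
  apply hf
  rw [map_zero, ← Polynomial.aeval_algHom_apply, ← Polynomial.aeval_map_algebraMap K,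
    ← rep_charpoly (deg_sq k A) f]
  exact Matrix.aeval_self_charpoly _

theorem isSeparable_of_rcharpoly {a : A} (h : (rcharpoly k a).Separable) : IsSeparable k a :=
  h.of_dvd (minpoly.dvd k a (aeval_rcharpoly a))

set_option maxHeartbeats 800000 in
/-- Products of commutators reach an element with separable reduced characteristic polynomial. -/
theorem exists_separable_scaled [Infinite k] (δ : Aˣ) :
    ∃ (δ' : Aˣ) (c : k), c ≠ 0 ∧ rnorm k (δ' : A) = rnorm k (δ : A) ∧
      (rcharpoly k (c • (δ' : A))).Separable := by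
  classical
  obtain ⟨K, _, _, _, _, ⟨f₀⟩⟩ := exists_galois_rep k A (deg_sq k A)
  let d := deg k A
  let L := AlgebraicClosure K
  let f : A →ₐ[k] Matrix (Fin d) (Fin d) L := repMap (IsScalarTower.toAlgHom k K L) f₀
  have hι : Fintype.card (Fin d) ^ 2 = Module.finrank k A := by simpa using deg_sq k A
  haveI : Nonempty (Fin d) := ⟨⟨0, deg_pos k A⟩⟩
  have hdetf : ∀ a : Aˣ, (f (a : A)).det ≠ 0 := fun a =>
    ((Matrix.isUnit_iff_isUnit_det _).1 (a.isUnit.map f)).ne_zero
  obtain ⟨S, ⟨l, rfl⟩, hsep⟩ := exists_separable_mul_commProd (f δ) (hdetf δ)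
  let b := Module.finBasis k A
  let e := AlgEquiv.ofBijective (repLift f) (repLift_bijective f hι)
  let B := (Algebra.TensorProduct.basis L b).map e.toLinearEquiv
  have hB : ∀ X : Matrix (Fin d) (Fin d) L, X = ∑ j, B.repr X j • f (b j) := fun X => by
    conv_lhs => rw [← B.sum_repr X]
    refine Finset.sum_congr rfl fun j _ => ?_
    simp [B, e]
  -- the generic element
  let σ := Fin l.length × Bool × Fin (Module.finrank k A)
  let R := MvPolynomial σ L
  let X : Fin l.length → Bool → Matrix (Fin d) (Fin d) R := fun i β =>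
    ∑ j, (MvPolynomial.X (i, β, j) : R) • (f (b j)).map MvPolynomial.C
  let Q : Matrix (Fin d) (Fin d) R := (f δ).map MvPolynomial.C *
    (List.ofFn fun i => X i true * X i false * (X i true).adjugate * (X i false).adjugate).prod
  let g : R := Polynomial.resultant Q.charpoly (derivative Q.charpoly) d (d - 1) *
    ∏ i, ((X i true).det * (X i false).det)
  let Xa : (σ → L) → Fin l.length → Bool → Matrix (Fin d) (Fin d) L := fun a i β => ∑ j, a (i, β, j) • f (b j)
  let Qa : (σ → L) → Matrix (Fin d) (Fin d) L := fun a => f δ *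
    (List.ofFn fun i => Xa a i true * Xa a i false * (Xa a i true).adjugate * (Xa a i false).adjugate).prod
  have hX : ∀ a i β, (MvPolynomial.eval a).mapMatrix (X i β) = Xa a i β := fun a i β => by
    ext p q
    simp [X, Xa, Matrix.sum_apply, Matrix.smul_apply]
  have hQ : ∀ a, (MvPolynomial.eval a).mapMatrix Q = Qa a := fun a => by
    have h0 : (MvPolynomial.eval a).mapMatrix ((f δ).map (MvPolynomial.C (σ := σ))) = f δ := by
      ext p q; simp
    rw [map_mul, map_list_prod, List.map_ofFn, h0]
    change f δ * _ = f δ * _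
    congr 3
    funext i
    simp only [Function.comp_apply, map_mul, RingHom.map_adjugate, hX]
  have hg : ∀ a, MvPolynomial.eval a g ≠ 0 ↔
      (Qa a).charpoly.Separable ∧ ∀ i, (Xa a i true).det ≠ 0 ∧ (Xa a i false).det ≠ 0 := by
    intro a
    have hdeg : (Qa a).charpoly.natDegree = d := by
      rw [Matrix.charpoly_natDegree_eq_dim, Fintype.card_fin]
    have hder : (derivative (Qa a).charpoly).natDegree ≤ d - 1 :=
      (natDegree_derivative_le _).trans (by rw [hdeg])
    obtain ⟨e', he'⟩ := Nat.exists_eq_add_of_le hder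
    have hcoeff : (Qa a).charpoly.coeff d = 1 := by
      have h := (Matrix.charpoly_monic (Qa a)).coeff_natDegree
      rwa [hdeg] at h
    have hres : Polynomial.resultant (Qa a).charpoly (derivative (Qa a).charpoly) d
        (derivative (Qa a).charpoly).natDegree =
        Polynomial.resultant (Qa a).charpoly (derivative (Qa a).charpoly) := by rw [hdeg]
    rw [map_mul, map_prod, ← Polynomial.resultant_map_map, ← Polynomial.derivative_map, ← Matrix.charpoly_map,
      ← RingHom.mapMatrix_apply, hQ, he', Polynomial.resultant_add_right_deg _ _ _ _ _ le_rfl,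
      hcoeff, one_pow, one_mul, hres]
    simp only [map_mul, RingHom.map_det, hX, mul_ne_zero_iff]
    rw [Polynomial.separable_def, ← isUnit_resultant_iff_isCoprime (Matrix.charpoly_monic _), isUnit_iff_ne_zero]
    refine and_congr_right fun _ => ?_
    exact ⟨fun h i => mul_ne_zero_iff.1 (Finset.prod_ne_zero_iff.1 h i (Finset.mem_univ i)),
      fun h => Finset.prod_ne_zero_iff.2 fun i _ => mul_ne_zero_iff.2 (h i)⟩
  -- the condition holds at some point over `L`, hence at some point over `k`
  let a₁ : σ → L := fun s => B.repr (if s.2.1 then ((l.get s.1).1 : Matrix (Fin d) (Fin d) L)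
    else ((l.get s.1).2 : Matrix (Fin d) (Fin d) L)) s.2.2
  have hXa₁ : ∀ i, Xa a₁ i true = ((l.get i).1 : Matrix (Fin d) (Fin d) L) ∧
      Xa a₁ i false = ((l.get i).2 : Matrix (Fin d) (Fin d) L) := fun i => by
    constructor <;> simp only [Xa, a₁, if_true, Bool.false_eq_true, if_false] <;> exact (hB _).symm
  have hg0 : g ≠ 0 := by
    intro h0
    refine (hg a₁).2 ⟨?_, fun i => ⟨?_, ?_⟩⟩ (by rw [h0, map_zero])
    · have hQa : Qa a₁ = (∏ i, ((l.get i).1 : Matrix (Fin d) (Fin d) L).det * ((l.get i).2 : Matrix (Fin d) (Fin d) L).det) •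
          (f δ * (((l.map fun p => ⁅p.1, p.2⁆).prod : (Matrix (Fin d) (Fin d) L)ˣ) : Matrix (Fin d) (Fin d) L)) := by
        simp only [Qa, fun i => (hXa₁ i).1, fun i => (hXa₁ i).2]
        rw [prod_adjugate_commutator (fun i => (l.get i).1) (fun i => (l.get i).2), mul_smul_comm]
        congr 3
        rw [← List.ofFn_get l, List.map_ofFn]
        simp [Function.comp_def]
      rw [hQa]
      exact separable_charpoly_smul (Finset.prod_ne_zero_iff.2 fun i _ => mul_ne_zero
        ((Matrix.isUnit_iff_isUnit_det _).1 (l.get i).1.isUnit).ne_zero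
        ((Matrix.isUnit_iff_isUnit_det _).1 (l.get i).2.isUnit).ne_zero) hsep
    · rw [(hXa₁ i).1]; exact ((Matrix.isUnit_iff_isUnit_det _).1 (l.get i).1.isUnit).ne_zero
    · rw [(hXa₁ i).2]; exact ((Matrix.isUnit_iff_isUnit_det _).1 (l.get i).2.isUnit).ne_zero
  obtain ⟨a₀, ha₀⟩ : ∃ a₀ : σ → k, MvPolynomial.eval (algebraMap k L ∘ a₀) g ≠ 0 := by
    by_contra hne
    push Not at hne
    refine hg0 (MvPolynomial.funext_set (fun _ => Set.range (algebraMap k L))
      (fun _ => Set.infinite_range_of_injective (algebraMap k L).injective) fun x hx => ?_)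
    choose a₀ ha₀ using fun s => hx s (Set.mem_univ s)
    rw [show x = algebraMap k L ∘ a₀ from funext fun s => (ha₀ s).symm, hne, map_zero]
  obtain ⟨hsep₀, hunit⟩ := (hg _).1 ha₀
  let z : Fin l.length → Bool → A := fun i β => ∑ j, a₀ (i, β, j) • b j
  have hz : ∀ i β, Xa (algebraMap k L ∘ a₀) i β = f (z i β) := fun i β => by
    simp [Xa, z, map_sum, algebraMap_smul]
  have hzu : ∀ i β, IsUnit (z i β) := fun i β => by
    refine (isUnit_iff_rnorm_ne_zero (k := k) _).2 fun h0 => ?_
    have h1 : (f (z i β)).det = 0 := by rw [rep_det' f hι, h0, map_zero]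
    cases β
    · exact (hunit i).2 (by rw [hz]; exact h1)
    · exact (hunit i).1 (by rw [hz]; exact h1)
  let x : Fin l.length → Aˣ := fun i => (hzu i true).unit
  let y : Fin l.length → Aˣ := fun i => (hzu i false).unit
  let δ' : Aˣ := δ * (List.ofFn fun i => ⁅x i, y i⁆).prod
  let fu : Aˣ →* (Matrix (Fin d) (Fin d) L)ˣ := Units.map f.toRingHom.toMonoidHom
  refine ⟨δ', ∏ i, rnorm k (x i : A) * rnorm k (y i : A), Finset.prod_ne_zero_iff.2 fun i _ =>
    mul_ne_zero ((isUnit_iff_rnorm_ne_zero _).1 (x i).isUnit) ((isUnit_iff_rnorm_ne_zero _).1 (y i).isUnit), ?_, ?_⟩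
  · have h1 : Units.map (rnormHom k A) δ' = Units.map (rnormHom k A) δ := by
      rw [map_mul, map_list_prod, List.map_ofFn, List.prod_eq_one, mul_one]
      intro u hu
      obtain ⟨i, rfl⟩ := List.mem_ofFn.1 hu
      simp [map_commutatorElement, commutatorElement_eq_one_iff_commute, Commute.all]
    exact congrArg Units.val h1
  · have hQa : Qa (algebraMap k L ∘ a₀) = f ((∏ i, rnorm k (x i : A) * rnorm k (y i : A)) • (δ' : A)) := by
      have hx : ∀ i, Xa (algebraMap k L ∘ a₀) i true = (fu (x i) : Matrix (Fin d) (Fin d) L) := fun i => hz i true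
      have hy : ∀ i, Xa (algebraMap k L ∘ a₀) i false = (fu (y i) : Matrix (Fin d) (Fin d) L) := fun i => hz i false
      simp only [Qa, hx, hy]
      rw [prod_adjugate_commutator (fun i => fu (x i)) (fun i => fu (y i)), mul_smul_comm, map_smul, Units.val_mul, map_mul]
      rw [← algebraMap_smul (R := k) L (∏ i, rnorm k (x i : A) * rnorm k (y i : A)), map_prod]
      congr 1
      · exact Finset.prod_congr rfl fun i _ => by rw [map_mul, ← rep_det' f hι, ← rep_det' f hι]; rfl
      · congr 1
        change _ = (fu (List.ofFn fun i => ⁅x i, y i⁆).prod : Matrix (Fin d) (Fin d) L)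
        rw [map_list_prod, List.map_ofFn]
        simp [Function.comp_def, map_commutatorElement]
    rw [← Polynomial.separable_map (algebraMap k L), ← rep_charpoly' f hι, ← hQa]
    exact hsep₀

end Groth.Agent.CSA
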