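import Groth.Agent.CSA.Index
import Groth.Agent.CSA.PeriodIndex
import Mathlib.GroupTheory.Sylow
import Mathlib.FieldTheory.Galois.Basic

/-!
# The period and the index have the same prime factors

Over the fixed field of a Sylow subgroup of a Galois splitting field the index is a prime power.
-/

namespace Groth.Agent.CSA

set_option linter.style.haveILetI false

open scoped TensorProduct
open TensorProduct

universe u v

variable {k : Type u} [Field k] {A : Type v} [Ring A] [Algebra k A] [IsCSA k A]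

theorem prime_dvd_of_tpow_brEq {d e : ℕ} (hd : CSAGal.IsIndex k A d)
    (h : BrEq k (TPow k A e) k) {p : ℕ} (hp : p.Prime) (hpd : p ∣ d) : p ∣ e := by
  obtain ⟨n, hn0, hn⟩ := exists_sq_eq_finrank' (k := k) (A := A)
  obtain ⟨K, _, _, _, _, ⟨f⟩⟩ := exists_galois_rep k A hn
  haveI : Nonempty (Fin n) := ⟨⟨0, hn0⟩⟩
  have hK : Curves.Splits k A K :=
    ⟨n, hn0.ne', ⟨AlgEquiv.ofBijective (repLift f) (repLift_bijective f (by simpa using hn))⟩⟩
  haveI : Fact p.Prime := ⟨hp⟩
  let P : Sylow p (K ≃ₐ[k] K) := default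
  let F : IntermediateField k K := IntermediateField.fixedField (P : Subgroup (K ≃ₐ[k] K))
  obtain ⟨a, ha⟩ := IsPGroup.iff_card.1 P.2
  have hKF : Module.finrank F K = p ^ a :=
    (IntermediateField.finrank_fixedField_eq_card _).trans ha
  obtain ⟨dF, hdF⟩ := exists_isIndex (k := F) (F ⊗[k] A)
  have h1 : dF ∣ p ^ a := hKF ▸ isIndex_dvd_finrank hdF K ((splits_tower F K).1 hK)
  have h2 := isIndex_dvd_baseChange_mul hd F hdF
  have hFk : ¬ p ∣ Module.finrank k F := by
    have hnd := P.not_dvd_index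
    have hcard := Subgroup.card_mul_index (P : Subgroup (K ≃ₐ[k] K))
    rw [IsGalois.card_aut_eq_finrank, ← Module.finrank_mul_finrank k F K, hKF, ha, mul_comm] at hcard
    rwa [← Nat.eq_of_mul_eq_mul_right (pow_pos hp.pos a) hcard]
  have hpdF : p ∣ dF := (hp.dvd_mul.1 (dvd_trans hpd h2)).resolve_left hFk
  obtain ⟨eF, heF⟩ := exists_isPeriod (k := F) (F ⊗[k] A)
  have hsplit : BrEq F (TPow F (F ⊗[k] A) e) F :=
    (BrEq.baseChange_tpow (k := k) F A e).symm.trans
      ((h.baseChange F).trans (BrEq.of_algEquiv F (baseChangeSelf F)))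
  have heFe : eF ∣ e := (isPeriod_trivial_iff_dvd heF e).1 hsplit
  obtain ⟨b, -, rfl⟩ := (Nat.dvd_prime_pow hp).1 (dvd_trans (isPeriod_dvd_index heF hdF) h1)
  rcases b with _ | b
  · have hB : BrEq F (F ⊗[k] A) F :=
      (BrEq.of_algEquiv F (tpowOne F (F ⊗[k] A))).symm.trans
        ((isPeriod_trivial_iff_dvd heF 1).2 (by simp))
    obtain rfl : dF = 1 := isIndex_unique hdF (isIndex_one_iff.2 hB)
    exact absurd (Nat.le_of_dvd Nat.one_pos hpdF) (not_le.2 hp.one_lt)
  · exact dvd_trans (dvd_pow_self p (Nat.succ_ne_zero b)) heFe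

theorem prime_dvd_period {d e : ℕ} (hd : CSAGal.IsIndex k A d) (he : CSAGal.IsPeriod k A e)
    {p : ℕ} (hp : p.Prime) (hpd : p ∣ d) : p ∣ e :=
  prime_dvd_of_tpow_brEq hd ((isPeriod_trivial_iff_dvd he e).2 dvd_rfl) hp hpd

theorem index_dvd_period_pow {d e : ℕ} (hd : CSAGal.IsIndex k A d) (he : CSAGal.IsPeriod k A e) :
    d ∣ e ^ (d - 1) := by
  have hd0 : d ≠ 0 := hd.1.ne'
  rw [← Nat.factorization_le_iff_dvd hd0 (pow_ne_zero _ he.1.ne'), Nat.factorization_pow]
  intro p
  rcases eq_or_ne (d.factorization p) 0 with h0 | h0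
  · rw [h0]; exact Nat.zero_le _
  have hp : p.Prime := Nat.prime_of_mem_primeFactors (Nat.support_factorization d ▸ Finsupp.mem_support_iff.2 h0)
  have hpe := prime_dvd_period hd he hp (Nat.dvd_of_factorization_pos h0)
  have h1 : 1 ≤ e.factorization p := hp.factorization_pos_of_dvd he.1.ne' hpe
  have h2 : d.factorization p < d :=
    lt_of_lt_of_le (Nat.lt_pow_self hp.one_lt) (Nat.le_of_dvd hd.1 (Nat.ordProj_dvd d p))
  simp only [Finsupp.coe_smul, Pi.smul_apply, smul_eq_mul]
  calc d.factorization p ≤ (d - 1) * 1 := by omega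
    _ ≤ (d - 1) * e.factorization p := Nat.mul_le_mul_left _ h1

theorem coprime_index {d n m : ℕ} (hd : CSAGal.IsIndex k A d) (h : BrEq k (TPow k A n) k)
    (hcop : Nat.Coprime n m) : Nat.Coprime d m :=
  Nat.coprime_of_dvd fun _ hp hpd hpm =>
    (hp.one_lt.ne' (Nat.eq_one_of_dvd_coprimes hcop (prime_dvd_of_tpow_brEq hd h hp hpd) hpm))

end Groth.Agent.CSA
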