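import Groth.Agent.CSA.ReducedCharpoly
import Mathlib.LinearAlgebra.Charpoly.BaseChange
import Mathlib.RingTheory.Norm.Transitivity
import Mathlib.RingTheory.Trace.Basic
import Mathlib.Data.Matrix.Composition
import Mathlib.RingTheory.UniqueFactorizationDomain.Multiplicity

/-!
# Properties of the reduced norm and trace
-/

namespace Groth.Agent.CSA

set_option linter.style.haveILetI false
set_option linter.unusedSectionVars false

open scoped TensorProduct
open TensorProduct Polynomial

universe u v w

variable {k : Type u} [Field k] {A : Type v} [Ring A] [Algebra k A] [IsCSA k A]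

section any

variable {L : Type*} [Field L] [Algebra k L] {ι : Type*} [Fintype ι] [DecidableEq ι]

theorem rep_charpoly' (f : A →ₐ[k] Matrix ι ι L) (hι : Fintype.card ι ^ 2 = Module.finrank k A) (a : A) :
    (f a).charpoly = (rcharpoly k a).map (algebraMap k L) := by
  let n := Fintype.card ι
  let σ := Fintype.equivFin ι
  let f' : A →ₐ[k] Matrix (Fin n) (Fin n) L := (Matrix.reindexAlgEquiv k L σ).toAlgHom.comp f
  have hn : Fintype.card (Fin n) ^ 2 = Module.finrank k A := by simpa using hι
  have hchar : (f a).charpoly = (f' a).charpoly :=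
    (Matrix.charpoly_reindex σ (f a)).symm
  rw [hchar]
  obtain ⟨K, _, _, _, _, ⟨f₀⟩⟩ := exists_galois_rep k A (n := n) (by simpa using hι)
  have hP := rep_charpoly (L := K) (n := n) (by simpa using hι) f₀ a
  haveI : Nontrivial (L ⊗[k] K) :=
    (Algebra.TensorProduct.includeLeft_injective (R := k) (S := k) (A := L) (B := K)
      (algebraMap k K).injective).nontrivial
  obtain ⟨m', hm'⟩ := Ideal.exists_maximal (L ⊗[k] K)
  letI : Field ((L ⊗[k] K) ⧸ m') := Ideal.Quotient.field m'
  let σL : L →ₐ[k] (L ⊗[k] K) ⧸ m' :=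
    (Ideal.Quotient.mkₐ k m').comp Algebra.TensorProduct.includeLeft
  let σK : K →ₐ[k] (L ⊗[k] K) ⧸ m' :=
    (Ideal.Quotient.mkₐ k m').comp Algebra.TensorProduct.includeRight
  have h := rep_charpoly_eq (repMap σL f') (repMap σK f₀) hn a
  simp only [repMap, AlgHom.comp_apply, AlgHom.mapMatrix_apply] at h
  refine Polynomial.map_injective σL.toRingHom σL.toRingHom.injective ?_
  rw [← Matrix.charpoly_map, Polynomial.map_map]
  rw [show σL.toRingHom.comp (algebraMap k L) = σK.toRingHom.comp (algebraMap k K) from
    RingHom.ext fun x => (σL.commutes x).trans (σK.commutes x).symm,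
    ← Polynomial.map_map, ← hP, ← Matrix.charpoly_map]
  exact h

theorem rep_det' (f : A →ₐ[k] Matrix ι ι L) (hι : Fintype.card ι ^ 2 = Module.finrank k A) (a : A) :
    (f a).det = algebraMap k L (rnorm k a) := by
  rw [Matrix.det_eq_sign_charpoly_coeff, rep_charpoly' f hι, Polynomial.coeff_map, rnorm, deg_unique hι]
  simp

theorem rep_trace' (f : A →ₐ[k] Matrix ι ι L) (hι : Fintype.card ι ^ 2 = Module.finrank k A) (a : A) :
    (f a).trace = algebraMap k L (rtrace k a) := by
  haveI := nonempty_of_card_sq hι
  rw [Matrix.trace_eq_neg_charpoly_coeff, rep_charpoly' f hι, Polynomial.coeff_map, rtrace, deg_unique hι]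
  simp

end any

theorem charpoly_blockDiagonal_const {R : Type*} [CommRing R] {n o : Type*} [Fintype n] [DecidableEq n]
    [Fintype o] [DecidableEq o] (M : Matrix n n R) :
    (Matrix.blockDiagonal fun _ : o => M).charpoly = M.charpoly ^ Fintype.card o := by
  have h : Matrix.charmatrix (Matrix.blockDiagonal fun _ : o => M) =
      Matrix.blockDiagonal fun _ : o => Matrix.charmatrix M := by
    ext1 ⟨i, a⟩ ⟨j, b⟩
    by_cases hab : a = b
    · subst hab
      simp [Matrix.charmatrix_apply, Matrix.blockDiagonal_apply, Matrix.diagonal_apply]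
    · simp [Matrix.blockDiagonal_apply, hab]
  simp only [Matrix.charpoly, h, Matrix.det_blockDiagonal, Finset.prod_const, Finset.card_univ]

theorem rcharpoly_monic (a : A) : (rcharpoly k a).Monic := by
  obtain ⟨K, _, _, _, _, ⟨f⟩⟩ := exists_galois_rep k A (deg_sq k A)
  rw [← (rcharpoly k a).monic_map_iff (f := algebraMap k K), ← rep_charpoly (deg_sq k A) f]
  exact Matrix.charpoly_monic _

theorem charpoly_mulLeft (a : A) :
    (LinearMap.mulLeft k a).charpoly = rcharpoly k a ^ deg k A := by
  classical
  obtain ⟨K, _, _, _, _, ⟨f⟩⟩ := exists_galois_rep k A (deg_sq k A)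
  have hι : Fintype.card (Fin (deg k A)) ^ 2 = Module.finrank k A := by simpa using deg_sq k A
  haveI := nonempty_of_card_sq hι
  let e := (AlgEquiv.ofBijective (repLift f) (repLift_bijective f hι)).toLinearEquiv
  refine Polynomial.map_injective (algebraMap k K) (algebraMap k K).injective ?_
  rw [← LinearMap.charpoly_baseChange, Polynomial.map_pow, ← rep_charpoly (deg_sq k A) f,
    ← LinearEquiv.charpoly_conj e]
  have hconj : e.conj ((LinearMap.mulLeft k a).baseChange K) = LinearMap.mulLeft K (f a) := by
    rw [LinearEquiv.conj_apply]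
    refine LinearMap.ext fun M => ?_
    obtain ⟨z, rfl⟩ := e.surjective M
    simp only [LinearMap.comp_apply, LinearEquiv.coe_coe, LinearEquiv.symm_apply_apply,
      LinearMap.mulLeft_apply]
    induction z using TensorProduct.induction_on with
    | zero => simp
    | tmul l b =>
      change repLift f ((LinearMap.mulLeft k a).baseChange K (l ⊗ₜ b)) = f a * repLift f (l ⊗ₜ b)
      rw [LinearMap.baseChange_tmul, repLift_tmul, repLift_tmul, LinearMap.mulLeft_apply, map_mul,
        mul_smul_comm]
    | add x y hx hy => simp only [map_add, hx, hy, mul_add]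
  rw [hconj, ← LinearMap.charpoly_toMatrix _ (Matrix.stdBasis K (Fin (deg k A)) (Fin (deg k A)))]
  have hmat : LinearMap.toMatrix (Matrix.stdBasis K _ _) (Matrix.stdBasis K _ _) (LinearMap.mulLeft K (f a)) =
      Matrix.blockDiagonal fun _ : Fin (deg k A) => f a := by
    ext1 ⟨i, j⟩ ⟨p, q⟩
    simp [LinearMap.toMatrix_apply, Matrix.blockDiagonal_apply, Matrix.stdBasis, Matrix.mul_apply, eq_comm]
    rw [Finset.sum_eq_single p (fun c _ hc => by simp [hc]) (by simp)]
    simp [Pi.single_apply]
  rw [hmat, charpoly_blockDiagonal_const, Fintype.card_fin]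

theorem rnorm_pow_deg (a : A) : LinearMap.det (LinearMap.mulLeft k a) = rnorm k a ^ deg k A := by
  rw [LinearMap.det_eq_sign_charpoly_coeff, charpoly_mulLeft, ← deg_sq k A, rnorm, mul_pow,
    ← pow_mul, sq, Polynomial.coeff_zero_eq_eval_zero, Polynomial.eval_pow,
    ← Polynomial.coeff_zero_eq_eval_zero]

theorem deg_smul_rtrace (a : A) : LinearMap.trace k A (LinearMap.mulLeft k a) = deg k A • rtrace k a := by
  haveI : Nontrivial A := IsSimpleRing.instNontrivial
  rw [LinearMap.trace_eq_matrix_trace k (Module.finBasis k A), Matrix.trace_eq_neg_charpoly_nextCoeff,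
    LinearMap.charpoly_toMatrix, charpoly_mulLeft, (rcharpoly_monic a).nextCoeff_pow, ← smul_neg, rtrace,
    Polynomial.nextCoeff_of_natDegree_pos (by rw [rcharpoly_natDegree]; exact deg_pos k A),
    rcharpoly_natDegree]

theorem isUnit_iff_rnorm_ne_zero (a : A) : IsUnit a ↔ rnorm k a ≠ 0 := by
  constructor
  · exact fun h => (h.map (rnormHom k A)).ne_zero
  · intro h
    have hdet : LinearMap.det (LinearMap.mulLeft k a) ≠ 0 := by
      rw [rnorm_pow_deg]; exact pow_ne_zero _ h
    have hb := (LinearMap.mulLeft k a).equivOfDetNeZero hdet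
    obtain ⟨b, hb⟩ : ∃ b, a * b = 1 :=
      (LinearMap.equivOfDetNeZero (LinearMap.mulLeft k a) hdet).surjective 1
    have hinj : Function.Injective (fun x => a * x) :=
      (LinearMap.equivOfDetNeZero (LinearMap.mulLeft k a) hdet).injective
    exact ⟨⟨a, b, hb, hinj (by dsimp only; rw [← mul_assoc, hb, one_mul, mul_one])⟩, rfl⟩

/-- On a subfield of maximal degree the reduced characteristic polynomial is the characteristic
polynomial. -/
theorem rcharpoly_subfield {K : Type w} [Field K] [Algebra k K] (hK : Module.finrank k K = deg k A)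
    (ι : K →ₐ[k] A) (x : K) {m : Type*} [Fintype m] [DecidableEq m] (b : Module.Basis m k K) :
    rcharpoly k (ι x) = (Algebra.leftMulMatrix b x).charpoly := by
  haveI : FiniteDimensional k K := Module.finite_of_finrank_pos (hK ▸ deg_pos k A)
  letI : Module K A := Module.compHom A ι.toRingHom
  haveI : IsScalarTower k K A := ⟨fun c y z => by
    change ι (c • y) * z = c • (ι y * z)
    rw [map_smul, smul_mul_assoc]⟩
  haveI : Module.Finite K A := Module.Finite.right k K A
  let bA := Module.finBasis K A
  have hr : Module.finrank K A = deg k A := by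
    have h := Module.finrank_mul_finrank k K A
    rw [hK, ← deg_sq k A, sq] at h
    exact Nat.eq_of_mul_eq_mul_left (deg_pos k A) h
  have hmap : LinearMap.mulLeft k (ι x) = (x • (LinearMap.id : A →ₗ[K] A)).restrictScalars k :=
    LinearMap.ext fun z => rfl
  have h := charpoly_mulLeft (k := k) (ι x)
  rw [hmap, ← LinearMap.charpoly_toMatrix _ (b.smulTower' bA), LinearMap.restrictScalars_toMatrix] at h
  have hmat : ((x • (LinearMap.id : A →ₗ[K] A)).toMatrix bA bA).map (Algebra.leftMulMatrix b) =
      Matrix.diagonal fun _ => Algebra.leftMulMatrix b x := by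
    rw [map_smul, LinearMap.toMatrix_id, Matrix.smul_one_eq_diagonal, Matrix.diagonal_map (map_zero _)]
  rw [hmat, Matrix.comp_diagonal, Matrix.charpoly_reindex, charpoly_blockDiagonal_const, Fintype.card_fin,
    hr] at h
  have hd := (deg_pos k A).ne'
  exact (eq_of_monic_of_associated (Matrix.charpoly_monic _) (rcharpoly_monic _)
    (associated_of_dvd_dvd ((UniqueFactorizationMonoid.pow_dvd_pow_iff_dvd hd).1 h.dvd) ((UniqueFactorizationMonoid.pow_dvd_pow_iff_dvd hd).1 h.symm.dvd))).symm

theorem rnorm_subfield {K : Type w} [Field K] [Algebra k K] (hK : Module.finrank k K = deg k A)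
    (ι : K →ₐ[k] A) (x : K) : rnorm k (ι x) = Algebra.norm k x := by
  classical
  haveI : FiniteDimensional k K := Module.finite_of_finrank_pos (hK ▸ deg_pos k A)
  rw [Algebra.norm_eq_matrix_det (Module.finBasis k K), Matrix.det_eq_sign_charpoly_coeff,
    ← rcharpoly_subfield hK ι x, rnorm, Fintype.card_fin, hK]

theorem rtrace_subfield {K : Type w} [Field K] [Algebra k K] (hK : Module.finrank k K = deg k A)
    (ι : K →ₐ[k] A) (x : K) : rtrace k (ι x) = Algebra.trace k K x := by
  classical
  haveI : FiniteDimensional k K := Module.finite_of_finrank_pos (hK ▸ deg_pos k A)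
  haveI : Nonempty (Fin (Module.finrank k K)) := ⟨⟨0, hK ▸ deg_pos k A⟩⟩
  rw [Algebra.trace_eq_matrix_trace (Module.finBasis k K), Matrix.trace_eq_neg_charpoly_coeff,
    ← rcharpoly_subfield hK ι x, rtrace, Fintype.card_fin, hK]

theorem rnorm_algEquiv {B : Type w} [Ring B] [Algebra k B] [IsCSA k B] (e : A ≃ₐ[k] B) (a : A) :
    rnorm k (e a) = rnorm k a := by
  obtain ⟨K, _, _, _, _, ⟨f⟩⟩ := exists_galois_rep k A (deg_sq k A)
  apply (algebraMap k K).injective
  rw [← rep_det' f (by simpa using deg_sq k A) a,
    ← rep_det' (f.comp e.symm.toAlgHom) (by simpa [← e.toLinearEquiv.finrank_eq] using deg_sq k A) (e a)]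
  simp

end Groth.Agent.CSA
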