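import Groth.Agent.CSA.SemisimpleBaseChange
import Groth.Agent.CSA.SeparableAdjoin
import Mathlib.RingTheory.Unramified.Finite
import Mathlib.RingTheory.Jacobson.Semiprimary
import Mathlib.FieldTheory.JacobsonNoether
import Mathlib.RingTheory.SimpleModule.WedderburnArtin

/-!
# Maximal étale subalgebras are self-centralising
-/

universe u v w

open scoped TensorProduct
open Polynomial

namespace Groth.Agent.CSA

/-- A subring onto which there is a linear projection compatible with right multiplication is semisimple. -/
theorem isSemisimpleRing_of_retraction {C R : Type*} [Ring C] [Ring R] [IsSemisimpleRing R] (j : C →+* R)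
    (E : R →+ C) (hj : ∀ c, E (j c) = c) (hr : ∀ a c, E (a * j c) = E a * c) (hl : ∀ c a, E (j c * a) = c * E a) :
    IsSemisimpleRing C := by
  refine { exists_isCompl := fun I => ?_ }
  obtain ⟨e, he, hIe⟩ := IsSemisimpleRing.ideal_eq_span_idempotent (Ideal.map j I)
  have hE : ∀ z ∈ Ideal.map j I, E z ∈ I := by
    intro z hz
    suffices h : ∀ r, E (r * z) ∈ I by simpa using h 1
    induction hz using Submodule.span_induction with
    | mem a ha =>
      intro r
      obtain ⟨c, hc, rfl⟩ := ha
      rw [hr]
      exact Ideal.mul_mem_left I _ hc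
    | zero => intro r; rw [mul_zero, map_zero]; exact I.zero_mem
    | add a b _ _ ha hb => intro r; rw [mul_add, map_add]; exact I.add_mem (ha r) (hb r)
    | smul r' a _ ha => intro r; rw [smul_eq_mul, ← mul_assoc]; exact ha _
  let e' := E e
  have he'I : e' ∈ I := hE e (hIe ▸ Ideal.subset_span rfl)
  have hx : ∀ x ∈ I, x * e' = x := by
    intro x hxI
    have h1 : j x ∈ Ideal.span {e} := hIe ▸ Ideal.mem_map_of_mem j hxI
    obtain ⟨r, hr'⟩ := Ideal.mem_span_singleton'.1 h1
    rw [← hl, ← hr', mul_assoc, he.eq, hr', hj]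
  refine ⟨Ideal.span {1 - e'}, ?_, ?_⟩
  · rw [Submodule.disjoint_def]
    intro x hx1 hx2
    obtain ⟨r, rfl⟩ := Ideal.mem_span_singleton'.1 hx2
    have h1 := hx _ hx1
    have h2 : r * (1 - e') * e' = 0 := by
      rw [mul_assoc, sub_mul, one_mul, hx e' he'I, sub_self, mul_zero]
    rw [h2] at h1
    exact h1.symm
  · rw [codisjoint_iff, eq_top_iff]
    intro x _
    refine Submodule.mem_sup.2 ⟨x * e', Ideal.mul_mem_left I _ he'I, x * (1 - e'),
      Ideal.mul_mem_left _ _ (Ideal.subset_span rfl), ?_⟩
    rw [← mul_add, add_sub_cancel, mul_one]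

section

variable {k : Type u} [Field k] {A : Type v} [Ring A] [Algebra k A]

/-- The projection onto the centraliser of a separable commutative subalgebra. -/
theorem exists_projection {L : Type w} [CommRing L] [Algebra k L] [FiniteDimensional k L]
    [Algebra.IsSeparable k L] (u : L →ₐ[k] A) :
    ∃ E : A →ₗ[k] A, (∀ a s, u s * E a = E a * u s) ∧ (∀ a, (∀ s, u s * a = a * u s) → E a = a) ∧
      (∀ c a, (∀ s, u s * c = c * u s) → E (c * a) = c * E a ∧ E (a * c) = E a * c) := by
  haveI := formallyEtale_of_separable k L
  let Φ : L ⊗[k] L →ₗ[k] A →ₗ[k] A := TensorProduct.lift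
    (LinearMap.mk₂ k (fun x y => (LinearMap.mulLeft k (u x)).comp (LinearMap.mulRight k (u y)))
      (fun x x' y => by ext a; simp [add_mul]) (fun c x y => by ext a; simp)
      (fun x y y' => by ext a; simp [mul_add, mul_assoc]) (fun c x y => by ext a; simp))
  have hΦ : ∀ x y a, Φ (x ⊗ₜ y) a = u x * (a * u y) := fun x y a => by simp [Φ]
  let t := Algebra.FormallyUnramified.elem k L
  have hl : ∀ (s : L) (z : L ⊗[k] L) a, Φ ((s ⊗ₜ 1) * z) a = u s * Φ z a := fun s z a => by
    induction z using TensorProduct.induction_on with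
    | zero => simp
    | tmul x y => rw [Algebra.TensorProduct.tmul_mul_tmul, one_mul, hΦ, hΦ, map_mul, mul_assoc]
    | add x y hx hy => simp only [mul_add, map_add, LinearMap.add_apply, hx, hy]
  have hr : ∀ (s : L) (z : L ⊗[k] L) a, Φ ((1 ⊗ₜ s) * z) a = Φ z a * u s := fun s z a => by
    induction z using TensorProduct.induction_on with
    | zero => simp
    | tmul x y =>
      rw [Algebra.TensorProduct.tmul_mul_tmul, one_mul, hΦ, hΦ, mul_comm s y, map_mul]
      simp only [mul_assoc]
    | add x y hx hy => simp only [mul_add, map_add, LinearMap.add_apply, add_mul, hx, hy]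
  have hfix : ∀ (z : L ⊗[k] L) a, (∀ s, u s * a = a * u s) →
      Φ z a = u (Algebra.TensorProduct.lmul' k z) * a := fun z a ha => by
    induction z using TensorProduct.induction_on with
    | zero => simp
    | tmul x y => rw [hΦ, Algebra.TensorProduct.lmul'_apply_tmul, map_mul, mul_assoc, ha y]
    | add x y hx hy => simp only [map_add, LinearMap.add_apply, add_mul, hx, hy]
  have hcomm : ∀ (z : L ⊗[k] L) c a, (∀ s, u s * c = c * u s) →
      Φ z (c * a) = c * Φ z a ∧ Φ z (a * c) = Φ z a * c := fun z c a hc => by
    induction z using TensorProduct.induction_on with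
    | zero => simp
    | tmul x y =>
      refine ⟨?_, ?_⟩
      · simp only [hΦ, ← mul_assoc, hc x]
      · simp only [hΦ, mul_assoc, hc y]
    | add x y hx hy => simp only [map_add, LinearMap.add_apply, mul_add, add_mul, hx, hy, and_self]
  refine ⟨Φ t, fun a s => ?_, fun a ha => ?_, fun c a hc => hcomm t c a hc⟩
  · rw [← hl, ← Algebra.FormallyUnramified.one_tmul_mul_elem, hr]
  · rw [hfix t a ha, Algebra.FormallyUnramified.lmul_elem, map_one, one_mul]

/-- If the geometric fibre is reduced every element is separable. -/
theorem isSeparable_of_isReduced_baseChange {B : Type v} [CommRing B] [Algebra k B] [FiniteDimensional k B]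
    [IsReduced (AlgebraicClosure k ⊗[k] B)] (z : B) : IsSeparable k z := by
  classical
  let K := AlgebraicClosure k
  have hint : IsIntegral k z := Algebra.IsIntegral.isIntegral z
  set g := (minpoly k z).map (algebraMap k K) with hg
  have hgne : g ≠ 0 := Polynomial.map_ne_zero (minpoly.ne_zero hint)
  let r : K[X] := ∏ α ∈ g.roots.toFinset, (X - C α)
  have hrs : r.Separable := Polynomial.separable_prod_X_sub_C_iff'.2 fun x _ y _ h => h
  have hzero : aeval ((1 : K) ⊗ₜ[k] z) g = 0 := by
    rw [hg, aeval_map_algebraMap, show ((1 : K) ⊗ₜ[k] z) = Algebra.TensorProduct.includeRight (R := k) (A := K) z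
      from rfl, aeval_algHom_apply, minpoly.aeval, map_zero]
  have hdvd : g ∣ r ^ g.natDegree := by
    conv_lhs => rw [(IsAlgClosed.splits g).eq_prod_roots]
    rw [(minpoly.monic hint).map (algebraMap k K) |>.leadingCoeff, map_one, one_mul,
      Finset.prod_multiset_map_count, ← Finset.prod_pow]
    exact Finset.prod_dvd_prod_of_dvd _ _ fun α _ =>
      pow_dvd_pow _ ((g.roots.count_le_card α).trans g.card_roots')
  have hr0 : aeval ((1 : K) ⊗ₜ[k] z) r = 0 := by
    have : IsNilpotent (aeval ((1 : K) ⊗ₜ[k] z) r) := ⟨g.natDegree, by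
      obtain ⟨q, hq⟩ := hdvd
      rw [← map_pow, hq, map_mul, hzero, zero_mul]⟩
    exact this.eq_zero
  -- the powers of `z` stay independent
  have hrm : r.Monic := monic_prod_of_monic _ _ fun _ _ => monic_X_sub_C _
  by_contra hns
  have hlt : r.natDegree < g.natDegree := by
    by_contra! hle
    apply hns
    have hgr : g = r := by
      refine eq_of_monic_of_dvd_of_natDegree_le hrm ((minpoly.monic hint).map _) ?_ ?_
      · rw [(IsAlgClosed.splits g).eq_prod_roots, (minpoly.monic hint).map (algebraMap k K) |>.leadingCoeff,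
          map_one, one_mul]
        exact Multiset.prod_dvd_prod_of_le (Multiset.map_le_map (Multiset.dedup_le _))
      · exact hle
    have : g.Separable := hgr ▸ hrs
    exact (Polynomial.separable_map _).1 this
  rw [hg, natDegree_map] at hlt
  set d := (minpoly k z).natDegree with hd
  let G : (Fin d → k) →ₗ[k] B := Fintype.linearCombination k fun i : Fin d => z ^ (i : ℕ)
  have hG : Function.Injective G :=
    linearIndependent_iff_injective_fintypeLinearCombination.1 (linearIndependent_pow z)
  obtain ⟨G', hG'⟩ := G.exists_leftInverse_of_injective (LinearMap.ker_eq_bot.2 hG)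
  have hcoef : ∀ i : Fin d, r.coeff i = 0 := by
    intro i
    let φ : B →ₗ[k] k := (LinearMap.proj i).comp G'
    have h1 := congrArg (TensorProduct.rid k K ∘ φ.lTensor K) hr0
    simp only [Function.comp_apply, map_zero] at h1
    rw [aeval_eq_sum_range' hlt, map_sum, map_sum] at h1
    have hpow : ∀ j : ℕ, ((1 : K) ⊗ₜ[k] z) ^ j = (1 : K) ⊗ₜ[k] (z ^ j) := fun j => by
      rw [Algebra.TensorProduct.tmul_pow, one_pow]
    have hφ : ∀ j : Fin d, φ (z ^ (j : ℕ)) = if j = i then 1 else 0 := fun j => by
      have hb : G (Pi.single j 1) = z ^ (j : ℕ) := by simp [G]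
      have h2 := LinearMap.congr_fun hG' (Pi.single j (1 : k))
      simp only [LinearMap.comp_apply, LinearMap.id_apply, hb] at h2
      change G' (z ^ (j : ℕ)) i = _
      rw [h2, Pi.single_apply]
      exact if_congr ⟨Eq.symm, Eq.symm⟩ rfl rfl
    rw [← Fin.sum_univ_eq_sum_range (fun j => TensorProduct.rid k K (φ.lTensor K (r.coeff j • ((1 : K) ⊗ₜ[k] z) ^ j)))] at h1
    simpa [hpow, TensorProduct.smul_tmul', hφ] using h1
  exact hrm.ne_zero (Polynomial.ext fun n => by
    rw [coeff_zero]
    by_cases hn : n < d
    · exact hcoef ⟨n, hn⟩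
    · exact coeff_eq_zero_of_natDegree_lt (lt_of_lt_of_le hlt (not_lt.1 hn)))

theorem selfCentralizing_of_maximal [FiniteDimensional k A]
    [hss : IsSemisimpleRing (AlgebraicClosure k ⊗[k] A)] [IsSemisimpleRing A] (L : Subalgebra k A)
    (hc : ∀ x ∈ L, ∀ y ∈ L, x * y = y * x) [hsep : Algebra.IsSeparable k L]
    (hmax : ∀ L' : Subalgebra k A, (∀ x ∈ L', ∀ y ∈ L', x * y = y * x) → Algebra.IsSeparable k L' → L ≤ L' → L' = L) :
    Subalgebra.centralizer k (L : Set A) = L := by
  classical
  let K := AlgebraicClosure k
  letI : CommRing L := { (inferInstance : Ring L) with mul_comm := fun a b => Subtype.ext (hc _ a.2 _ b.2) }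
  haveI : Algebra.IsSeparable k L := hsep
  set Z := Subalgebra.centralizer k (L : Set A) with hZ
  have hmem : ∀ a, a ∈ Z ↔ ∀ s : L, (s : A) * a = a * (s : A) := fun a =>
    ⟨fun h s => Subalgebra.mem_centralizer_iff k |>.1 h s s.2, fun h => Subalgebra.mem_centralizer_iff k |>.2 fun g hg => h ⟨g, hg⟩⟩
  have hLZ : L ≤ Z := fun x hx => (hmem x).2 fun s => hc _ s.2 _ hx
  obtain ⟨E, hE1, hE2, hE3⟩ := exists_projection L.val
  let P : A →ₗ[k] Z := LinearMap.codRestrict (Subalgebra.toSubmodule Z) E fun a => (hmem _).2 fun s => hE1 a s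
  have hPj : ∀ c : Z, P c = c := fun c => Subtype.ext (hE2 c fun s => (hmem _).1 c.2 s)
  have hPr : ∀ (a : A) (c : Z), P (a * c) = P a * c := fun a c =>
    Subtype.ext (hE3 c a fun s => (hmem _).1 c.2 s).2
  have hPl : ∀ (c : Z) (a : A), P (c * a) = c * P a := fun c a =>
    Subtype.ext (hE3 c a fun s => (hmem _).1 c.2 s).1
  haveI hZss : IsSemisimpleRing Z :=
    isSemisimpleRing_of_retraction Z.val.toRingHom P.toAddMonoidHom hPj hPr hPl
  haveI hZK : IsSemisimpleRing (K ⊗[k] Z) := by
    refine isSemisimpleRing_of_retraction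
      (Algebra.TensorProduct.map (AlgHom.id K K) Z.val).toRingHom
      (LinearMap.lTensor K P).toAddMonoidHom ?_ ?_ ?_
    · intro c
      induction c using TensorProduct.induction_on with
      | zero => simp
      | tmul x y => simp [hPj]
      | add x y hx hy => simpa [map_add] using congrArg₂ (· + ·) hx hy
    · intro a c
      induction a using TensorProduct.induction_on with
      | zero => simp
      | add x y hx hy => simp only [add_mul, map_add, hx, hy]
      | tmul x y =>
        induction c using TensorProduct.induction_on with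
        | zero => simp
        | add p q hp hq => simp only [map_add, mul_add, hp, hq]
        | tmul p q => simp [hPr]
    · intro c a
      induction a using TensorProduct.induction_on with
      | zero => simp
      | add x y hx hy => simp only [mul_add, map_add, hx, hy]
      | tmul x y =>
        induction c using TensorProduct.induction_on with
        | zero => simp
        | add p q hp hq => simp only [map_add, add_mul, hp, hq]
        | tmul p q => simp [hPl]
  -- every separable element of the centraliser lies in `L`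
  have hsepL : ∀ y : Z, IsSeparable k y → (y : A) ∈ L := by
    intro y hy
    have hy' : IsSeparable k (y : A) := by
      unfold IsSeparable at hy ⊢
      rwa [show (y : A) = Z.val y from rfl, minpoly.algHom_eq Z.val Subtype.val_injective]
    let L' := Algebra.adjoin k ((L : Set A) ∪ {(y : A)})
    have hpair : ∀ a ∈ (L : Set A) ∪ {(y : A)}, ∀ b ∈ (L : Set A) ∪ {(y : A)}, a * b = b * a := by
      rintro a (ha | rfl) b (hb | rfl)
      · exact hc a ha b hb
      · exact (hmem _).1 y.2 ⟨a, ha⟩
      · exact ((hmem _).1 y.2 ⟨b, hb⟩).symm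
      · rfl
    letI : CommRing L' := Algebra.adjoinCommRingOfComm k hpair
    have hc' : ∀ x ∈ L', ∀ z ∈ L', x * z = z * x := fun x hx z hz =>
      congrArg Subtype.val (mul_comm (⟨x, hx⟩ : L') ⟨z, hz⟩)
    let M := Algebra.adjoin k ({(y : A)} : Set A)
    letI : CommRing M := Algebra.adjoinCommRingOfComm k fun a ha b hb => by
      rw [Set.mem_singleton_iff] at ha hb; rw [ha, hb]
    haveI : Algebra.IsSeparable k M := isSeparable_adjoin_singleton hy'
    haveI := formallyEtale_of_separable k L
    haveI := formallyEtale_of_separable k M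
    let f : L →ₐ[k] L' := Subalgebra.inclusion fun x hx => Algebra.subset_adjoin (Or.inl hx)
    let g : M →ₐ[k] L' := Subalgebra.inclusion (Algebra.adjoin_mono Set.subset_union_right)
    let F : L ⊗[k] M →ₐ[k] L' := Algebra.TensorProduct.productMap f g
    have hF : Function.Surjective F := by
      intro w
      suffices hsub : L' ≤ F.range.map L'.val by
        obtain ⟨a, ⟨b, rfl⟩, ha⟩ := hsub w.2
        exact ⟨b, Subtype.ext ha⟩
      rw [Algebra.adjoin_le_iff]
      rintro a (ha | rfl)
      · exact ⟨f ⟨a, ha⟩, ⟨⟨a, ha⟩ ⊗ₜ 1, by simp [F]⟩, rfl⟩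
      · exact ⟨g ⟨_, Algebra.self_mem_adjoin_singleton k (y : A)⟩, ⟨1 ⊗ₜ ⟨_, Algebra.self_mem_adjoin_singleton k (y : A)⟩,
          by simp [F]⟩, rfl⟩
    haveI : Algebra.FormallyUnramified k (L ⊗[k] M) := Algebra.FormallyUnramified.comp k L (L ⊗[k] M)
    haveI : Algebra.FormallyUnramified k L' := Algebra.FormallyUnramified.of_surjective F hF
    haveI : IsReduced (K ⊗[k] L') := Algebra.FormallyUnramified.isReduced_of_field K (K ⊗[k] L')
    have hL' : Algebra.IsSeparable k L' := ⟨fun z => isSeparable_of_isReduced_baseChange z⟩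
    have := hmax L' hc' hL' fun x hx => Algebra.subset_adjoin (Or.inl hx)
    exact this ▸ Algebra.subset_adjoin (Or.inr rfl)
  -- the centre of the centraliser
  have hcen : ∀ c : Z, (∀ b : Z, b * c = c * b) → IsSeparable k c := by
    intro c hcc
    let W := Subalgebra.center k Z
    letI : CommRing W := { (inferInstance : Ring W) with mul_comm := fun a b => Subtype.ext (Subalgebra.mem_center_iff.1 b.2 a) }
    haveI : IsReduced (K ⊗[k] W) := by
      refine ⟨fun w hw => ?_⟩
      let ι : K ⊗[k] W →ₐ[K] K ⊗[k] Z := Algebra.TensorProduct.map (AlgHom.id K K) W.val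
      have hinj : Function.Injective ι :=
        Module.Flat.lTensor_preserves_injective_linearMap (M := K) W.val.toLinearMap Subtype.val_injective
      apply hinj
      rw [map_zero]
      have hcom : ∀ b, b * ι w = ι w * b := fun b => by
        clear hw
        induction w using TensorProduct.induction_on with
        | zero => simp
        | add p q hp hq => simp only [map_add, mul_add, add_mul, hp, hq]
        | tmul p q =>
          induction b using TensorProduct.induction_on with
          | zero => simp
          | add x y hx hy => simp only [mul_add, add_mul, hx, hy]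
          | tmul x y =>
            simp only [ι, Algebra.TensorProduct.map_tmul, AlgHom.id_apply, Algebra.TensorProduct.tmul_mul_tmul]
            rw [mul_comm x p, Subalgebra.coe_val, Subalgebra.mem_center_iff.1 q.2 y]
      obtain ⟨e, he, hIe⟩ := IsSemisimpleRing.ideal_eq_span_idempotent (Ideal.span {ι w})
      obtain ⟨r, hr⟩ := Ideal.mem_span_singleton'.1 (hIe ▸ Ideal.subset_span rfl : e ∈ Ideal.span {ι w})
      obtain ⟨n, hn⟩ := hw.map ι
      have he0 : e = 0 := by
        rw [← he.pow_succ_eq n, ← hr, (show Commute r (ι w) from hcom r).mul_pow, pow_succ (ι w), hn, zero_mul, mul_zero]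
      obtain ⟨r', hr'⟩ := Ideal.mem_span_singleton'.1 (hIe ▸ Ideal.subset_span rfl : ι w ∈ Ideal.span {e})
      rw [← hr', he0, mul_zero]
    have h1 := isSeparable_of_isReduced_baseChange (k := k) (⟨c, Subalgebra.mem_center_iff.2 hcc⟩ : W)
    unfold IsSeparable at h1 ⊢
    rwa [← minpoly.algHom_eq W.val Subtype.val_injective] at h1
  have hLcen : ∀ s : Z, (s : A) ∈ L → ∀ b : Z, b * s = s * b := fun s hs b =>
    Subtype.ext ((hmem _).1 b.2 ⟨_, hs⟩).symm
  refine le_antisymm ?_ hLZ
  intro a ha
  suffices hall : ∀ c : Z, ∀ b : Z, b * c = c * b from hsepL ⟨a, ha⟩ (hcen _ (hall _))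
  obtain ⟨n, D, d, _, _, _, hd, ⟨e⟩⟩ := IsSemisimpleRing.exists_algEquiv_pi_matrix_divisionRing_finite k Z
  have hsepc : ∀ x, IsSeparable k x → ∀ b, b * x = x * b := fun x hx b => by
    have hy : IsSeparable k (e.symm x) := by
      unfold IsSeparable at hx ⊢
      rwa [show minpoly k (e.symm x) = minpoly k x from minpoly.algHom_eq (e.symm : _ →ₐ[k] Z) e.symm.injective x]
    have := congrArg e (hLcen _ (hsepL _ hy) (e.symm b))
    simpa using this
  -- separability of lifts of separable elements of a factor
  have hone : ∀ i, d i = 1 := by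
    intro i
    by_contra hne
    haveI : NeZero (d i) := hd i
    obtain ⟨j, hj⟩ : ∃ j : Fin (d i), j ≠ 0 :=
      ⟨⟨1, by have := NeZero.ne (d i); omega⟩, fun h => by simp [Fin.ext_iff] at h⟩
    let x : Π i, Matrix (Fin (d i)) (Fin (d i)) (D i) := Pi.single i (Matrix.single 0 0 1)
    have hxid : x * x = x := by simp [x, ← Pi.single_mul]
    have hxsep : IsSeparable k x := by
      refine Polynomial.Separable.of_dvd ?_ (minpoly.dvd k x (p := X * (X - C (1 : k))) (by simp [mul_sub, hxid]))
      exact separable_X.mul separable_X_sub_C (isCoprime_X_sub_C_of_isUnit_sub (R := k) (a := 0) (b := 1) (by simp) |> fun h => by simpa using h)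
    have := congrFun (hsepc x hxsep (Pi.single i (Matrix.single 0 j 1))) i
    simp [x, ← Pi.single_mul, Matrix.single_mul_single_of_ne, hj] at this
    have := congrFun (congrFun this 0) j
    simp at this
  have hDc : ∀ i, ∀ a b : D i, a * b = b * a := by
    intro i
    by_contra hne
    push Not at hne
    obtain ⟨a₀, b₀, hab⟩ := hne
    haveI : NeZero (d i) := hd i
    haveI : Subsingleton (Fin (d i)) := by rw [hone i]; infer_instance
    let Zc := Subring.center (D i)
    have hkZ : ∀ c : k, algebraMap k (D i) c ∈ Zc := fun c => Subring.mem_center_iff.2 fun g => (Algebra.commutes c g).symm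
    letI : Algebra k Zc := ((algebraMap k (D i)).codRestrict Zc hkZ).toAlgebra
    haveI : IsScalarTower k Zc (D i) := IsScalarTower.of_algebraMap_eq fun _ => rfl
    haveI : FiniteDimensional k Zc := FiniteDimensional.of_injective
      (IsScalarTower.toAlgHom k Zc (D i)).toLinearMap Subtype.val_injective
    haveI : FiniteDimensional Zc (D i) := Module.Finite.of_restrictScalars_finite k Zc (D i)
    have hcomm : ¬ ∀ x : D i, x ∈ Zc := fun h => hab (Subring.mem_center_iff.1 (h b₀) a₀)
    obtain ⟨y, hy, hys⟩ := JacobsonNoether.exists_separable_and_not_isCentral (D := D i) (fun h => hcomm fun x => by rw [show Zc = Subring.center (D i) from rfl, h]; exact Subring.mem_top x)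
    have hlift : ∀ y : D i, IsSeparable k y →
        IsSeparable k (Pi.single i (Matrix.scalar (Fin (d i)) y) : Π i, Matrix (Fin (d i)) (Fin (d i)) (D i)) := by
      intro y hy
      by_cases hy0 : y = 0
      · subst hy0
        rw [map_zero, Pi.single_zero]
        exact separable_X.of_dvd (minpoly.dvd k _ (by simp))
      have hint : IsIntegral k y := Algebra.IsIntegral.isIntegral y
      have hcop : IsCoprime (X : k[X]) (minpoly k y) := irreducible_X.coprime_iff_not_dvd.2 fun h => by
        obtain ⟨q, hq⟩ := h
        have h2 : y * aeval y q = 0 := by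
          have := minpoly.aeval k y
          rw [hq, map_mul, aeval_X] at this; exact this
        rcases mul_eq_zero.1 h2 with h3 | h3
        · exact hy0 h3
        · have hq0 : q ≠ 0 := fun h => minpoly.ne_zero hint (by rw [hq, h, mul_zero])
          have := natDegree_le_natDegree (minpoly.min k y (p := q * C q.leadingCoeff⁻¹)
            (monic_mul_leadingCoeff_inv hq0) (by rw [map_mul, h3, zero_mul]))
          rw [hq, natDegree_mul X_ne_zero hq0, natDegree_X, natDegree_mul_C (inv_ne_zero (leadingCoeff_ne_zero.2 hq0))] at this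
          omega
      refine (separable_X.mul hy hcop).of_dvd (minpoly.dvd k _ ?_)
      refine funext fun j => ?_
      change Pi.evalAlgHom k (fun i => Matrix (Fin (d i)) (Fin (d i)) (D i)) j (aeval _ _) = 0
      rw [← aeval_algHom_apply]
      by_cases hji : j = i
      · subst hji
        rw [Pi.evalAlgHom_apply, Pi.single_eq_same, map_mul, show (Matrix.scalar (Fin (d j)) y) =
          (Matrix.scalarAlgHom (Fin (d j)) k (α := D j)) y from rfl, aeval_algHom_apply _ y (minpoly k y),
          minpoly.aeval, map_zero, mul_zero]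
      · rw [Pi.evalAlgHom_apply, Pi.single_eq_of_ne hji]; simp
    have hcentral : ∀ z : D i, IsSeparable k z → z ∈ Zc := by
      intro z hz
      rw [Subring.mem_center_iff]
      intro b
      have := congrFun (hsepc _ (hlift z hz) (Pi.single i (Matrix.scalar (Fin (d i)) b))) i
      simp only [Pi.mul_apply, Pi.single_eq_same, ← map_mul] at this
      exact Matrix.scalar_inj.1 this
    apply hy
    refine hcentral y ?_
    haveI : Algebra.IsSeparable k Zc := ⟨fun z => by
      let ζ : Π i, Matrix (Fin (d i)) (Fin (d i)) (D i) := Pi.single i (Matrix.scalar (Fin (d i)) (z : D i))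
      have hζ : ∀ b, b * ζ = ζ * b := by
        intro b
        refine funext fun j => ?_
        by_cases hji : j = i
        · subst hji
          simp only [Pi.mul_apply, ζ, Pi.single_eq_same]
          exact ((Matrix.scalar_commute _ (fun r => (Subring.mem_center_iff.1 z.2 r).symm) (b j)).eq).symm
        · simp [ζ, Pi.single_eq_of_ne hji]
      have h1 : IsSeparable k (e.symm ζ) := hcen _ fun b => e.injective (by simpa using hζ (e b))
      unfold IsSeparable at h1 ⊢
      rw [show minpoly k (e.symm ζ) = minpoly k ζ from minpoly.algHom_eq (e.symm : _ →ₐ[k] Z) e.symm.injective ζ] at h1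
      refine h1.of_dvd (minpoly.dvd k z ?_)
      apply Subtype.val_injective
      have h2 := congrArg (fun f : Π i, Matrix (Fin (d i)) (Fin (d i)) (D i) => f i) (minpoly.aeval k ζ)
      change Pi.evalAlgHom k (fun i => Matrix (Fin (d i)) (Fin (d i)) (D i)) i (aeval ζ _) = 0 at h2
      rw [← aeval_algHom_apply, Pi.evalAlgHom_apply] at h2
      simp only [ζ, Pi.single_eq_same] at h2
      rw [show Matrix.scalar (Fin (d i)) (z : D i) = (Matrix.scalarAlgHom (Fin (d i)) k (α := D i))
          ((IsScalarTower.toAlgHom k Zc (D i)) z) from rfl, aeval_algHom_apply, aeval_algHom_apply] at h2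
      exact Matrix.scalar_inj.1 (h2.trans (map_zero _).symm)⟩
    letI : Field Zc := inferInstanceAs (Field (Subring.center (D i)))
    set m := minpoly Zc y with hm
    have hyint : IsIntegral Zc y := Algebra.IsIntegral.isIntegral y
    haveI : Fact (Irreducible m) := ⟨minpoly.irreducible hyint⟩
    haveI : Module.Finite Zc (AdjoinRoot m) := (minpoly.monic hyint).finite_adjoinRoot
    haveI : Module.Finite k (AdjoinRoot m) := Module.Finite.trans Zc _
    have hrs : IsSeparable Zc (AdjoinRoot.root m) := by
      refine Polynomial.Separable.of_dvd hys (minpoly.dvd Zc _ ?_)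
      rw [AdjoinRoot.aeval_eq, AdjoinRoot.mk_self]
    have hks := IsSeparable.of_algebra_isSeparable_of_isSeparable k hrs
    refine Polynomial.Separable.of_dvd hks (minpoly.dvd k y ?_)
    have h1 : AdjoinRoot.mk m ((minpoly k (AdjoinRoot.root m)).map (algebraMap k Zc)) = 0 := by
      rw [← AdjoinRoot.aeval_eq, aeval_map_algebraMap, minpoly.aeval]
    obtain ⟨q, hq⟩ := AdjoinRoot.mk_eq_zero.1 h1
    rw [← aeval_map_algebraMap Zc y, hq, map_mul, minpoly.aeval, zero_mul]
  intro c b
  refine e.injective (funext fun i => ?_)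
  haveI : Subsingleton (Fin (d i)) := by rw [hone i]; infer_instance
  rw [map_mul, map_mul]
  ext p q
  simp only [Pi.mul_apply, Matrix.mul_apply]
  refine Finset.sum_congr rfl fun r _ => ?_
  rw [Subsingleton.elim r p, Subsingleton.elim q p, hDc i]

end

end Groth.Agent.CSA
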