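import Mathlib
import Groth.Agent.CSA.Antisym
import Groth.Agent.CSA.Azumaya
import Groth.Agent.CSA.GlobalSplitting

/-!
# The `n`-th tensor power of an Azumaya algebra of rank `n²` is an endomorphism algebra
-/

set_option autoImplicit false

universe u

open scoped TensorProduct

namespace Groth.Agent.CSA

set_option linter.style.haveILetI false

open Antisym

variable {R : Type u} [CommRing R] {A : Type u} [Ring A] [Algebra R A] {n : ℕ}

theorem lift_one_tmul {S B : Type u} [CommRing S] [Algebra R S] [Ring B] [Algebra R B] [Algebra S B] [IsScalarTower R S B]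
    (f : A →ₐ[R] B) (h : ∀ x y, Commute ((Algebra.ofId S B) x) (f y)) (a : A) :
    Algebra.TensorProduct.lift (Algebra.ofId S B) f h ((1 : S) ⊗ₜ[R] a) = f a := by
  rw [Algebra.TensorProduct.lift_tmul, map_one, one_mul]

theorem tpow_finite_projective (M : Type u) [AddCommGroup M] [Module R M] [Module.Finite R M] [Module.Projective R M] :
    ∀ k : ℕ, Module.Finite R (⨂[R] _ : Fin k, M) ∧ Module.Projective R (⨂[R] _ : Fin k, M)
  | 0 => ⟨Module.Finite.equiv (PiTensorProduct.isEmptyEquiv (Fin 0)).symm,
      Module.Projective.of_equiv (PiTensorProduct.isEmptyEquiv (s := fun _ : Fin 0 => M) (Fin 0)).symm⟩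
  | k + 1 => by
    obtain ⟨h1, h2⟩ := tpow_finite_projective M k
    haveI : Module.Projective R (⨂[R] _ : Fin 1, M) :=
      Module.Projective.of_equiv (PiTensorProduct.subsingletonEquiv (R := R) (s := fun _ : Fin 1 => M) 0).symm
    exact ⟨Module.Finite.equiv (TensorPower.mulEquiv (n := k) (m := 1) (R := R) (M := M)),
      Module.Projective.of_equiv (TensorPower.mulEquiv (n := k) (m := 1) (R := R) (M := M))⟩

theorem rankAtStalk_tpow (M : Type u) [AddCommGroup M] [Module R M] [Module.Finite R M] [Module.Projective R M]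
    (p : PrimeSpectrum R) :
    ∀ k : ℕ, Module.rankAtStalk (R := R) (⨂[R] _ : Fin k, M) p = Module.rankAtStalk (R := R) M p ^ k
  | 0 => by
    haveI : Nontrivial R := nontrivial_of_ne (1 : R) 0 fun h =>
      p.isPrime.ne_top ((Ideal.eq_top_iff_one _).mpr (h ▸ p.asIdeal.zero_mem))
    rw [congrFun (Module.rankAtStalk_eq_of_equiv (PiTensorProduct.isEmptyEquiv (R := R) (s := fun _ : Fin 0 => M) (Fin 0))) p,
      Module.rankAtStalk_eq_finrank_of_free, Pi.natCast_apply, Module.finrank_self, pow_zero, Nat.cast_id]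
  | k + 1 => by
    obtain ⟨h1, h2⟩ := tpow_finite_projective (R := R) M k
    haveI : Module.Projective R (⨂[R] _ : Fin 1, M) :=
      Module.Projective.of_equiv (PiTensorProduct.subsingletonEquiv (R := R) (s := fun _ : Fin 1 => M) 0).symm
    rw [← congrFun (Module.rankAtStalk_eq_of_equiv (TensorPower.mulEquiv (n := k) (m := 1) (R := R) (M := M))) p,
      Module.rankAtStalk_tensorProduct, Pi.mul_apply, rankAtStalk_tpow M p k,
      congrFun (Module.rankAtStalk_eq_of_equiv (PiTensorProduct.subsingletonEquiv (R := R) (s := fun _ : Fin 1 => M) 0)) p,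
      pow_succ]

/-- A surjection of finite projective modules of the same rank is bijective. -/
theorem bijective_of_surjective_of_rank {S : Type u} [CommRing S] {M N : Type u} [AddCommGroup M] [Module S M]
    [Module.Finite S M] [Module.Projective S M] [AddCommGroup N] [Module S N] [Module.Finite S N] [Module.Projective S N]
    (f : M →ₗ[S] N) (hf : Function.Surjective f)
    (h : ∀ p : PrimeSpectrum S, Module.rankAtStalk (R := S) M p = Module.rankAtStalk (R := S) N p) :
    Function.Bijective f := by
  obtain ⟨g, hg⟩ := Module.projective_lifting_property f LinearMap.id hf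
  have hfg : ∀ x, f (g x) = x := LinearMap.congr_fun hg
  let π : M →ₗ[S] LinearMap.ker f := (LinearMap.id - g ∘ₗ f).codRestrict _ fun x => by simp [hfg]
  haveI : Module.Finite S (LinearMap.ker f) := Module.Finite.of_surjective π fun x =>
    ⟨x.1, Subtype.ext (by simp [π, LinearMap.mem_ker.mp x.2])⟩
  haveI : Module.Projective S (LinearMap.ker f) := Module.Projective.of_split (LinearMap.ker f).subtype π
    (LinearMap.ext fun x => Subtype.ext (by simp [π, LinearMap.mem_ker.mp x.2]))
  let e : M ≃ₗ[S] N × LinearMap.ker f :=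
    { toFun := fun x => (f x, π x)
      map_add' := fun x y => Prod.ext (map_add f x y) (map_add π x y)
      map_smul' := fun r x => Prod.ext (map_smul f r x) (map_smul π r x)
      invFun := fun z => g z.1 + z.2.1
      left_inv := fun x => by simp [π]
      right_inv := fun z => Prod.ext (by simp [hfg, LinearMap.mem_ker.mp z.2.2])
        (Subtype.ext (by simp [π, hfg, LinearMap.mem_ker.mp z.2.2])) }
  have h0 : Module.rankAtStalk (R := S) (LinearMap.ker f) = 0 := funext fun p => by
    have h1 := congrFun (Module.rankAtStalk_eq_of_equiv e) p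
    rw [Module.rankAtStalk_prod, Pi.add_apply, h p] at h1
    simp only [Pi.zero_apply]
    omega
  haveI := Module.rankAtStalk_eq_zero_iff_subsingleton.mp h0
  exact ⟨LinearMap.ker_eq_bot.mp (Submodule.subsingleton_iff_eq_bot.mp inferInstance), hf⟩

theorem bijective_of_lTensor (S : Type u) [CommRing S] [Algebra R S] [Module.FaithfullyFlat R S] {B C : Type u}
    [Semiring B] [Algebra R B] [Semiring C] [Algebra R C] (g : B →ₐ[R] C)
    (h : Function.Bijective (LinearMap.lTensor S g.toLinearMap)) : Function.Bijective g :=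
  letI := Module.addCommMonoidToAddCommGroup R (M := B)
  letI := Module.addCommMonoidToAddCommGroup R (M := C)
  ⟨(Module.FaithfullyFlat.lTensor_injective_iff_injective R S g.toLinearMap).mp h.1,
    (Module.FaithfullyFlat.lTensor_surjective_iff_surjective R S g.toLinearMap).mp h.2⟩

section theta

variable {S : Type u} [CommRing S] [Algebra R S] (f : A →ₐ[R] Matrix (Fin n) (Fin n) S)

/-- `a ↦ f a₁ ⊗ ⋯ ⊗ f aₙ`. -/
noncomputable def powMulti : MultilinearMap R (fun _ : Fin n => A) (Matrix (Fin n → Fin n) (Fin n → Fin n) S) :=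
  ((kron S n).restrictScalars R).compLinearMap fun _ => f.toLinearMap

theorem powMulti_apply (a : Fin n → A) : powMulti f a = kron S n fun i => f (a i) := rfl

/-- The tensor power of a representation. -/
noncomputable def powHom : (⨂[R] _ : Fin n, A) →ₐ[R] Matrix (Fin n → Fin n) (Fin n → Fin n) S :=
  PiTensorProduct.liftAlgHom (powMulti f)
    (by rw [powMulti_apply]; simp only [Pi.one_apply, map_one]; exact kron_one)
    (fun x y => by rw [powMulti_apply, powMulti_apply, powMulti_apply, ← kron_mul]; simp only [Pi.mul_apply, map_mul]; rfl)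

theorem powHom_tprod (a : Fin n → A) : powHom f (PiTensorProduct.tprod R a) = kron S n fun i => f (a i) :=
  PiTensorProduct.lift.tprod a

/-- Its base change. -/
noncomputable def theta : S ⊗[R] (⨂[R] _ : Fin n, A) →ₐ[S] Matrix (Fin n → Fin n) (Fin n → Fin n) S :=
  Algebra.TensorProduct.lift (Algebra.ofId S _) (powHom f) fun s z => Algebra.commutes s _

theorem theta_tmul (s : S) (z : ⨂[R] _ : Fin n, A) : theta f (s ⊗ₜ z) = s • powHom f z := by
  rw [theta, Algebra.TensorProduct.lift_tmul, Algebra.ofId_apply, ← Algebra.smul_def]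

variable [IsAzumaya R A] (hspan : Submodule.span S (Set.range f) = ⊤)
  (hrk : ∀ p : PrimeSpectrum R, Module.rankAtStalk (R := R) A p = n ^ 2)

include hspan

theorem theta_surjective : Function.Surjective (theta f) := by
  classical
  rw [← AlgHom.coe_toLinearMap, ← LinearMap.range_eq_top, eq_top_iff]
  intro m _
  rw [Matrix.matrix_eq_sum_single m]
  refine Submodule.sum_mem _ fun x _ => Submodule.sum_mem _ fun y _ => ?_
  rw [show Matrix.single x y (m x y) = m x y • Matrix.single x y (1 : S) by rw [Matrix.smul_single, smul_eq_mul, mul_one],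
    ← kron_single x y]
  refine Submodule.smul_mem _ _ ?_
  have hrep : ∀ i, Matrix.single (x i) (y i) (1 : S) ∈ Submodule.span S (Set.range f) := fun i => by rw [hspan]; trivial
  choose c hc using fun i => (Finsupp.mem_span_range_iff_exists_finsupp.mp (hrep i))
  rw [show (fun i => Matrix.single (x i) (y i) (1 : S)) = fun i => ∑ a ∈ (c i).support, c i a • f a from
    funext fun i => (hc i).symm, MultilinearMap.map_sum_finset]
  refine Submodule.sum_mem _ fun h _ => ?_
  rw [MultilinearMap.map_smul_univ]
  refine Submodule.smul_mem _ _ ⟨(1 : S) ⊗ₜ[R] PiTensorProduct.tprod R h, ?_⟩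
  rw [AlgHom.toLinearMap_apply, theta_tmul, one_smul, powHom_tprod]

include hrk

theorem theta_bijective : Function.Bijective (theta f) := by
  obtain ⟨_, _⟩ := tpow_finite_projective (R := R) A n
  refine bijective_of_surjective_of_rank (theta f).toLinearMap (theta_surjective f hspan) fun p => ?_
  haveI : Nontrivial S := nontrivial_of_ne (1 : S) 0 fun h =>
    p.isPrime.ne_top ((Ideal.eq_top_iff_one _).mpr (h ▸ p.asIdeal.zero_mem))
  rw [Module.rankAtStalk_baseChange, rankAtStalk_tpow, hrk, Module.rankAtStalk_eq_finrank_of_free, Pi.natCast_apply,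
    Nat.cast_id, Module.finrank_matrix, Module.finrank_self, Fintype.card_fun, Fintype.card_fin, mul_one, ← pow_mul,
    ← pow_add, two_mul]

theorem lift_bijective : Function.Bijective (Algebra.TensorProduct.lift (Algebra.ofId S (Matrix (Fin n) (Fin n) S)) f
    fun s a => Algebra.commutes s (f a)) := by
  let F : S ⊗[R] A →ₐ[S] Matrix (Fin n) (Fin n) S := Algebra.TensorProduct.lift (Algebra.ofId S _) f
    fun s a => Algebra.commutes s (f a)
  refine bijective_of_surjective_of_rank F.toLinearMap ?_ fun p => ?_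
  · rw [← LinearMap.range_eq_top, eq_top_iff, ← hspan, Submodule.span_le]
    rintro _ ⟨a, rfl⟩
    exact ⟨(1 : S) ⊗ₜ[R] a, lift_one_tmul f (fun s a => Algebra.commutes s (f a)) a⟩
  haveI : Nontrivial S := nontrivial_of_ne (1 : S) 0 fun h =>
    p.isPrime.ne_top ((Ideal.eq_top_iff_one _).mpr (h ▸ p.asIdeal.zero_mem))
  rw [Module.rankAtStalk_baseChange, hrk, Module.rankAtStalk_eq_finrank_of_free, Pi.natCast_apply, Nat.cast_id,
    Module.finrank_matrix, Module.finrank_self, Fintype.card_fin, mul_one, sq]

/-- The antisymmetriser does not depend on the splitting. -/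
theorem theta_indep (f' : A →ₐ[R] Matrix (Fin n) (Fin n) S)
    (z : S ⊗[R] (⨂[R] _ : Fin n, A)) (hz : theta f z = asym S n) : theta f' z = asym S n := by
  let F : S ⊗[R] A →ₐ[S] Matrix (Fin n) (Fin n) S := Algebra.TensorProduct.lift (Algebra.ofId S _) f
    fun s a => Algebra.commutes s (f a)
  let F' : S ⊗[R] A →ₐ[S] Matrix (Fin n) (Fin n) S := Algebra.TensorProduct.lift (Algebra.ofId S _) f'
    fun s a => Algebra.commutes s (f' a)
  let α : Matrix (Fin n) (Fin n) S →ₐ[S] Matrix (Fin n) (Fin n) S :=
    F'.comp (AlgEquiv.ofBijective F (lift_bijective f hspan hrk)).symm.toAlgHom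
  have hα : ∀ a, α (f a) = f' a := fun a => by
    have h1 : F ((1 : S) ⊗ₜ[R] a) = f a :=
      lift_one_tmul f (fun s a => Algebra.commutes s (f a)) a
    show F' ((AlgEquiv.ofBijective F (lift_bijective f hspan hrk)).symm (f a)) = f' a
    rw [← h1, show F ((1 : S) ⊗ₜ[R] a) = AlgEquiv.ofBijective F (lift_bijective f hspan hrk) ((1 : S) ⊗ₜ[R] a) from rfl,
      AlgEquiv.symm_apply_apply]
    exact lift_one_tmul f' (fun s a => Algebra.commutes s (f' a)) a
  have key : ∀ w, theta f' w = kronMap α.toLinearMap (theta f w) := by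
    intro w
    induction w using TensorProduct.induction_on with
    | zero => simp
    | add x y hx hy => rw [map_add, map_add, hx, hy, map_add]
    | tmul s y =>
      rw [theta_tmul, theta_tmul, map_smul]
      congr 1
      induction y using PiTensorProduct.induction_on with
      | smul_tprod r a =>
        rw [map_smul, map_smul, powHom_tprod, powHom_tprod, LinearMap.map_smul_of_tower, kronMap_kron]
        simp only [AlgHom.toLinearMap_apply, hα]
      | add x y hx hy => rw [map_add, hx, hy, map_add, map_add]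
  rw [key, hz, kronMap_asym]

end theta

theorem map_powHom {S T : Type u} [CommRing S] [Algebra R S] [CommRing T] [Algebra R T] (g : S →ₐ[R] T)
    (f : A →ₐ[R] Matrix (Fin n) (Fin n) S) (y : ⨂[R] _ : Fin n, A) :
    (powHom f y).map g = powHom (g.mapMatrix.comp f) y := by
  have : g.mapMatrix.comp (powHom f) = powHom (g.mapMatrix.comp f) := by
    refine AlgHom.toLinearMap_injective (PiTensorProduct.ext (MultilinearMap.ext fun a => ?_))
    simp only [LinearMap.compMultilinearMap_apply, AlgHom.toLinearMap_apply, AlgHom.comp_apply, powHom_tprod]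
    exact map_kron g.toRingHom _
  exact congrArg (fun F : (⨂[R] _ : Fin n, A) →ₐ[R] _ => F y) this

theorem map_theta {S T : Type u} [CommRing S] [Algebra R S] [CommRing T] [Algebra R T] (g : S →ₐ[R] T)
    (f : A →ₐ[R] Matrix (Fin n) (Fin n) S) (z : S ⊗[R] (⨂[R] _ : Fin n, A)) :
    theta (g.mapMatrix.comp f) (LinearMap.rTensor _ g.toLinearMap z) = (theta f z).map g := by
  induction z using TensorProduct.induction_on with
  | zero => simp
  | add x y hx hy => rw [map_add, map_add, hx, hy, map_add, Matrix.map_add _ (map_add g)]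
  | tmul s y =>
    rw [LinearMap.rTensor_tmul, AlgHom.toLinearMap_apply, theta_tmul, theta_tmul, ← map_powHom,
      Matrix.map_smul' _ _ _ (map_mul g)]

theorem span_range_map {S T : Type u} [CommRing S] [Algebra R S] [CommRing T] [Algebra R T] (g : S →ₐ[R] T)
    (f : A →ₐ[R] Matrix (Fin n) (Fin n) S) (hspan : Submodule.span S (Set.range f) = ⊤) :
    Submodule.span T (Set.range (g.mapMatrix.comp f)) = ⊤ := by
  classical
  rw [eq_top_iff]
  intro m _
  rw [Matrix.matrix_eq_sum_single m]
  refine Submodule.sum_mem _ fun i _ => Submodule.sum_mem _ fun j _ => ?_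
  rw [show Matrix.single i j (m i j) = m i j • Matrix.single i j (1 : T) by rw [Matrix.smul_single, smul_eq_mul, mul_one]]
  refine Submodule.smul_mem _ _ ?_
  have h1 : Matrix.single i j (1 : S) ∈ Submodule.span S (Set.range f) := by rw [hspan]; trivial
  obtain ⟨c, hc⟩ := Finsupp.mem_span_range_iff_exists_finsupp.mp h1
  have h2 := congrArg g.mapMatrix hc
  rw [Finsupp.sum, map_sum, AlgHom.mapMatrix_apply g (Matrix.single i j 1), Matrix.map_single _ _ _ g, map_one] at h2
  rw [← h2]
  refine Submodule.sum_mem _ fun a _ => ?_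
  rw [show g.mapMatrix (c a • f a) = g (c a) • (g.mapMatrix.comp f) a from Matrix.map_smul' g.toRingHom _ _ (map_mul g)]
  exact Submodule.smul_mem _ _ (Submodule.subset_span ⟨a, rfl⟩)

theorem exists_of_tmul_comm {R' M : Type u} [CommRing R'] [Algebra R R'] [Module.FaithfullyFlat R R'] [AddCommGroup M]
    [Module R M] [Module.Flat R M] (z : R' ⊗[R] M)
    (h : LinearMap.rTensor M (Algebra.TensorProduct.includeLeft : R' →ₐ[R] R' ⊗[R] R').toLinearMap z =
      LinearMap.rTensor M (Algebra.TensorProduct.includeRight : R' →ₐ[R] R' ⊗[R] R').toLinearMap z) :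
    ∃ m : M, (1 : R') ⊗ₜ[R] m = z := by
  let d : R' →ₗ[R] R' ⊗[R] R' := (Algebra.TensorProduct.includeLeft : R' →ₐ[R] R' ⊗[R] R').toLinearMap -
    (Algebra.TensorProduct.includeRight : R' →ₐ[R] R' ⊗[R] R').toLinearMap
  have hex : Function.Exact (Algebra.linearMap R R') d := fun c => by
    constructor
    · intro hc
      have hc' : c ⊗ₜ[R] (1 : R') = (1 : R') ⊗ₜ[R] c := by simpa [d, sub_eq_zero] using hc
      let N := LinearMap.range (Algebra.linearMap R R')
      have h0 : N.mkQ (1 : R') = 0 := (Submodule.Quotient.mk_eq_zero N).mpr ⟨1, map_one (algebraMap R R')⟩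
      have h1 : (1 : R') ⊗ₜ[R] N.mkQ c = 0 := by
        have := congrArg (LinearMap.lTensor R' N.mkQ) hc'
        rw [LinearMap.lTensor_tmul, LinearMap.lTensor_tmul, h0, TensorProduct.tmul_zero] at this
        exact this.symm
      exact (Submodule.Quotient.mk_eq_zero N).mp (Module.FaithfullyFlat.tensorProduct_mk_injective (A := R) (B := R') _
        (by rw [map_zero]; exact h1))
    · rintro ⟨r, rfl⟩
      simp [d, Algebra.TensorProduct.algebraMap_apply, sub_eq_zero, Algebra.TensorProduct.tmul_one_eq_one_tmul]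
  obtain ⟨y, hy⟩ := (Module.Flat.rTensor_exact M hex z).mp (by
    rw [LinearMap.rTensor_sub, LinearMap.sub_apply, h, sub_self])
  refine ⟨TensorProduct.lid R M y, ?_⟩
  rw [← hy]
  clear hy
  induction y using TensorProduct.induction_on with
  | zero => simp
  | add a b ha hb => rw [map_add, TensorProduct.tmul_add, ha, hb, map_add]
  | tmul r m => simp [TensorProduct.smul_tmul', Algebra.algebraMap_eq_smul_one]

theorem exists_tpow_algEquiv_end [IsAzumaya R A]
    (hrk : ∀ p : PrimeSpectrum R, Module.rankAtStalk (R := R) A p = n ^ 2) :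
    ∃ (E : Type u) (_ : AddCommGroup E) (_ : Module R E), Module.Finite R E ∧ Module.Projective R E ∧
      (∀ p : PrimeSpectrum R, Module.rankAtStalk (R := R) E p = n ^ n) ∧
      Nonempty ((⨂[R] _ : Fin n, A) ≃ₐ[R] Module.End R E) := by
  classical
  obtain ⟨R', _, _, _, ⟨φ⟩⟩ := exists_global_splitting R A n hrk
  obtain ⟨_, _⟩ := tpow_finite_projective (R := R) A n
  let f : A →ₐ[R] Matrix (Fin n) (Fin n) R' := (φ.toAlgHom.restrictScalars R).comp Algebra.TensorProduct.includeRight
  have hspan : Submodule.span R' (Set.range f) = ⊤ := by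
    rw [eq_top_iff]
    intro m _
    obtain ⟨z, rfl⟩ := φ.surjective m
    induction z using TensorProduct.induction_on with
    | zero => simp
    | add a b ha hb => rw [map_add]; exact add_mem (ha trivial) (hb trivial)
    | tmul r a =>
      rw [show r ⊗ₜ[R] a = r • ((1 : R') ⊗ₜ[R] a) by rw [TensorProduct.smul_tmul', smul_eq_mul, mul_one], map_smul]
      exact Submodule.smul_mem _ _ (Submodule.subset_span ⟨a, rfl⟩)
  have hθ := theta_bijective f hspan hrk
  obtain ⟨z, hz⟩ := hθ.2 (asym R' n)
  let iL : R' →ₐ[R] R' ⊗[R] R' := Algebra.TensorProduct.includeLeft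
  let iR : R' →ₐ[R] R' ⊗[R] R' := Algebra.TensorProduct.includeRight
  obtain ⟨s, hs⟩ : ∃ s : ⨂[R] _ : Fin n, A, (1 : R') ⊗ₜ[R] s = z := by
    refine exists_of_tmul_comm z ?_
    have hspanR := span_range_map iR f hspan
    have hspanL := span_range_map iL f hspan
    refine (theta_bijective (iL.mapMatrix.comp f) hspanL hrk).1 ?_
    rw [map_theta iL f z, hz, show (asym R' n).map iL = asym (R' ⊗[R] R') n from map_asym iL.toRingHom]
    exact (theta_indep (iR.mapMatrix.comp f) hspanR hrk (iL.mapMatrix.comp f) _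
      (by rw [map_theta iR f z, hz]; exact map_asym iR.toRingHom)).symm
  let ρ : (⨂[R] _ : Fin n, A) →ₗ[R] (⨂[R] _ : Fin n, A) := LinearMap.mulRight R s
  let E := LinearMap.range ρ
  let I := Fin n → Fin n
  let Θ : R' ⊗[R] (⨂[R] _ : Fin n, A) ≃ₐ[R'] Matrix I I R' := AlgEquiv.ofBijective (theta f) hθ
  have hρ : ∀ y, Θ (ρ.baseChange R' y) = Θ y * asym R' n := fun y => by
    induction y using TensorProduct.induction_on with
    | zero => simp
    | add a b ha hb => rw [map_add, map_add, ha, hb, map_add, add_mul]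
    | tmul r a =>
      rw [LinearMap.baseChange_tmul, ← hz, ← hs]
      show theta f (r ⊗ₜ (a * s)) = theta f (r ⊗ₜ a) * theta f ((1 : R') ⊗ₜ s)
      rw [← map_mul, Algebra.TensorProduct.tmul_mul_tmul, mul_one]
  let j : R' ⊗[R] E →ₗ[R'] R' ⊗[R] (⨂[R] _ : Fin n, A) := E.subtype.baseChange R'
  have hj : Function.Injective j :=
    Module.Flat.lTensor_preserves_injective_linearMap (M := R') E.subtype Subtype.val_injective
  let ψ : (I → R') →ₗ[R'] R' ⊗[R] (⨂[R] _ : Fin n, A) :=
    Θ.symm.toLinearMap ∘ₗ
      { toFun := fun w => Matrix.vecMulVec w (wvec R' n)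
        map_add' := fun v w => Matrix.add_vecMulVec v w _
        map_smul' := fun c v => Matrix.smul_vecMulVec c v _ }
  have hψ : ∀ w, Θ (ψ w) = Matrix.vecMulVec w (wvec R' n) := fun w => Θ.apply_symm_apply _
  have hψi : Function.Injective ψ := fun v w h => by
    have h1 := congrArg Θ h
    rw [hψ, hψ] at h1
    funext x
    simpa [Matrix.vecMulVec_apply, wvec_id] using congrFun (congrFun h1 x) id
  have hrange : LinearMap.range j = LinearMap.range ψ := by
    have hfac : ρ.baseChange R' = j ∘ₗ ρ.rangeRestrict.baseChange R' := by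
      rw [← LinearMap.baseChange_comp]; rfl
    have hrr : Function.Surjective (ρ.rangeRestrict.baseChange R') :=
      LinearMap.lTensor_surjective R' ρ.surjective_rangeRestrict
    rw [show LinearMap.range j = LinearMap.range (ρ.baseChange R') by
      rw [hfac, LinearMap.range_comp_of_range_eq_top _ (LinearMap.range_eq_top.mpr hrr)]]
    apply le_antisymm
    · rintro _ ⟨y, rfl⟩
      refine ⟨(Θ y).mulVec (wvec R' n), Θ.injective ?_⟩
      rw [hψ, hρ, asym, Matrix.mul_vecMulVec]
    · rintro _ ⟨w, rfl⟩
      refine ⟨Θ.symm (Matrix.vecMulVec w (Pi.single id 1)), Θ.injective ?_⟩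
      rw [hψ, hρ, Θ.apply_symm_apply, asym, Matrix.mul_vecMulVec, Matrix.vecMulVec_mulVec, single_dotProduct,
        one_mul, wvec_id]
      simp
  let ε : (I → R') ≃ₗ[R'] R' ⊗[R] E :=
    (LinearEquiv.ofInjective ψ hψi).trans ((LinearEquiv.ofEq _ _ hrange.symm).trans (LinearEquiv.ofInjective j hj).symm)
  have hjε : ∀ w, j (ε w) = ψ w := fun w => by
    show j ((LinearEquiv.ofInjective j hj).symm _) = _
    exact congrArg Subtype.val ((LinearEquiv.ofInjective j hj).apply_symm_apply _)
  haveI : Module.Finite R' (R' ⊗[R] E) := Module.Finite.equiv ε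
  haveI : Module.Projective R' (R' ⊗[R] E) := Module.Projective.of_equiv ε
  obtain ⟨hEf, hEp⟩ := finite_projective_of_faithfullyFlat (R := R) R' E
  refine ⟨E, inferInstance, inferInstance, hEf, hEp, fun p => ?_, ?_⟩
  · obtain ⟨q, rfl⟩ := PrimeSpectrum.comap_surjective_of_faithfullyFlat (A := R) (B := R') p
    haveI : Nontrivial R' := nontrivial_of_ne (1 : R') 0 fun h =>
      q.isPrime.ne_top ((Ideal.eq_top_iff_one _).mpr (h ▸ q.asIdeal.zero_mem))
    rw [← Module.rankAtStalk_baseChange (R := R) (M := E) (S := R') q,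
      ← congrFun (Module.rankAtStalk_eq_of_equiv ε) q, Module.rankAtStalk_eq_finrank_of_free, Pi.natCast_apply,
      Nat.cast_id, Module.finrank_fintype_fun_eq_card, Fintype.card_fun, Fintype.card_fin]
  have hE : ∀ a : (⨂[R] _ : Fin n, A), ∀ x ∈ E, LinearMap.mulLeft R a x ∈ E := by
    intro a x hx
    obtain ⟨y, hy⟩ := hx
    refine ⟨a * y, ?_⟩
    show a * y * s = a * x
    rw [← hy]
    exact mul_assoc a y s
  let Φ : (⨂[R] _ : Fin n, A) →ₐ[R] Module.End R E :=
    { toFun := fun a => (LinearMap.mulLeft R a).restrict (p := E) (q := E) (hE a)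
      map_one' := LinearMap.ext fun x => Subtype.ext (one_mul (x : ⨂[R] _ : Fin n, A))
      map_mul' := fun a b => LinearMap.ext fun x => Subtype.ext (mul_assoc a b _)
      map_zero' := LinearMap.ext fun x => Subtype.ext (zero_mul (x : ⨂[R] _ : Fin n, A))
      map_add' := fun a b => LinearMap.ext fun x => Subtype.ext (add_mul a b _)
      commutes' := fun r => LinearMap.ext fun x => Subtype.ext (Algebra.smul_def r _).symm }
  let L := (LinearMap.baseChangeHom R R' E E).liftBaseChange R'
  have hL : Function.Bijective L := liftBaseChange_baseChangeHom_bijective R' E E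
  let G : R' ⊗[R] (⨂[R] _ : Fin n, A) →ₗ[R'] Module.End R' (R' ⊗[R] E) := L ∘ₗ Φ.toLinearMap.baseChange R'
  have hG : ∀ y x, j (G y x) = y * j x := by
    intro y x
    induction y using TensorProduct.induction_on with
    | zero => simp
    | add a b ha hb => rw [map_add, LinearMap.add_apply, map_add, ha, hb, add_mul]
    | tmul r a =>
      induction x using TensorProduct.induction_on with
      | zero => simp
      | add c d hc hd => rw [map_add, map_add, hc, hd, map_add, mul_add]
      | tmul t e =>
        show j (r • (t ⊗ₜ[R] (Φ a e))) = (r ⊗ₜ[R] a) * (t ⊗ₜ[R] (e : ⨂[R] _ : Fin n, A))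
        rw [map_smul, LinearMap.baseChange_tmul, TensorProduct.smul_tmul', Algebra.TensorProduct.tmul_mul_tmul]
        rfl
  have hGb : Function.Bijective G := by
    let C : Matrix I I R' ≃ₗ[R'] Module.End R' (R' ⊗[R] E) := Matrix.toLin' ≪≫ₗ ε.conj
    have : ⇑G = ⇑C ∘ ⇑Θ := by
      funext y
      refine LinearMap.ext fun x => hj ?_
      obtain ⟨w, rfl⟩ := ε.surjective x
      rw [hG, hjε]
      show y * ψ w = j (ε (Matrix.toLin' (Θ y) (ε.symm (ε w))))
      rw [ε.symm_apply_apply, hjε, Matrix.toLin'_apply]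
      refine Θ.injective ?_
      rw [map_mul, hψ, hψ, Matrix.mul_vecMulVec]
    rw [this]
    exact C.bijective.comp Θ.bijective
  have hlb : Function.Bijective (LinearMap.lTensor R' Φ.toLinearMap) := by
    have h1 : Function.Bijective (⇑L ∘ ⇑(Φ.toLinearMap.baseChange R')) := hGb
    exact (Function.Bijective.of_comp_iff' hL _).mp h1
  exact ⟨AlgEquiv.ofBijective Φ (bijective_of_lTensor R' Φ hlb)⟩

end Groth.Agent.CSA
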